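import Cfsg.Agent.H19.J4V.Pattern
import Cfsg.Agent.H38.FiM24.Glue

/-!
The normalizer of an elementary subgroup of order `2 ^ 11` in a group of `J₄` type induces `M₂₄` on
twenty-four points, the pairs of points being the elements outside the class of `z`.
-/

set_option autoImplicit false
set_option maxRecDepth 20000
set_option maxHeartbeats 400000
set_option linter.unusedSectionVars false
set_option linter.style.haveILetI false

namespace H19.J4V

open Subgroup Cfsg.Agent.H69.J4 H88.J4Fusion H73.FiM24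

/-- Eleven bits as a vector. -/
def vbits (x : ℕ) : Fin 11 → ZMod 2 := fun i : Fin 11 => if x.testBit i.val then 1 else 0

theorem vbits_xor (x y : ℕ) : vbits (x ^^^ y) = vbits x + vbits y := funext fun i => by
  show (if (x ^^^ y).testBit i.val then (1 : ZMod 2) else 0) = _ + _
  rw [Nat.testBit_xor]
  simp only [vbits]
  cases x.testBit i.val <;> cases y.testBit i.val <;> decide

theorem vbits_inj {x y : ℕ} (hx : x < 2048) (hy : y < 2048) (h : vbits x = vbits y) : x = y := by
  refine Nat.eq_of_testBit_eq fun i => ?_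
  rcases Nat.lt_or_ge i 11 with hi | hi
  · have := congrFun h ⟨i, hi⟩
    simp only [vbits] at this
    revert this
    cases x.testBit i <;> cases y.testBit i <;> simp
  · rw [Nat.testBit_lt_two_pow (lt_of_lt_of_le hx (Nat.pow_le_pow_right (by norm_num) hi : 2 ^ 11 ≤ 2 ^ i)),
      Nat.testBit_lt_two_pow (lt_of_lt_of_le hy (Nat.pow_le_pow_right (by norm_num) hi : 2 ^ 11 ≤ 2 ^ i))]

theorem labT_lt (p q : Fin 24) : labT p q < 2048 := by
  have h : ∀ p : Fin 24, ptsN.getD p 0 < 2048 := by decide +kernel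
  exact Nat.xor_lt_two_pow (n := 11) (h p) (h q)

theorem labT_comm (p q : ℕ) : labT p q = labT q p := Nat.xor_comm ..

theorem labT_ne {p q : Fin 24} (h : p ≠ q) : labT p q ≠ 0 := by
  intro e
  have hb := (List.all_eq_true.1 lab_sub) p (List.mem_range.2 p.2)
  have hb := (List.all_eq_true.1 hb) q (List.mem_range.2 q.2)
  rw [e, Bool.or_eq_true] at hb
  rcases hb with hb | hb
  · exact h (Fin.ext (Nat.eq_of_beq_eq_true hb))
  · exact absurd hb (by decide +kernel)

theorem labT_far {p q r s : Fin 24} (h1 : p ≠ q) (h2 : r ≠ s) (h3 : p ≠ r) (h4 : p ≠ s) (h5 : q ≠ r)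
    (h6 : q ≠ s) :
    labT p q ^^^ labT r s ≠ 0 ∧ (tMask 653).testBit (labT p q ^^^ labT r s) = false := by
  have key : ∀ p q r s : Fin 24, q < p → s < r → p ≠ r → p ≠ s → q ≠ r → q ≠ s →
      labT p q ^^^ labT r s ≠ 0 ∧ (tMask 653).testBit (labT p q ^^^ labT r s) = false := by
    intro p q r s hqp hsr h3 h4 h5 h6
    have hb := (List.all_eq_true.1 lab_far) p (List.mem_range.2 p.2)
    have hb := (List.all_eq_true.1 hb) q (List.mem_range.2 hqp)
    have hb := (List.all_eq_true.1 hb) r (List.mem_range.2 r.2)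
    simp only [Bool.or_eq_true, List.all_eq_true] at hb
    rcases hb with (hb | hb) | hb
    · exact absurd (Fin.ext (Nat.eq_of_beq_eq_true hb)) h3.symm
    · exact absurd (Fin.ext (Nat.eq_of_beq_eq_true hb)) h5.symm
    have hb := hb s (List.mem_range.2 hsr)
    simp only [Bool.and_eq_true, Bool.not_eq_true'] at hb
    rcases hb with (hb | hb) | ⟨ha, hb⟩
    · exact absurd (Fin.ext (Nat.eq_of_beq_eq_true hb)) h4.symm
    · exact absurd (Fin.ext (Nat.eq_of_beq_eq_true hb)) h6.symm
    · exact ⟨fun e => by rw [e] at ha; exact absurd ha (by decide), hb⟩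
  rcases lt_or_gt_of_ne h1 with a | a <;> rcases lt_or_gt_of_ne h2 with b | b
  · rw [labT_comm p q, labT_comm r s]; exact key q p s r a b h6 h5 h4 h3
  · rw [labT_comm p q]; exact key q p r s a b h5 h6 h3 h4
  · rw [labT_comm r s]; exact key p q s r a b h4 h3 h6 h5
  · exact key p q r s a b h3 h4 h5 h6

theorem labT_mem {p q : Fin 24} (h : p ≠ q) : (tMask 653).testBit (labT p q) = true := by
  have hb := (List.all_eq_true.1 lab_sub) p (List.mem_range.2 p.2)
  have hb := (List.all_eq_true.1 hb) q (List.mem_range.2 q.2)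
  rw [Bool.or_eq_true] at hb
  exact hb.resolve_left fun e => h (Fin.ext (Nat.eq_of_beq_eq_true e))

/-- The labels. -/
def labels : PairLabels (Fin 11 → ZMod 2) (Fin 24) where
  t p q := vbits (labT p q)
  two v := funext fun _ => ZModModule.add_self _
  card_V := by simp
  card_pts := Fintype.card_fin 24
  add p q r := by
    rw [← vbits_xor]
    refine congrArg vbits ?_
    simp only [labT]
    rw [Nat.xor_assoc, ← Nat.xor_assoc (ptsN.getD q 0), Nat.xor_self, Nat.zero_xor]
  nz p q h e := labT_ne h (vbits_inj (labT_lt p q) (by norm_num)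
    (e.trans (funext fun i => by simp [vbits])))
  inj p q r s h e := by
    have e := vbits_inj (labT_lt p q) (labT_lt r s) e
    have hrs : r ≠ s := fun he => labT_ne h (by rw [e, he, labT, Nat.xor_self])
    have hinj : ∀ {a b : Fin 24}, ptsN.getD a 0 = ptsN.getD b 0 → a = b := by
      intro a b hab
      by_contra hne
      exact labT_ne hne (by rw [labT, hab, Nat.xor_self])
    simp only [labT] at e
    by_cases hpr : r = p
    · subst hpr
      exact Or.inl ⟨rfl, hinj ((Nat.xor_right_inj).1 e).symm⟩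
    by_cases hqs : s = q
    · subst hqs
      exact Or.inl ⟨hinj ((Nat.xor_left_inj).1 e).symm, rfl⟩
    by_cases hps : s = p
    · subst hps
      refine Or.inr ⟨hinj ?_, rfl⟩
      rw [Nat.xor_comm (ptsN.getD r 0)] at e
      exact ((Nat.xor_right_inj).1 e).symm
    by_cases hqr : r = q
    · subst hqr
      refine Or.inr ⟨rfl, hinj ?_⟩
      rw [Nat.xor_comm (ptsN.getD r 0)] at e
      exact ((Nat.xor_left_inj).1 e).symm
    exact absurd (show labT p q ^^^ labT r s = 0 by rw [labT, labT, e, Nat.xor_self])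
      (labT_far h hrs (Ne.symm hpr) (Ne.symm hps) (Ne.symm hqr) (Ne.symm hqs)).1
  far p q r s h1 h2 h3 h4 h5 h6 a b e := by
    obtain ⟨h0, hm⟩ := labT_far h1 h2 h3 h4 h5 h6
    rw [← vbits_xor] at e
    have e := vbits_inj (Nat.xor_lt_two_pow (n := 11) (labT_lt p q) (labT_lt r s)) (labT_lt a b) e
    rcases eq_or_ne a b with rfl | hab
    · exact h0 (by rw [e, labT, Nat.xor_self])
    · rw [e, labT_mem hab] at hm
      exact absurd hm (by decide)

variable {G : Type*} [Group G] [Finite G]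
variable {z : G} {E P N : Subgroup G} {d : Data z E P} {R : Real d}
variable {e : ↥(centralizer ({z} : Set G)) →* MulAut ↥Cfsg.Spor.M22}

/-- The coordinates of an element. -/
noncomputable def co (F : Lifts R) (t : R.V0) : ℕ := (pt_surj F t.2).choose

theorem co_lt (F : Lifts R) (t : R.V0) : co F t < 2048 := (pt_surj F t.2).choose_spec.1

theorem pt_co (F : Lifts R) (t : R.V0) : F.pt (co F t) = t := (pt_surj F t.2).choose_spec.2

theorem co_pt (F : Lifts R) {a : ℕ} (ha : a < 2048) : co F ⟨F.pt a, pt_mem F a⟩ = a :=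
  pt_inj F (co_lt F _) ha (pt_co F _)

theorem co_mul (F : Lifts R) (s t : R.V0) : co F (s * t) = co F s ^^^ co F t :=
  pt_inj F (co_lt F _) (Nat.xor_lt_two_pow (n := 11) (co_lt F s) (co_lt F t))
    (by rw [pt_co, pt_xor F, pt_co, pt_co]; rfl)

theorem conj_iff_zO {t : G} (ht : t ∈ R.V0) : IsConj z t ↔ t ∈ zO R := by
  rw [isConj_iff]
  exact ⟨fun ⟨g, hg⟩ => ⟨ht, g, hg⟩, fun h => h.2⟩

theorem vbits_co_bij (F : Lifts R) : Function.Bijective fun t : R.V0 => vbits (co F t) := by
  refine (Nat.bijective_iff_injective_and_card _).2 ⟨fun a b h => Subtype.ext ?_, ?_⟩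
  · rw [← pt_co F a, ← pt_co F b, vbits_inj (co_lt F a) (co_lt F b) h]
  · rw [R.card_V0, Nat.card_eq_fintype_card]
    simp

theorem labels_V0 (F : Lifts R)
    (hM : ∀ a < 2048, (tMask 653).testBit a = true ↔ F.pt a ∈ outside R) (t : R.V0) :
    ((t : G) ≠ 1 ∧ ¬ IsConj z (t : G)) ↔ ∃ p q, p ≠ q ∧ vbits (co F t) = labels.t p q := by
  rw [conj_iff_zO t.2]
  have h := hM _ (co_lt F t)
  rw [pt_co] at h
  constructor
  · intro hh
    have hb := (List.all_eq_true.1 lab_sup) _ (List.mem_range.2 (co_lt F t))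
    rw [h.2 ⟨t.2, hh⟩] at hb
    obtain ⟨p, hp, hb⟩ := List.any_eq_true.1 (by simpa using hb :
      ((List.range 24).any fun p => (List.range p).any fun q => Nat.beq (labT p q) (co F t)) = true)
    obtain ⟨q, hq, hb⟩ := List.any_eq_true.1 hb
    have hp := List.mem_range.1 hp
    have hq := List.mem_range.1 hq
    exact ⟨⟨p, hp⟩, ⟨q, by omega⟩, Fin.ne_of_val_ne (by simp; omega),
      congrArg vbits (Nat.eq_of_beq_eq_true hb).symm⟩
  · rintro ⟨p, q, hpq, he⟩
    rw [vbits_inj (co_lt F t) (labT_lt p q) he] at h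
    exact (h.1 (labT_mem hpq)).2

/-- The normalizer induces the Mathieu group. -/
theorem exists_quotient [IsSimpleGroup G] (hG : ¬ IsMulCommutative G) (o : Outer z E P N e) :
    ∃ _ : (R.V0.subgroupOf (NV R)).Normal,
      Nonempty (↥(NV R) ⧸ R.V0.subgroupOf (NV R) ≃* ↥Cfsg.M24) := by
  obtain ⟨F, hS, hM⟩ := exists_pattern (R := R) hG o
  obtain ⟨j, hj, h45, hcard⟩ := card_NV hS o
  refine H38.FiM24.exists_iso le_normalizer (fun m hm a ha => (mem_normalizer_iff.1 hm a).1 ha)
    (fun a ha b hb => V0_comm R ha hb) (fun m _ hfix => (centralizer_V0 R o).le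
      (mem_centralizer_iff.2 fun a ha => (mul_inv_eq_iff_eq_mul.1 (hfix a ha)).symm))
    labels (fun t => vbits (co F t)) (fun a b => by simp only [co_mul, vbits_xor]) (vbits_co_bij F)
    {t | t ∈ R.V0 ∧ t ≠ 1 ∧ ¬ IsConj z t} (fun t => ?_) ?_ ?_
  · rw [← labels_V0 F hM t]
    exact ⟨fun h => h.2, fun h => ⟨t.2, h⟩⟩
  · rintro m hm a ⟨ha, h1, h2⟩
    refine ⟨(mem_normalizer_iff.1 hm a).1 ha, fun h => h1 (conj_eq_one_iff.1 h),
      fun h => h2 (h.trans (isConj_iff.2 ⟨m⁻¹, by group⟩))⟩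
  · rw [hcard]
    obtain ⟨k, rfl⟩ := h45
    exact ⟨6 * k, by ring⟩

theorem card_NV0 [IsSimpleGroup G] (hG : ¬ IsMulCommutative G) (o : Outer z E P N e) :
    Nat.card (NV R) = 2 ^ 11 * Nat.card ↥Cfsg.M24 := by
  obtain ⟨hn, ⟨q⟩⟩ := exists_quotient (R := R) hG o
  rw [← (R.V0.subgroupOf (NV R)).card_mul_index, index_eq_card, Nat.card_congr q.toEquiv]
  exact congrArg (· * _)
    ((Nat.card_congr (subgroupOfEquivOfLe (le_normalizer : R.V0 ≤ NV R)).toEquiv).trans R.card_V0)

/-- Every elementary subgroup of order `2 ^ 11` is conjugate to the standard one. -/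
theorem exists_conj_eq (hJ : Cfsg.IsOfJankoFourTypeWith z P) (o : Outer z E P N e) (V : Subgroup G)
    (hV : Cfsg.IsElementaryAbelian 2 V) (hcard : Nat.card V = 2 ^ 11) :
    ∃ g : G, V = R.V0.map (MulAut.conj g).toMonoidHom := by
  haveI : Fact (Nat.Prime 2) := ⟨Nat.prime_two⟩
  obtain ⟨S, Q, hQS, hQ⟩ := exists_sylow R o
  obtain ⟨T, hT⟩ := (IsPGroup.of_card (n := 11) hcard).exists_le_sylow
  obtain ⟨g, hg⟩ := MulAction.exists_smul_eq G Q T
  refine ⟨g, (sylow_unique_elementary hJ T).unique ⟨hT, hV, hcard⟩ ⟨?_, elementary_map g R.V0_elementary,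
    by rw [← Nat.card_congr (R.V0.equivMapOfInjective _ (MulAut.conj g).injective).toEquiv, R.card_V0]⟩⟩
  rintro _ ⟨x, hx, rfl⟩
  rw [← hg]
  exact Subgroup.smul_mem_pointwise_smul _ (MulAut.conj g) _ (R.V0_le hQ hx)

/-- In a group of `J₄` type every elementary subgroup of order `2 ^ 11` is self-centralising, and the
elements outside the class of `z` carry pair labels. -/
theorem exists_labels [IsSimpleGroup G] (hG : ¬ IsMulCommutative G)
    (hJ : Cfsg.IsOfJankoFourTypeWith z P) (V : Subgroup G) (hV : Cfsg.IsElementaryAbelian 2 V)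
    (hcard : Nat.card V = 2 ^ 11) :
    centralizer (V : Set G) ≤ V ∧
    Nat.card ↥(normalizer (V : Set G)) = 2 ^ 11 * Nat.card ↥Cfsg.M24 ∧
    ∃ (L : PairLabels (Fin 11 → ZMod 2) (Fin 24)) (φ : ↥V → (Fin 11 → ZMod 2)),
      (∀ a b, φ (a * b) = φ a + φ b) ∧ Function.Bijective φ ∧
        ∀ a : ↥V, ((a : G) ≠ 1 ∧ ¬ IsConj z (a : G)) ↔ ∃ p q, p ≠ q ∧ φ a = L.t p q := by
  obtain ⟨N, e, o⟩ := outer_of_type hJ
  obtain ⟨R⟩ := exists_real o (data_of_type hJ)
  obtain ⟨g, rfl⟩ := exists_conj_eq (R := R) hJ o V hV hcard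
  obtain ⟨F, hS, hM⟩ := exists_pattern (R := R) hG o
  set f := (MulAut.conj g).toMonoidHom
  refine ⟨fun t ht => ?_, ?_, labels, fun a => vbits (co F ((R.V0.equivMapOfInjective f
    (MulAut.conj g).injective).symm a)), fun a b => by simp only [map_mul, co_mul, vbits_xor],
    (vbits_co_bij F).comp (R.V0.equivMapOfInjective f (MulAut.conj g).injective).symm.bijective,
    fun a => ?_⟩
  · refine ⟨g⁻¹ * t * g, (centralizer_V0 R o).le (mem_centralizer_iff.2 fun x hx => ?_), by
      simp [f, mul_assoc]⟩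
    have h := mem_centralizer_iff.1 ht (g * x * g⁻¹) ⟨x, hx, rfl⟩
    calc x * (g⁻¹ * t * g) = g⁻¹ * (g * x * g⁻¹ * t) * g := by group
      _ = g⁻¹ * (t * (g * x * g⁻¹)) * g := by rw [h]
      _ = g⁻¹ * t * g * x := by group
  · rw [← card_NV0 (R := R) hG o]
    have h : normalizer ((R.V0.map f : Subgroup G) : Set G) = (normalizer (R.V0 : Set G)).map f :=
      (map_equiv_normalizer_eq R.V0 (MulAut.conj g)).symm
    rw [h]
    exact (Nat.card_congr ((normalizer (R.V0 : Set G)).equivMapOfInjective f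
      (MulAut.conj g).injective).toEquiv).symm
  · set t := (R.V0.equivMapOfInjective f (MulAut.conj g).injective).symm a
    rw [← labels_V0 F hM t]
    have he : (a : G) = g * t * g⁻¹ := by
      have := congrArg Subtype.val
        ((R.V0.equivMapOfInjective f (MulAut.conj g).injective).apply_symm_apply a)
      exact this.symm
    rw [he]
    exact and_congr (not_congr conj_eq_one_iff) (not_congr
      ⟨fun h => h.trans (isConj_iff.2 ⟨g⁻¹, by group⟩), fun h => h.trans (isConj_iff.2 ⟨g, rfl⟩)⟩)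

end H19.J4V
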