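import Cfsg.Agent.H19.J4V.Complement

/-!
The normalizer of an elementary subgroup of order `2 ^ 11` splits over it.
-/

set_option autoImplicit false
set_option maxRecDepth 20000
set_option maxHeartbeats 800000
set_option linter.unusedSectionVars false
set_option linter.style.haveILetI false

namespace H19.J4V

open Subgroup Cfsg.Agent.H69.J4 H88.J4Fusion
open scoped Pointwise

variable {G : Type*} [Group G] [Finite G]
variable {z : G} {E P N : Subgroup G} {d : Data z E P} {R : Real d}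
variable {e : ↥(centralizer ({z} : Set G)) →* MulAut ↥Cfsg.Spor.M22}

/-- A product of the three involutions named by four bits. -/
def formG (u v y : G) (p : ℕ) : G :=
  (bif p.testBit 1 then u * v * (u * v) else 1) * (bif p.testBit 0 then u * v else 1) *
    (bif p.testBit 2 then u else 1) * (bif p.testBit 3 then y else 1)

theorem formG_acts {F : Lifts R} {u v y : G} (T : Trio F u v y) (p : ℕ) :
    Acts F (formG u v y p) (formF p) := by
  have h1 := acts_one F
  have hg := T.ua.mul T.va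
  unfold formG formF
  cases p.testBit 0 <;> cases p.testBit 1 <;> cases p.testBit 2 <;> cases p.testBit 3 <;>
    simp only [cond_true, cond_false, one_mul, mul_one]
  all_goals first
    | exact h1
    | exact T.ya
    | exact T.ua
    | exact T.ua.mul T.ya
    | exact hg
    | exact hg.mul T.ya
    | exact hg.mul T.ua
    | exact (hg.mul T.ua).mul T.ya
    | exact hg.mul hg
    | exact (hg.mul hg).mul T.ya
    | exact (hg.mul hg).mul T.ua
    | exact ((hg.mul hg).mul T.ua).mul T.ya
    | exact (hg.mul hg).mul hg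
    | exact ((hg.mul hg).mul hg).mul T.ya
    | exact ((hg.mul hg).mul hg).mul T.ua
    | exact (((hg.mul hg).mul hg).mul T.ua).mul T.ya

theorem formG_closed {F : Lifts R} {u v y : G} (T : Trio F u v y) :
    ∀ x ∈ closure ({u, v, y} : Set G), ∃ p < 16, x = formG u v y p := by
  have hform : ∀ k c i : ℕ, k < 4 → c < 2 → i < 2 →
      ∃ p < 16, (u * v) ^ k * u ^ i * y ^ c = formG u v y p := by
    intro k c i hk hc hi
    refine ⟨k + 4 * i + 8 * c, by omega, ?_⟩
    interval_cases k <;> interval_cases c <;> interval_cases i <;>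
      simp [formG, Nat.testBit_eq_decide_div_mod_eq, pow_succ]
  have h4 : (u * v) ^ 4 = 1 := by
    rw [← T.r2, pow_succ, pow_succ, pow_succ, pow_one]; group
  have hu : ∀ k : ℕ, u * (u * v) ^ k = (u * v) ^ (3 * k) * u := by
    intro k
    have h3 : u * (u * v) * u⁻¹ = (u * v) ^ 3 := by
      rw [mul_self_inv T.u2, show u * (u * v) * u = (u * u) * (v * u) by group, T.u2, one_mul]
      have : (u * v) ^ 3 = (u * v)⁻¹ := eq_inv_of_mul_eq_one_left (by rw [← pow_succ, h4])
      rw [this, mul_inv_rev, mul_self_inv T.u2, mul_self_inv T.v2]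
    rw [pow_mul, ← h3, conj_pow, inv_mul_cancel_right]
  have hyuv : ∀ k i : ℕ, y * ((u * v) ^ k * u ^ i) = (u * v) ^ k * u ^ i * y := fun k i =>
    (((show Commute y u from T.yu).mul_right (show Commute y v from T.yv)).pow_right k).mul_right
      ((show Commute y u from T.yu).pow_right i) |>.eq
  have hred : ∀ k c i : ℕ, ∃ p < 16, (u * v) ^ k * u ^ i * y ^ c = formG u v y p := by
    intro k c i
    rw [pow_eq_pow_mod k h4, pow_eq_pow_mod i (show u ^ 2 = 1 by rw [sq, T.u2]),
      pow_eq_pow_mod c (show y ^ 2 = 1 by rw [sq, T.y2])]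
    exact hform _ _ _ (Nat.mod_lt _ (by norm_num)) (Nat.mod_lt _ (by norm_num))
      (Nat.mod_lt _ (by norm_num))
  suffices h : ∀ x ∈ closure ({u, v, y} : Set G), ∃ k c i : ℕ, x = (u * v) ^ k * u ^ i * y ^ c by
    intro x hx
    obtain ⟨k, c, i, rfl⟩ := h x hx
    exact hred k c i
  have hmul : ∀ g ∈ ({u, v, y} : Set G), ∀ k c i : ℕ,
      ∃ k' c' i' : ℕ, g * ((u * v) ^ k * u ^ i * y ^ c) = (u * v) ^ k' * u ^ i' * y ^ c' := by
    have hU : ∀ k c i : ℕ, u * ((u * v) ^ k * u ^ i * y ^ c) =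
        (u * v) ^ (3 * k) * u ^ (i + 1) * y ^ c := fun k c i => by
      rw [← mul_assoc, ← mul_assoc, hu, pow_succ' u]; group
    rintro g (rfl | rfl | rfl) k c i
    · exact ⟨_, _, _, hU k c i⟩
    · refine ⟨3 * (k + 1), c, i + 1, ?_⟩
      rw [← hU (k + 1) c i, pow_succ',
        show u * (u * g * (u * g) ^ k * u ^ i * y ^ c) = (u * u) * g * (u * g) ^ k * u ^ i * y ^ c by
          simp only [mul_assoc], T.u2, one_mul]
      group
    · refine ⟨k, c + 1, i, ?_⟩
      rw [← mul_assoc, hyuv, pow_succ', mul_assoc ((u * v) ^ k * u ^ i) g]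
  intro x hx
  induction hx using closure_induction_left with
  | one => exact ⟨0, 0, 0, by simp⟩
  | mul_left g hg x _ ih =>
    obtain ⟨k, c, i, rfl⟩ := ih
    exact hmul g hg k c i
  | inv_mul_cancel g hg x _ ih =>
    obtain ⟨k, c, i, rfl⟩ := ih
    have hg2 : g * g = 1 := by
      rcases hg with rfl | rfl | rfl
      exacts [T.u2, T.v2, T.y2]
    rw [mul_self_inv hg2]
    exact hmul g hg k c i

theorem formG_mem (u v y : G) (p : ℕ) : formG u v y p ∈ closure ({u, v, y} : Set G) := by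
  have hu : u ∈ closure ({u, v, y} : Set G) := subset_closure (by simp)
  have hv : v ∈ closure ({u, v, y} : Set G) := subset_closure (by simp)
  have hy : y ∈ closure ({u, v, y} : Set G) := subset_closure (by simp)
  unfold formG
  refine mul_mem (mul_mem (mul_mem ?_ ?_) ?_) ?_
  · cases p.testBit 1
    exacts [one_mem _, mul_mem (mul_mem hu hv) (mul_mem hu hv)]
  · cases p.testBit 0
    exacts [one_mem _, mul_mem hu hv]
  · cases p.testBit 2
    exacts [one_mem _, hu]
  · cases p.testBit 3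
    exacts [one_mem _, hy]

/-- A subgroup of order `2 ^ 10` of the normalizer meeting `V0` trivially. -/
theorem exists_small [IsSimpleGroup G] (hG : ¬ IsMulCommutative G) (o : Outer z E P N e) :
    ∃ A : Subgroup G, A ≤ NV R ∧ A ⊓ R.V0 = ⊥ ∧ Nat.card A = 2 ^ 10 := by
  classical
  obtain ⟨F, hS, hM⟩ := exists_pattern (R := R) hG o
  obtain ⟨u, v, y, T, hyL⟩ := exists_trio_sub hG o F hS hM
  have hsub := fun i (hi : i < 64) => (List.all_eq_true.1 sub_ok) i (List.mem_range.2 hi)
  simp only [Bool.and_eq_true, Bool.not_eq_true', Bool.or_eq_true] at hsub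
  have hbil : ∀ i < 64, ∀ k < 64, bilN (ap mW (ap bL i)) (ap mW (ap mW (ap bL k))) = false := by
    intro i hi k hk
    simpa using (List.all_eq_true.1 (hsub i hi).1.1.1.1.2) k (List.mem_range.2 hk)
  have hB4 : ∀ i, ap bL i < 4096 := ap_lt (n := 12) (lists_bound bL (by simp))
  have hadd : ∀ i < 64, ∀ k < 64, lz R (ap bL i) * lz R (ap bL k) = lz R (ap bL (i ^^^ k)) := by
    intro i hi k hk
    rw [ap_xor, lz_xor R (hbil k hk i hi)]
  let L : Subgroup G :=
    { carrier := {g | ∃ i < 64, g = lz R (ap bL i)}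
      one_mem' := ⟨0, by norm_num, by rw [show ap bL 0 = 0 by decide +kernel, lz_zero]⟩
      mul_mem' := by
        rintro _ _ ⟨i, hi, rfl⟩ ⟨k, hk, rfl⟩
        exact ⟨i ^^^ k, Nat.xor_lt_two_pow (n := 6) hi hk, hadd i hi k hk⟩
      inv_mem' := by
        rintro _ ⟨i, hi, rfl⟩
        exact ⟨i, hi, mul_self_inv (lz_sq (hB4 i) (hsub i hi).1.1.1.1.1)⟩ }
  have hLmem : ∀ g, g ∈ L ↔ ∃ i < 64, g = lz R (ap bL i) := fun _ => Iff.rfl
  have hgenL : ∀ g ∈ ({u, v, y} : Set G), ∀ i < 64, g * lz R (ap bL i) * g⁻¹ ∈ L := by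
    have key : ∀ {w : G} (hw : w ∈ centralizer ({z} : Set G)) {A : List ℕ},
        R.code (d.ρ ⟨w, hw⟩) = A → (R.g 3 : G) * w = w * R.g 3 → ∀ i,
          bSp.contains (ap A (ap bL i)) = true → w * lz R (ap bL i) * w⁻¹ ∈ L := by
      intro w hw A hA hc i h
      obtain ⟨k, hk, he⟩ := List.mem_map.1 (List.contains_iff_mem.1 h)
      refine ⟨k, List.mem_range.1 hk, ?_⟩
      rw [he, ← hA]
      exact conj_lz R (h := ⟨w, hw⟩) hc.symm _
    rintro g (rfl | rfl | rfl) i hi
    · exact key T.uH T.uA T.ug i (hsub i hi).1.1.1.2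
    · exact key T.vH T.vA T.vg i (hsub i hi).1.1.2
    · exact hyL i hi
  set B := closure ({u, v, y} : Set G) with hB
  have hnorm : ∀ b ∈ B, ∀ l ∈ L, b * l * b⁻¹ ∈ L := by
    intro b hb
    induction hb using closure_induction_left with
    | one => intro l hl; simpa using hl
    | mul_left g hg x _ ih =>
      intro l hl
      obtain ⟨i, hi, he⟩ := ih l hl
      rw [show g * x * l * (g * x)⁻¹ = g * (x * l * x⁻¹) * g⁻¹ by group, he]
      exact hgenL g hg i hi
    | inv_mul_cancel g hg x _ ih =>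
      intro l hl
      obtain ⟨i, hi, he⟩ := ih l hl
      have hg2 : g * g = 1 := by
        rcases hg with rfl | rfl | rfl
        exacts [T.u2, T.v2, T.y2]
      rw [mul_self_inv hg2, show g * x * l * (g * x)⁻¹ = g * (x * l * x⁻¹) * g⁻¹ by group, he]
      exact hgenL g hg i hi
  have hBN : B ≤ normalizer (L : Set G) := fun b hb => mem_normalizer_iff.2 fun x =>
    ⟨hnorm b hb x, fun h => by
      have := hnorm b⁻¹ (inv_mem hb) _ h
      simpa [mul_assoc] using this⟩
  have hmul : ((L ⊔ B : Subgroup G) : Set G) = (L : Set G) * (B : Set G) :=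
    Subgroup.coe_mul_of_right_le_normalizer_left L B hBN
  -- the action on the fixed vectors separates
  have hsep : ∀ p < 16, ∀ q < 16, (∀ i < 6, ∃ f g : ℕ → ℕ, Acts F (formG u v y p) f ∧
      Acts F (formG u v y q) g ∧ f (2 ^ (i + 1)) / 2 = g (2 ^ (i + 1)) / 2) → p = q := by
    intro p hp q hq h
    by_contra hne
    have key : ∀ p q : ℕ, q < p → p < 16 → ∃ i < 6,
        formF p (2 ^ (i + 1)) / 2 ≠ formF q (2 ^ (i + 1)) / 2 := by
      intro p q hqp hp
      have h := (List.all_eq_true.1 ((List.all_eq_true.1 faithful_ok) p (List.mem_range.2 hp))) q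
        (List.mem_range.2 hqp)
      obtain ⟨i, hi, hne⟩ := List.any_eq_true.1 h
      refine ⟨i, List.mem_range.1 hi, fun e => ?_⟩
      rw [e, Nat.beq_refl] at hne
      exact absurd hne (by decide)
    have h64 : ∀ i < 6, 2 ^ (i + 1) < 2048 := fun i hi =>
      lt_of_lt_of_le (Nat.pow_lt_pow_right (by norm_num) (show i + 1 < 11 by omega)) le_rfl
    rcases lt_or_gt_of_ne hne with hl | hl
    · obtain ⟨i, hi, hd⟩ := key q p hl hq
      obtain ⟨f, g, hf, hg, he⟩ := h i hi
      rw [Acts.unique hf (formG_acts T p) (h64 i hi), Acts.unique hg (formG_acts T q) (h64 i hi)] at he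
      exact hd he.symm
    · obtain ⟨i, hi, hd⟩ := key p q hl hp
      obtain ⟨f, g, hf, hg, he⟩ := h i hi
      rw [Acts.unique hf (formG_acts T p) (h64 i hi), Acts.unique hg (formG_acts T q) (h64 i hi)] at he
      exact hd he
  have hdiff : ∀ i < 64, ∀ p < 16, ∀ q < 16, ∀ t ∈ R.V0,
      lz R (ap bL i) * formG u v y p = t * formG u v y q → p = q := by
    intro i hi p hp q hq t ht he
    refine hsep p hp q hq fun k hk => ?_
    have hlt : 2 ^ (k + 1) < 2048 :=
      lt_of_lt_of_le (Nat.pow_lt_pow_right (by norm_num) (show k + 1 < 11 by omega)) le_rfl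
    refine ⟨formF p, formF q, formG_acts T p, formG_acts T q, ?_⟩
    have h1 := ((acts_lz F (hB4 i)).mul (formG_acts T p)).unique
      (he.symm ▸ (acts_V0 F ht).mul (formG_acts T q) :
        Acts F (lz R (ap bL i) * formG u v y p) fun a => formF q a) hlt
    have hv : ∀ s < 64, dE (ap bL i) (2 * s) / 2 = s := by
      have hdist : ∀ a b : ℕ, 2 * (a ^^^ b) = 2 * a ^^^ 2 * b := fun a b => by
        refine Nat.eq_of_testBit_eq fun t => ?_
        have e : ∀ x : ℕ, 2 * x = 2 ^ 1 * x := fun x => by norm_num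
        rw [e, e, e]
        simp only [Nat.testBit_xor, Nat.testBit_two_pow_mul]
        cases decide (1 ≤ t) <;> simp
      refine basis_ind (n := 6) (Q := fun s => dE (ap bL i) (2 * s) / 2 = s) ?_ (fun a ha b hb h1 h2 => ?_)
        fun k hk => Nat.eq_of_beq_eq_true ((List.all_eq_true.1 (hsub i hi).1.2) k (List.mem_range.2 hk))
      · have h := (acts_lz F (hB4 i)).additive 0 (by norm_num) 0 (by norm_num)
        simp only [Nat.xor_self] at h
        simp [h]
      · show dE (ap bL i) (2 * (a ^^^ b)) / 2 = a ^^^ b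
        rw [hdist, (acts_lz F (hB4 i)).additive _ (by omega) _ (by omega), xor_div_two', h1, h2]
    rw [← h1]
    -- the singular lift fixes the fixed vectors modulo the centre
    have hsmall : ∀ p < 16, ∀ k < 6, formF p (2 ^ (k + 1)) < 128 := by decide +kernel
    set w := formF p (2 ^ (k + 1))
    have hw : w < 128 := hsmall p hp k hk
    have hcc : ∀ s < 64, dE (ap bL i) (2 * s + 1) = dE (ap bL i) (2 * s) ^^^ 1 := by
      intro s hs
      obtain ⟨hlt0, h0⟩ := acts_lz F (hB4 i) (2 * s) (by omega)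
      obtain ⟨hlt1, h1'⟩ := acts_lz F (hB4 i) (2 * s + 1) (by omega)
      refine pt_inj F hlt1 (Nat.xor_lt_two_pow (n := 11) hlt0 (by norm_num)) ?_
      have h21 : 2 * s + 1 = 2 * s ^^^ 1 := by
        have key : ∀ s < 64, 2 * s + 1 = 2 * s ^^^ 1 := by decide
        exact key s hs
      have hz : lz R (ap bL i) * F.pt 1 * (lz R (ap bL i))⁻¹ = F.pt 1 := by
        rw [code_z F (by norm_num : 1 < 128), show sv (cS 1) = 0 by decide +kernel, lz_zero, mul_one,
          zb_comm (d := d) (d.L.le_H (lz_mem R _)), mul_inv_cancel_right]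
      rw [← h1', h21, pt_xor F, pt_xor F, ← h0]
      conv_rhs => rw [← hz]
      group
    have hx : w = 2 * (w / 2) + w % 2 := by omega
    rcases Nat.mod_two_eq_zero_or_one w with h0 | h0
    · rw [hx, h0, add_zero, hv _ (by omega)]; omega
    · rw [hx, h0, hcc _ (by omega)]
      have key : ∀ a : ℕ, (a ^^^ 1) / 2 = a / 2 := fun a => by rw [xor_div_two' a 1]; simp
      rw [key, hv _ (by omega)]; omega
  have hzero : formG u v y 0 = 1 := by simp [formG]
  have hL0 : ∀ i < 64, lz R (ap bL i) ∈ R.V0 → i = 0 := by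
    intro i hi h
    have hs := R.V0_E h (lz_mem R _)
    obtain ⟨c, hc, hce⟩ := (R.fixed_A0 _).1 hs.2
    have : ap bL i = c := R.φ_inj (hB4 i) (sVec_bound hc) ((φ_lz R (hB4 i)).trans hce.symm)
    rcases (hsub i hi).2 with h' | h'
    · rw [List.contains_eq_mem, decide_eq_false_iff_not] at h'
      exact absurd (this ▸ hc) h'
    · exact Nat.eq_of_beq_eq_true h'
  refine ⟨L ⊔ B, sup_le ?_ ?_, ?_, ?_⟩
  · rintro _ ⟨i, hi, rfl⟩
    exact (acts_lz F (hB4 i)).mem_NV
  · rw [hB, closure_le]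
    rintro g (rfl | rfl | rfl)
    exacts [T.ua.mem_NV, T.va.mem_NV, T.ya.mem_NV]
  · rw [eq_bot_iff_forall]
    rintro x ⟨hx, hxV⟩
    replace hx : x ∈ ((L ⊔ B : Subgroup G) : Set G) := hx
    rw [hmul] at hx
    obtain ⟨l, hl, b, hb, rfl⟩ := hx
    obtain ⟨i, hi, rfl⟩ := hl
    obtain ⟨p, hp, rfl⟩ := formG_closed T b hb
    change lz R (ap bL i) * formG u v y p ∈ R.V0 at hxV
    show lz R (ap bL i) * formG u v y p = 1
    have hp0 := hdiff i hi p hp 0 (by norm_num) _ hxV (by rw [hzero, mul_one])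
    subst hp0
    rw [hzero, mul_one] at hxV ⊢
    rw [hL0 i hi hxV, show ap bL 0 = 0 by decide +kernel, lz_zero]
  · let f : Fin 64 × Fin 16 → ↥(L ⊔ B) := fun ip => ⟨lz R (ap bL ip.1) * formG u v y ip.2,
      mul_mem (mem_sup_left ⟨_, ip.1.2, rfl⟩) (mem_sup_right (formG_mem u v y _))⟩
    have hf : Function.Bijective f := by
      refine ⟨fun a b h => ?_, fun x => ?_⟩
      · have h : lz R (ap bL a.1) * formG u v y a.2 = lz R (ap bL b.1) * formG u v y b.2 :=
          congrArg (fun q : ↥(L ⊔ B) => (q : G)) h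
        have h' : lz R (ap bL (b.1 ^^^ a.1)) * formG u v y a.2 = (1 : G) * formG u v y b.2 := by
          rw [← hadd _ b.1.2 _ a.1.2, mul_assoc, h, ← mul_assoc,
            lz_sq (hB4 b.1) (hsub _ b.1.2).1.1.1.1.1]
        have hlt : (b.1 : ℕ) ^^^ a.1 < 64 := Nat.xor_lt_two_pow (n := 6) b.1.2 a.1.2
        have hpq := hdiff _ hlt _ a.2.2 _ b.2.2 1 (one_mem _) h'
        rw [hpq] at h'
        have h0 := hL0 _ hlt (by rw [mul_right_cancel h']; exact one_mem _)
        exact Prod.ext (Fin.ext (Nat.xor_eq_zero_iff.1 h0).symm) (Fin.ext hpq)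
      · have hx : (x : G) ∈ ((L ⊔ B : Subgroup G) : Set G) := x.2
        rw [hmul] at hx
        obtain ⟨l, hl, b, hb, hlb⟩ := hx
        obtain ⟨i, hi, rfl⟩ := hl
        obtain ⟨p, hp, rfl⟩ := formG_closed T b hb
        exact ⟨(⟨i, hi⟩, ⟨p, hp⟩), Subtype.ext hlb⟩
    rw [← Nat.card_congr (Equiv.ofBijective f hf), Nat.card_prod, Nat.card_eq_fintype_card,
      Nat.card_eq_fintype_card, Fintype.card_fin, Fintype.card_fin]
    norm_num

/-- The normalizer of the standard elementary subgroup splits over it. -/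
theorem exists_split [IsSimpleGroup G] (hG : ¬ IsMulCommutative G) (o : Outer z E P N e) :
    ∃ K : Subgroup G, K ≤ NV R ∧ K ⊓ R.V0 = ⊥ ∧ K ⊔ R.V0 = NV R ∧ Cfsg.Spor.IsoM24 ↥K := by
  classical
  obtain ⟨A, hAN, hA0, hAc⟩ := exists_small (R := R) hG o
  obtain ⟨hn, ⟨qe⟩⟩ := exists_quotient (R := R) hG o
  haveI := hn
  have hVN : R.V0 ≤ NV R := le_normalizer
  set K0 := R.V0.subgroupOf (NV R) with hK0
  haveI : IsMulCommutative K0 :=
    ⟨⟨fun a b => Subtype.ext (Subtype.ext (V0_comm R (mem_subgroupOf.1 a.2) (mem_subgroupOf.1 b.2)))⟩⟩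
  set A0 := A.subgroupOf (NV R)
  set U := K0 ⊔ A0
  have hdis : Disjoint A0 K0 := by
    rw [disjoint_iff, eq_bot_iff_forall]
    rintro x ⟨h1, h2⟩
    refine Subtype.ext ?_
    have : (x : G) ∈ A ⊓ R.V0 := ⟨mem_subgroupOf.1 h1, mem_subgroupOf.1 h2⟩
    rw [hA0] at this
    exact this
  have hK0c : Nat.card K0 = 2 ^ 11 := by
    rw [hK0, Nat.card_congr (subgroupOfEquivOfLe hVN).toEquiv, R.card_V0]
  have hA0c : Nat.card A0 = 2 ^ 10 := by
    rw [Nat.card_congr (subgroupOfEquivOfLe hAN).toEquiv, hAc]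
  have hle : 2 ^ 21 ≤ Nat.card U := by
    have hinj : Function.Injective fun ab : K0 × A0 => (⟨(ab.1 : NV R) * ab.2,
        mul_mem (mem_sup_left ab.1.2) (mem_sup_right ab.2.2)⟩ : U) := by
      rintro ⟨a, b⟩ ⟨a', b'⟩ he
      exact mul_injective_of_disjoint hdis.symm (congrArg (fun q : U => (q : NV R)) he)
    have := Nat.card_le_card_of_injective _ hinj
    rwa [Nat.card_prod, hK0c, hA0c, ← pow_add] at this
  have hUc : Nat.card U = 2 ^ 21 := by
    refine le_antisymm ?_ hle
    have hU : ((U : Subgroup (NV R)) : Set (NV R)) = (K0 : Set (NV R)) * (A0 : Set (NV R)) :=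
      normal_mul K0 A0
    have hsurj : Function.Surjective fun ab : K0 × A0 => (⟨(ab.1 : NV R) * ab.2,
        mul_mem (mem_sup_left ab.1.2) (mem_sup_right ab.2.2)⟩ : U) := by
      intro x
      have hx : (x : NV R) ∈ ((U : Subgroup (NV R)) : Set (NV R)) := x.2
      rw [hU] at hx
      obtain ⟨a, ha, b, hb, hab⟩ := hx
      exact ⟨(⟨a, ha⟩, ⟨b, hb⟩), Subtype.ext hab⟩
    have := Nat.card_le_card_of_surjective _ hsurj
    rwa [Nat.card_prod, hK0c, hA0c, ← pow_add] at this
  have hodd : ¬ 2 ∣ U.index := by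
    obtain ⟨F, hS, -⟩ := exists_pattern (R := R) hG o
    obtain ⟨j, hj, -, hc⟩ := card_NV hS o
    have h := U.card_mul_index
    rw [hUc, hc] at h
    have : U.index = 1771 * j := by
      refine Nat.eq_of_mul_eq_mul_left (show 0 < 2 ^ 21 by norm_num) ?_
      rw [h]; ring
    rw [this]
    intro hd
    rcases (Nat.Prime.dvd_mul Nat.prime_two).1 hd with h' | h'
    · norm_num at h'
    · exact absurd (h'.trans hj) (by norm_num)
  obtain ⟨H, hH⟩ := H2.gaschutz_exists (K := K0) (U := U) le_sup_left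
    (by rw [hK0c]; exact (Nat.prime_two.coprime_iff_not_dvd.2 hodd).pow_left 11) A0 le_sup_right
    (disjoint_iff.1 hdis) rfl
  refine ⟨H.map (NV R).subtype, map_subtype_le _, ?_, ?_, ?_⟩
  · rw [eq_bot_iff_forall]
    rintro x ⟨⟨h, hh, rfl⟩, hx⟩
    have : h ∈ K0 ⊓ H := ⟨mem_subgroupOf.2 hx, hh⟩
    rw [disjoint_iff.1 hH.disjoint] at this
    rw [mem_bot.1 this]; rfl
  · have h := hH.sup_eq_top
    calc H.map (NV R).subtype ⊔ R.V0 = H.map (NV R).subtype ⊔ K0.map (NV R).subtype := by
          rw [hK0, subgroupOf_map_subtype, inf_eq_left.2 hVN]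
      _ = (H ⊔ K0).map (NV R).subtype := (Subgroup.map_sup ..).symm
      _ = NV R := by rw [sup_comm, h, ← MonoidHom.range_eq_map, range_subtype]
  · have hcard : Nat.card H = Nat.card ↥Cfsg.M24 := by
      have h := hH.card_mul_card
      have h2 := K0.card_mul_index
      rw [index_eq_card, Nat.card_congr qe.toEquiv, ← h] at h2
      exact (Nat.eq_of_mul_eq_mul_left Nat.card_pos h2).symm
    let f : ↥H →* ↥Cfsg.M24 := qe.toMonoidHom.comp ((QuotientGroup.mk' K0).comp H.subtype)
    have hf : Function.Injective f := by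
      intro a b hab
      have h1 : (QuotientGroup.mk (a : NV R) : NV R ⧸ K0) = QuotientGroup.mk (b : NV R) := qe.injective hab
      rw [QuotientGroup.eq] at h1
      have h2 : (a : NV R)⁻¹ * b ∈ K0 ⊓ H := mem_inf.2 ⟨h1, H.mul_mem (H.inv_mem a.2) b.2⟩
      rw [disjoint_iff.1 hH.disjoint, mem_bot, inv_mul_eq_one] at h2
      exact Subtype.ext h2
    have hbij : Function.Bijective f := hf.bijective_of_nat_card_le hcard.ge
    exact ⟨(H.equivMapOfInjective _ (NV R).subtype_injective).symm.trans (MulEquiv.ofBijective f hbij)⟩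

/-- In a group of `J₄` type the normalizer of every elementary subgroup of order `2 ^ 11` is a split
extension by the Mathieu group. -/
theorem exists_complement [IsSimpleGroup G] (hG : ¬ IsMulCommutative G)
    (hJ : Cfsg.IsOfJankoFourTypeWith z P) (V : Subgroup G) (hV : Cfsg.IsElementaryAbelian 2 V)
    (hcard : Nat.card V = 2 ^ 11) :
    ∃ K : Subgroup G, K ≤ normalizer (V : Set G) ∧ K ⊓ V = ⊥ ∧ K ⊔ V = normalizer (V : Set G) ∧
      Cfsg.Spor.IsoM24 ↥K := by
  obtain ⟨N, e, o⟩ := outer_of_type hJ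
  obtain ⟨R⟩ := exists_real o (data_of_type hJ)
  obtain ⟨g, rfl⟩ := exists_conj_eq (R := R) hJ o V hV hcard
  obtain ⟨K, hK, hK0, hKs, ⟨φ⟩⟩ := exists_split (R := R) hG o
  set f := (MulAut.conj g).toMonoidHom
  have h : normalizer ((R.V0.map f : Subgroup G) : Set G) = (normalizer (R.V0 : Set G)).map f :=
    (map_equiv_normalizer_eq R.V0 (MulAut.conj g)).symm
  rw [h]
  refine ⟨K.map f, map_mono hK, ?_, ?_, ⟨((K.equivMapOfInjective f (MulAut.conj g).injective).symm).trans φ⟩⟩
  · rw [← map_inf _ _ _ (MulAut.conj g).injective, hK0, Subgroup.map_bot]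
  · rw [← Subgroup.map_sup, hKs]; rfl

end H19.J4V
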