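import Cfsg.Agent.H69.J4.Main
import Cfsg.Agent.H88.J4Fusion.Orbit

/-!
In a group of `J₄` type the elementary subgroup of order `2 ^ 11` is its own centralizer.
-/

set_option autoImplicit false
set_option linter.unusedSectionVars false
set_option linter.style.haveILetI false

namespace H19.J4V

open Subgroup Cfsg.Agent.H69.J4

variable {G : Type*} [Group G] [Finite G]
variable {z : G} {E P N : Subgroup G} {d : Data z E P} (R : Real d)
variable {e : ↥(centralizer ({z} : Set G)) →* MulAut ↥Cfsg.Spor.M22}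

theorem V0_comm {a b : G} (ha : a ∈ R.V0) (hb : b ∈ R.V0) : a * b = b * a :=
  congrArg Subtype.val (R.V0_elementary.1.1.1 ⟨a, ha⟩ ⟨b, hb⟩)

theorem cent_le_H {t : G} (ht : t ∈ centralizer (R.V0 : Set G)) :
    t ∈ centralizer ({z} : Set G) :=
  mem_centralizer_singleton_iff.2
    (mem_centralizer_iff.1 ht z (R.sHat_le_V0 R.z_mem_sHat)).symm

/-- An element fixing `sHat` pointwise moves every coset by a fixed vector. -/
theorem moves_fixed {t : G} (htH : t ∈ centralizer ({z} : Set G))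
    (hts : ∀ s ∈ R.sHat, t * s = s * t) (a : E) :
    d.ρ ⟨t, htH⟩ (QuotientGroup.mk a) ∈
      (fun m => (QuotientGroup.mk a : Bar E) * m) '' Real.fixed R.A0 := by
  have hc : (t : G) * a * t⁻¹ ∈ E := d.L.conj_mem htH a.2
  have hfix : ∀ s ∈ R.sHat, s * ((a : G)⁻¹ * (t * a * t⁻¹)) = (a : G)⁻¹ * (t * a * t⁻¹) * s := by
    intro s hs
    have h1 : t * ((a : G) * s * (a : G)⁻¹) * t⁻¹ = (a : G) * s * (a : G)⁻¹ := by
      have hmem : (a : G) * s * (a : G)⁻¹ ∈ R.sHat := by
        rcases d.L.conj_cases a.2 (R.sHat_le hs) with h | h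
        · rw [h, mul_inv_cancel_right]; exact hs
        · rw [h]; exact mul_mem R.z_mem_sHat hs
      rw [mul_inv_eq_iff_eq_mul]
      exact hts _ hmem
    have h2 : t⁻¹ * s * t = s := by
      rw [mul_assoc, inv_mul_eq_iff_eq_mul]
      exact (hts s hs).symm
    have h3 : (t * a * t⁻¹) * s * (t * a * t⁻¹)⁻¹ = (a : G) * s * (a : G)⁻¹ := by
      calc (t * a * t⁻¹) * s * (t * a * t⁻¹)⁻¹
          = t * ((a : G) * (t⁻¹ * s * t) * (a : G)⁻¹) * t⁻¹ := by group
        _ = _ := by rw [h2, h1]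
    calc s * ((a : G)⁻¹ * (t * a * t⁻¹))
        = (a : G)⁻¹ * ((a : G) * s * (a : G)⁻¹) * (t * a * t⁻¹) := by group
      _ = (a : G)⁻¹ * ((t * a * t⁻¹) * s * (t * a * t⁻¹)⁻¹) * (t * a * t⁻¹) := by rw [h3]
      _ = _ := by group
  have hE : (a : G)⁻¹ * (t * a * t⁻¹) ∈ E := mul_mem (inv_mem a.2) hc
  obtain ⟨h1, h2⟩ := R.sHat_centralizer hE hfix
  refine ⟨_, h2, ?_⟩
  show (QuotientGroup.mk a : Bar E) * QuotientGroup.mk _ = _
  rw [d.ρ_mk, ← QuotientGroup.mk_mul]
  exact congrArg QuotientGroup.mk (Subtype.ext (by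
    show (a : G) * ((a : G)⁻¹ * (t * a * t⁻¹)) = _
    group))

include R in
theorem rho_mem_Y (o : Outer z E P N e) {t : G} (htH : t ∈ centralizer ({z} : Set G))
    (hts : ∀ s ∈ R.sHat, t * s = s * t) : d.ρ ⟨t, htH⟩ ∈ Outer.Y d := by
  by_contra hY
  have hfixx : ∀ m ∈ Real.fixed R.A0, d.ρ ⟨t, htH⟩ m = m := by
    intro m hm
    obtain ⟨b, rfl⟩ := QuotientGroup.mk_surjective m
    rw [d.ρ_mk]
    refine congrArg QuotientGroup.mk (Subtype.ext ?_)
    show t * (b : G) * t⁻¹ = b
    rw [hts b ⟨b.2, hm⟩, mul_inv_cancel_right]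
  have hall : ∀ m ∈ Real.fixed R.A0, m = 1 := by
    intro m hm
    have hw : d.ρ (R.g 3) m ∈ Real.fixed R.A0 := R.fixed_apply R.normA0_g3 hm
    have h := DFunLike.congr_fun (R.outer_apply o hY) m
    rw [MulAut.mul_apply, MulAut.mul_apply, MulAut.mul_apply, hfixx _ hw, hfixx _ hm] at h
    exact R.fpf m ((d.ρ (R.g 3)).injective h.symm)
  haveI : Subsingleton (Real.fixed R.A0) :=
    ⟨fun a b => Subtype.ext ((hall a a.2).trans (hall b b.2).symm)⟩
  have hne : (Real.fixed R.A0).Nonempty := ⟨1, fun x _ => map_one x⟩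
  haveI := hne.to_subtype
  have := R.card_fixed_A0
  rw [Nat.card_of_subsingleton hne.to_subtype.some] at this
  omega

theorem exists_lift_A0 {x : MulAut (Bar E)} (hx : x ∈ R.A0) :
    ∃ t ∈ R.V0, ∃ h : t ∈ centralizer ({z} : Set G), d.ρ ⟨t, h⟩ = x := by
  obtain ⟨c, -, rfl⟩ := R.Q_le_Y (R.A0_le_Q hx)
  exact R.exists_V0_lift hx

include R in
/-- The elementary subgroup of order `2 ^ 11` is self-centralising. -/
theorem centralizer_V0 (o : Outer z E P N e) : centralizer (R.V0 : Set G) = R.V0 := by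
  classical
  refine le_antisymm (fun t ht => ?_) fun t ht => mem_centralizer_iff.2 fun a ha => V0_comm R ha ht
  haveI := R.finite_aut
  have htH := cent_le_H R ht
  have hts : ∀ s ∈ R.sHat, t * s = s * t :=
    fun s hs => (mem_centralizer_iff.1 ht s (R.sHat_le_V0 hs)).symm
  set x := d.ρ ⟨t, htH⟩ with hx
  have hxY : x ∈ Outer.Y d := rho_mem_Y R o htH hts
  have hsub : ∀ a ∈ R.A0, x * a = a * x := by
    intro a ha
    obtain ⟨u, hu, huH, rfl⟩ := exists_lift_A0 R ha
    rw [hx, ← map_mul, ← map_mul]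
    exact congrArg d.ρ (Subtype.ext (mem_centralizer_iff.1 ht u hu).symm)
  have hfixx : ∀ m ∈ Real.fixed R.A0, x m = m := by
    intro m hm
    obtain ⟨b, rfl⟩ := QuotientGroup.mk_surjective m
    rw [hx, d.ρ_mk]
    refine congrArg QuotientGroup.mk (Subtype.ext ?_)
    show t * (b : G) * t⁻¹ = b
    rw [hts b ⟨b.2, hm⟩, mul_inv_cancel_right]
  have hxx : x * x = 1 := by
    refine MulEquiv.ext fun m => ?_
    obtain ⟨b, rfl⟩ := QuotientGroup.mk_surjective m
    obtain ⟨σ, hσ, hxb⟩ := moves_fixed R htH hts b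
    rw [MulAut.mul_apply, MulAut.one_apply, hx, ← hxb, map_mul, ← hx, hfixx σ hσ, hx, ← hxb,
      mul_assoc, d.sq_bar, mul_one]
  refine ⟨htH, ?_, fun s hs => (hts s hs).symm⟩
  have hAexp : ∀ a ∈ R.A0, a * a = 1 := by
    intro a ha
    obtain ⟨u, hu, huH, rfl⟩ := exists_lift_A0 R ha
    rw [← map_mul, show (⟨u, huH⟩ * ⟨u, huH⟩ : ↥(centralizer ({z} : Set G))) = 1 from
      Subtype.ext (R.V0_sq hu), map_one]
  let B : Subgroup (MulAut (Bar E)) :=
    { carrier := {y | y ∈ R.A0 ∨ y * x ∈ R.A0}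
      one_mem' := Or.inl (one_mem _)
      mul_mem' := fun {y y'} hy hy' => by
        have hcomm : ∀ {v}, v * x ∈ R.A0 → ∀ {a}, a ∈ R.A0 → v * a = a * v := by
          intro v hv a ha
          have h1 : v = (v * x) * x := by rw [mul_assoc, hxx, mul_one]
          have hc : (v * x) * a = a * (v * x) := by
            obtain ⟨p, hp, hpH, hpe⟩ := exists_lift_A0 R hv
            obtain ⟨q, hq, hqH, hqe⟩ := exists_lift_A0 R ha
            rw [← hpe, ← hqe, ← map_mul, ← map_mul]
            exact congrArg d.ρ (Subtype.ext (V0_comm R hp hq))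
          rw [h1, mul_assoc, hsub a ha, ← mul_assoc, hc, mul_assoc]
        rcases hy with hy | hy <;> rcases hy' with hy' | hy'
        · exact Or.inl (mul_mem hy hy')
        · exact Or.inr (by rw [mul_assoc]; exact mul_mem hy hy')
        · refine Or.inr ?_
          rw [mul_assoc, ← hsub y' hy', ← mul_assoc]
          exact mul_mem hy hy'
        · refine Or.inl ?_
          have : y * y' = (y * x) * (y' * x) := by
            have hc := hsub _ hy'
            calc y * y' = y * (y' * x) * x := by rw [mul_assoc, mul_assoc, hxx, mul_one]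
              _ = y * (x * (y' * x)) := by rw [hc, mul_assoc]
              _ = _ := by rw [← mul_assoc]
          rw [this]
          exact mul_mem hy hy'
      inv_mem' := fun {y} hy => by
        rcases hy with hy | hy
        · exact Or.inl (inv_mem hy)
        · refine Or.inr ?_
          have hxi : x⁻¹ = x := inv_eq_of_mul_eq_one_right hxx
          have hc := hsub _ hy
          have h1 : y⁻¹ = x * (y * x)⁻¹ := by rw [mul_inv_rev, ← mul_assoc, hxi, hxx, one_mul]
          rw [h1, mul_assoc, ← (Commute.inv_right (show Commute x (y * x) from hc)).eq, ← mul_assoc,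
            hxx, one_mul]
          exact inv_mem hy }
  have hBY : B ≤ Outer.Y d := by
    rintro y (hy | hy)
    · exact R.Q_le_Y (R.A0_le_Q hy)
    · have : y = (y * x) * x := by rw [mul_assoc, hxx, mul_one]
      rw [this]
      exact mul_mem (R.Q_le_Y (R.A0_le_Q hy)) hxY
  have hBexp : ∀ y ∈ B, y * y = 1 := by
    rintro y (hy | hy)
    · exact hAexp y hy
    · have h1 : y = (y * x) * x := by rw [mul_assoc, hxx, mul_one]
      have hc := hsub _ hy
      calc y * y = (y * x) * x * ((y * x) * x) := by rw [← h1]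
        _ = (y * x) * ((y * x) * x) * x := by rw [mul_assoc _ x, ← mul_assoc x, hc]; group
        _ = (y * x) * (y * x) * (x * x) := by group
        _ = 1 := by rw [hAexp _ hy, hxx, one_mul]
  obtain ⟨c, -, hc⟩ := R.exists_conj_le_Q o hBY fun y => ⟨1, Subtype.ext (by
    show (y : MulAut (Bar E)) ^ (2 ^ 1) = 1
    rw [pow_one, sq, hBexp y y.2])⟩
  have hmem : ∀ w ∈ B.map (MulAut.conj c).toMonoidHom, w ∈ R.Q ∧ w * w = 1 := by
    rintro _ ⟨y, hy, rfl⟩
    exact ⟨hc y hy, by rw [← map_mul, hBexp y hy, map_one]⟩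
  have hAB : R.A0 ≤ B := fun a ha => Or.inl ha
  have hcard : Nat.card (B.map (MulAut.conj c).toMonoidHom) = Nat.card B :=
    Nat.card_congr (B.equivMapOfInjective _ (MulAut.conj c).injective).toEquiv.symm
  have h16 := (R.elementary_cases (fun w hw => (hmem w hw).1) (fun w hw => (hmem w hw).2)
    (by rw [hcard, ← R.card_A0]; exact Subgroup.card_le_of_le hAB)).1
  rw [hcard] at h16
  have heq : R.A0 = B := Subgroup.eq_of_le_of_card_ge hAB (by rw [h16, R.card_A0])
  rw [heq]
  exact Or.inr (by rw [← hx, hxx]; exact one_mem _)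

end H19.J4V
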