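import Cfsg.Agent.H88.J4Fusion.Cert

/-!
Numerical model of the elementary subgroup of order `2 ^ 11` in a group of `J₄` type, with the action
of the extraspecial subgroup.
-/

set_option autoImplicit false
set_option maxRecDepth 100000

namespace H19.J4V

open Cfsg.Agent.H69.J4 H88.J4Fusion

/-- The quadratic form on the twelve-dimensional space, as a mask. -/
def qMask : ℕ := 0x177e7ee87ee8e8817ee8e881e88181177ee8e881e8818117e88181178117177e7ee8e881e8818117e88181178117177ee88181178117177e8117177e177e7ee87ee8e881e8818117e88181178117177ee88181178117177e8117177e177e7ee8e88181178117177e8117177e177e7ee88117177e177e7ee8177e7ee87ee8e881177e7ee87ee8e8817ee8e881e88181177ee8e881e8818117e88181178117177e7ee8e881e8818117e88181178117177ee88181178117177e8117177e177e7ee87ee8e881e8818117e88181178117177ee88181178117177e8117177e177e7ee8e88181178117177e8117177e177e7ee88117177e177e7ee8177e7ee87ee8e881177e7ee87ee8e8817ee8e881e88181177ee8e881e8818117e88181178117177e7ee8e881e8818117e88181178117177ee88181178117177e8117177e177e7ee87ee8e881e8818117e88181178117177ee88181178117177e8117177e177e7ee8e88181178117177e8117177e177e7ee88117177e177e7ee8177e7ee87ee8e881e88181178117177e8117177e177e7ee88117177e177e7ee8177e7ee87ee8e8818117177e177e7ee8177e7ee87ee8e881177e7ee87ee8e8817ee8e881e88181178117177e177e7ee8177e7ee87ee8e881177e7ee87ee8e8817ee8e881e8818117177e7ee87ee8e8817ee8e881e88181177ee8e881e8818117e88181178117177e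

/-- The quadratic form. -/
def qB (v : ℕ) : Bool := qMask.testBit v

/-- The alternating form. -/
def bilN (u v : ℕ) : Bool := (qB u ^^ qB v) ^^ qB (u ^^^ v)

/-- A basis of the fixed space. -/
def bS : List ℕ := [13, 67, 145, 769, 1025, 2358]

/-- A vector of the fixed space from its six coordinates. -/
def sv (s : ℕ) : ℕ := ap bS s

/-- The table of fixed vectors. -/
def svTab : List ℕ := (List.range 64).map sv

/-- The coordinates of a fixed vector. -/
def sc (v : ℕ) : ℕ := svTab.idxOf v

/-- A basis of the subgroup of order sixteen. -/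
def kB : List (List ℕ) := [[1, 65, 9, 5, 129, 1022, 3, 17, 513, 257, 1024, 2048], [222, 2, 1796, 2007, 1808, 2326, 159, 1887, 2218, 2933, 1247, 2204], [2003, 3636, 4, 2010, 2342, 1824, 2468, 3684, 2987, 3961, 978, 683], [1858, 782, 2528, 3759, 2805, 3462, 1039, 3366, 1346, 257, 835, 489]]

/-- A matrix of the subgroup of order sixteen from its four coordinates. -/
def xm (x : ℕ) : List ℕ :=
  (List.range 4).foldl (fun A i => bif x.testBit i then mm A (kB.getD i []) else A) mI

/-- A code from its three parts. -/
def pack (e : Bool) (s x : ℕ) : ℕ := (bif e then 1 else 0) ^^^ 2 * s ^^^ 128 * x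

/-- The first part. -/
def cE (a : ℕ) : Bool := a.testBit 0

/-- The second part. -/
def cS (a : ℕ) : ℕ := a / 2 % 64

/-- The third part. -/
def cX (a : ℕ) : ℕ := a / 128

/-- The commutator vector. -/
def cmt (x u : ℕ) : ℕ := ap (xm x) u ^^^ u

/-- Conjugation by an element of the extraspecial subgroup. -/
def dE (u a : ℕ) : ℕ :=
  pack (cE a ^^ (bilN u (sv (cS a)) ^^ bilN u (ap mW (cmt (cX a) u))))
    (sc (sv (cS a) ^^^ cmt (cX a) u)) (cX a)

/-- Conjugation by the element of order three. -/
def dW (a : ℕ) : ℕ := pack (cE a) (sc (ap mW (sv (cS a)))) (cX a)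

theorem q_roots : ((List.range 4096).all fun v =>
    bif Nat.beq v rootN then qB v
    else bif sVec.contains v then !qB v
    else qB (ap (letter (stepJ v)) v) == qB v) = true := by decide +kernel

theorem q_bound : Nat.blt qMask (2 ^ 4096) = true := by decide +kernel

theorem w_sum_ok : ((List.range 4096).all fun v =>
    Nat.beq (ap mW v ^^^ ap mW (ap mW v)) v) = true := by decide +kernel

theorem w_form : ((List.range 4096).all fun v =>
    qB (ap mW v) == qB v) = true := by decide +kernel

theorem sv_ok : ((List.range 64).all fun s => sVec.contains (sv s) && Nat.beq (sc (sv s)) s &&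
    sVec.contains (ap mW (sv s))) = true := by decide +kernel

theorem sv_cover : (sVec.all fun v => Nat.blt (sc v) 64 && Nat.beq (sv (sc v)) v) = true := by
  decide +kernel

theorem sv_xor : ((List.range 64).all fun s => (List.range 64).all fun t =>
    Nat.beq (sv (s ^^^ t)) (sv s ^^^ sv t) && !bilN (ap mW (sv s)) (ap mW (ap mW (sv t)))) = true := by
  decide +kernel

theorem kB_ok : (kB.all fun A => mK2.contains A) = true := by decide +kernel

theorem xm_ok : ((List.range 16).all fun x => (mI :: mK2).contains (xm x) &&
    (List.range x).all fun y => !(xm x == xm y)) = true := by decide +kernel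

theorem xm_xor : ((List.range 16).all fun x => (List.range 16).all fun y =>
    xm (x ^^^ y) == mm (xm x) (xm y)) = true := by decide +kernel

theorem pack_ok : ((List.range 2048).all fun a =>
    Nat.beq (pack (cE a) (cS a) (cX a)) a && Nat.blt (cS a) 64 && Nat.blt (cX a) 16) = true := by
  decide +kernel

theorem unpack_ok : ([false, true].all fun e => (List.range 64).all fun s => (List.range 16).all fun x =>
    cE (pack e s x) == e && Nat.beq (cS (pack e s x)) s && Nat.beq (cX (pack e s x)) x &&
      Nat.blt (pack e s x) 2048) = true := by decide +kernel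

end H19.J4V
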