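import Cfsg.Agent.H19.J4V.Invol
import Cfsg.Agent.H2.Gaschutz

/-!
A complement to the elementary subgroup in a Sylow two-subgroup of its normalizer, and hence in the
normalizer.
-/

set_option autoImplicit false
set_option maxRecDepth 20000
set_option maxHeartbeats 800000
set_option linter.unusedSectionVars false
set_option linter.style.haveILetI false

namespace H19.J4V

open Subgroup Cfsg.Agent.H69.J4 H88.J4Fusion

variable {G : Type*} [Group G] [Finite G]
variable {z : G} {E P N : Subgroup G} {d : Data z E P} {R : Real d}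
variable {e : ↥(centralizer ({z} : Set G)) →* MulAut ↥Cfsg.Spor.M22}

theorem lists_bound : ∀ l ∈ [bL, uA, vA, mW, mm mW mW], ∀ a ∈ l, a < 2 ^ 12 := fun l hl a ha => by
  have h := lists_lt
  simp only [Bool.and_eq_true] at h
  exact Nat.blt_eq.mp ((List.all_eq_true.1 ((List.all_eq_true.1 h.1) l hl)) a ha)

theorem gT_lt {i : ℕ} (hi : i < 3) (v : ℕ) : ap (gT i) v < 4096 ∧ ap (gT' i) v < 4096 := by
  have key : ∀ l ∈ [uA, vA, mW, mm mW mW], ap l v < 4096 := fun l hl =>
    ap_lt (n := 12) (lists_bound l (by revert hl; simp; tauto)) v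
  interval_cases i <;> exact ⟨key _ (by simp [gT]), key _ (by simp [gT'])⟩

theorem bWds_lt : ∀ w ∈ bWds, ∀ i ∈ w, i < 3 := by decide

theorem wd_lt {v : ℕ} (hv : v < 4096) : ∀ w : List ℕ, (∀ i ∈ w, i < 3) →
    wdApp gT w v < 4096 ∧ wdApp gT' w v < 4096
  | [], _ => ⟨hv, hv⟩
  | i :: w, h => ⟨(gT_lt (h i (List.mem_cons_self ..)) _).1, (gT_lt (h i (List.mem_cons_self ..)) _).2⟩

theorem t_lt {j : ℕ} (hj : j < 64) : 3084 ^^^ sv j < 4096 :=
  Nat.xor_lt_two_pow (n := 12) (by norm_num) (sVec_bound (sv_mem hj))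

theorem bImg_lt {j : ℕ} (hj : j < 64) : ∀ a ∈ bImg j, a < 2 ^ 12 := by
  intro a ha
  obtain ⟨w, hw, rfl⟩ := List.mem_map.1 ha
  exact (wd_lt (t_lt hj) w (bWds_lt w hw)).2

theorem ap_map_eq {f g : ℕ → ℕ} (σ : MulAut (Bar E)) :
    ∀ (l : List (List ℕ)) (h : List ℕ → ℕ) (k : List ℕ → ℕ),
      (∀ w ∈ l, σ (R.φ (h w)) = R.φ (k w)) → ∀ i, σ (R.φ (ap (l.map h) i)) = R.φ (ap (l.map k) i)
  | [], h, k, _, i => by simp [ap, R.φ_zero]
  | w :: l, h, k, hh, i => by
    simp only [List.map_cons, ap]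
    rw [R.φ_xor, R.φ_xor, map_mul, ap_map_eq (f := f) (g := g) σ l h k
      (fun w hw => hh w (List.mem_cons_of_mem _ hw))]
    congr 1
    cases Nat.beq (i % 2) 1
    · simp [R.φ_zero]
    · exact hh w (List.mem_cons_self ..)

theorem code_z (F : Lifts R) {a : ℕ} (ha : a < 128) :
    F.pt a = zb z (cE a) * lz R (sv (cS a)) := by
  rw [Lifts.pt, show cX a = 0 from Nat.div_eq_of_lt ha, Lifts.kx, selB_zero, mul_one]
  rfl

theorem half_ok : ∀ s < 64, pack false s 0 = 2 * s ∧ ap sM (2 * s) < 128 := by decide +kernel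

theorem cls_sM (F : Lifts R) {y : G} (hy : y ∈ centralizer ({z} : Set G)) (hya : Acts F y (ap sM))
    {j : ℕ} (hj : j < 64) :
    d.ρ ⟨y, hy⟩ (R.φ (sv j)) = R.φ (sv (cS (ap sM (2 * j)))) := by
  obtain ⟨hp, hlt⟩ := half_ok j hj
  have h := (hya (2 * j) (by omega)).2
  rw [show F.pt (2 * j) = lz R (sv j) by
    rw [← hp, pt_pack F _ hj (by norm_num), Lifts.kx, selB_zero]; simp, code_z F hlt] at h
  rw [φ_lz R (sVec_bound (sv_mem hj)), φ_lz R (sVec_bound (sv_mem (cS_lt _))), d.ρ_mk, d.mk_eq_iff]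
  show lz R (sv (cS (ap sM (2 * j)))) = y * lz R (sv j) * y⁻¹ ∨
    lz R (sv (cS (ap sM (2 * j)))) = y * lz R (sv j) * y⁻¹ * z
  rw [h]
  cases cE (ap sM (2 * j))
  · left; simp [zb]
  · right
    simp only [zb, cond_true]
    rw [← d.L.commute_z (lz_mem R _), mul_assoc, d.L.zz, mul_one]

theorem xor_four (a b c d a' b' c' d' : ℕ) :
    a ^^^ a' ^^^ (b ^^^ b') ^^^ (c ^^^ c') ^^^ (d ^^^ d') = a ^^^ b ^^^ c ^^^ d ^^^ (a' ^^^ b' ^^^ c' ^^^ d') := by
  refine Nat.eq_of_testBit_eq fun i => ?_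
  have key : ∀ p q r s p' q' r' s' : Bool, (p ^^ p' ^^ (q ^^ q') ^^ (r ^^ r') ^^ (s ^^ s')) =
      (p ^^ q ^^ r ^^ s ^^ (p' ^^ q' ^^ r' ^^ s')) := by decide
  simp only [Nat.testBit_xor]
  exact key ..

/-- The involution inverting the element of order three can be chosen to normalise the singular lift. -/
theorem exists_trio_sub [IsSimpleGroup G] (hG : ¬ IsMulCommutative G) (o : Outer z E P N e)
    (F : Lifts R) (hS : Shape F)
    (hM : ∀ a < 2048, (tMask 653).testBit a = true ↔ F.pt a ∈ outside R) :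
    ∃ u v y : G, Trio F u v y ∧ ∀ i < 64, ∃ k < 64,
      y * lz R (ap bL i) * y⁻¹ = lz R (ap bL k) := by
  classical
  obtain ⟨u, v, y, T⟩ := exists_trio hG o F hS hM
  set Y := d.ρ ⟨y, T.yH⟩ with hY
  have hq := sub_misc
  simp only [Bool.and_eq_true, Bool.not_eq_true'] at hq
  obtain ⟨⟨⟨⟨⟨⟨⟨⟨⟨⟨-, q643⟩, qu643⟩, qe⟩, qc⟩, que⟩, hb643⟩, hl643⟩, q64u⟩, hB4⟩, hB1⟩ := hq
  have hacts := fun i (hi : i < 11) => (List.all_eq_true.1 acts_ok) i (List.mem_range.2 hi)
  simp only [Bool.and_eq_true] at hacts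
  -- the image of the first member
  set m := y * lz R 2359 * y⁻¹ with hm
  have hmE : m ∈ E := d.L.conj_mem T.yH (lz_mem R _)
  obtain ⟨t, ht, htm⟩ := R.φ_surj (QuotientGroup.mk ⟨m, hmE⟩)
  have hyi : y⁻¹ = y := mul_self_inv T.y2
  have hmc := (T.ya.mul (acts_lz F (by norm_num : 2359 < 4096))).mul
    (hyi.symm ▸ T.ya : Acts F y⁻¹ (ap sM))
  have hma : Acts F m (dE 3084) := hmc.congr (hmc.additive.ext
    (acts_lz F (by norm_num : 3084 < 4096)).additive fun i hi => Nat.eq_of_beq_eq_true (hacts i hi).1.2)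
  have hkc := (acts_lz F (by norm_num : 3084 < 4096)).mul hma
  have hkV : lz R 3084 * m ∈ R.V0 := hkc.mem_V0 o
    (hkc.additive.ext (fun _ _ _ _ => rfl) fun i hi => Nat.eq_of_beq_eq_true (hacts i hi).2)
  obtain ⟨c, hc, hcm⟩ := (R.fixed_A0 _).1 (R.V0_E hkV (mul_mem (lz_mem R _) hmE)).2
  have htc : t = 3084 ^^^ c := by
    have h1 : R.φ (3084 ^^^ t) = R.φ c := by
      rw [R.φ_xor, htm, φ_lz R (by norm_num : 3084 < 4096), hcm, ← QuotientGroup.mk_mul]
      rfl
    rw [← R.φ_inj (Nat.xor_lt_two_pow (n := 12) (by norm_num) ht) (sVec_bound hc) h1, ← Nat.xor_assoc,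
      Nat.xor_self, Nat.zero_xor]
  set j := sc c
  obtain ⟨hj, hjc⟩ := sc_lt hc
  rw [← hjc] at htc
  have hYe : Y (R.φ 2359) = R.φ t := by
    rw [φ_lz R (by norm_num), hY, d.ρ_mk, htm]
  have hYY : ∀ x, Y (Y x) = x := fun x => by
    rw [hY, ← MulAut.mul_apply, ← map_mul,
      show (⟨y, T.yH⟩ * ⟨y, T.yH⟩ : ↥(centralizer ({z} : Set G))) = 1 from Subtype.ext T.y2, map_one]
    rfl
  -- commutation with the three generators
  have hgen : ∀ i < 3, ∀ x, x < 4096 → ∀ x', Y (R.φ x) = R.φ x' →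
      Y (R.φ (ap (gT i) x)) = R.φ (ap (gT' i) x') := by
    intro i hi x _ x' hx
    have hcom : ∀ {w : G} (hw : w ∈ centralizer ({z} : Set G)) {A : List ℕ},
        R.code (d.ρ ⟨w, hw⟩) = A → y * w = w * y → Y (R.φ (ap A x)) = R.φ (ap A x') := by
      intro w hw A hA he
      have h1 : Y * d.ρ ⟨w, hw⟩ = d.ρ ⟨w, hw⟩ * Y := by
        rw [hY, ← map_mul, ← map_mul]; exact congrArg d.ρ (Subtype.ext he)
      have h2 := DFunLike.congr_fun h1 (R.φ x)
      rw [MulAut.mul_apply, MulAut.mul_apply, R.apply (d.ρ ⟨w, hw⟩), hA, hx, R.apply (d.ρ ⟨w, hw⟩),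
        hA] at h2
      exact h2
    interval_cases i
    · exact hcom T.uH T.uA T.yu
    · exact hcom T.vH T.vA T.yv
    · show Y (R.φ (ap mW x)) = R.φ (ap (mm mW mW) x')
      have h1 : Y * d.ρ (R.g 3) = d.ρ (R.g 3) * d.ρ (R.g 3) * Y := by
        rw [hY, ← map_mul, ← map_mul, ← map_mul]
        refine congrArg d.ρ (Subtype.ext ?_)
        show y * R.g 3 = (R.g 3 : G) * R.g 3 * y
        rw [mul_inv_eq_iff_eq_mul.1 T.yg,
          inv_eq_of_mul_eq_one_right (show (R.g 3 : G) * (R.g 3 * R.g 3) = 1 by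
            rw [← mul_assoc]; exact R.g3_pow)]
      have h2 := DFunLike.congr_fun h1 (R.φ x)
      simp only [MulAut.mul_apply, hx, R.apply (d.ρ (R.g 3)), R.mat_letter] at h2
      rw [ap_mm]
      exact h2
  have hwd : ∀ w : List ℕ, (∀ i ∈ w, i < 3) →
      Y (R.φ (wdApp gT w 2359)) = R.φ (wdApp gT' w t) := by
    intro w
    induction w with
    | nil => intro _; exact hYe
    | cons i w ih =>
      intro h
      exact hgen i (h i (List.mem_cons_self ..)) _ (wd_lt (by norm_num) w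
        fun a ha => h a (List.mem_cons_of_mem _ ha)).1 _ (ih fun a ha => h a (List.mem_cons_of_mem _ ha))
  have hlin : ∀ i, Y (R.φ (ap bL i)) = R.φ (ap (bImg j) i) := fun i => by
    rw [bL_eq, bImg, ← htc]
    exact ap_map_eq (f := id) (g := id) Y bWds _ _ (fun w hw => hwd w (bWds_lt w hw)) i
  have hbL4 : ∀ i, ap bL i < 4096 := ap_lt (n := 12) (lists_bound bL (by simp))
  have hbI4 : ∀ i, ap (bImg j) i < 4096 := ap_lt (n := 12) (bImg_lt hj)
  have hsub := fun i (hi : i < 64) => (List.all_eq_true.1 sub_ok) i (List.mem_range.2 hi)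
  simp only [Bool.and_eq_true, Bool.not_eq_true'] at hsub
  have hqImg : ∀ i < 64, qB (ap (bImg j) i) = false := by
    intro i hi
    have h1 : R.qv (ap (bImg j) i) = R.qv (ap bL i) := by
      rw [← R.qv_apply ⟨y, T.yH⟩ (ap bL i)]
      congr 1
      refine R.φ_inj (hbI4 i) (ap_lt (n := 12) (R.mat_lt _) _) ?_
      rw [← hlin i, ← R.apply]
    rw [qv_eq R _ (hbI4 i), qv_eq R _ (hbL4 i)] at h1
    rw [bz_inj _ _ h1]
    exact (hsub i hi).1.1.1.1.1
  -- the element of order four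
  have hb4 : bilN t (ap uA 2359) = false := by
    have hreal : ∃ n : G, Acts F n (ap nF) := by
      have h := (List.all_eq_true.1 preserve_ok) nF (by simp)
      simp only [Bool.and_eq_true, List.all_eq_true, Nat.blt_eq, beq_iff_eq, List.mem_range,
        Bool.or_eq_true, Bool.not_eq_true'] at h
      refine exists_acts hG o F hM h.1 (fun a ha => (h.2 a ha).1) fun a ha e => ?_
      rcases (h.2 a ha).2 with h' | h'
      · exact Nat.eq_of_beq_eq_true h'
      · rw [e] at h'; exact absurd h' (by decide)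
    obtain ⟨n, hn⟩ := hreal
    set l0 := lz R 643 * u
    have hui : u⁻¹ = u := mul_self_inv T.u2
    have hul : ∀ x, u * lz R x * u = lz R (ap uA x) := fun x => by
      have := conj_lz R (h := ⟨u, T.uH⟩) T.ug.symm x
      rw [T.uA] at this
      simpa [hui] using this
    have hl04 : l0 * l0 * (l0 * l0) = 1 := by
      have h2 : l0 * l0 = lz R (643 ^^^ ap uA 643) := by
        rw [lz_xor R hl643, ← hul]
        simp only [l0]; group
      rw [h2]
      exact lz_sq (Nat.xor_lt_two_pow (n := 12) (by norm_num)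
        (ap_lt (n := 12) (lists_bound uA (by simp)) _)) q64u
    set G4 : ℕ → ℕ := fun a => ap sM (dE 2359 (ap uM a))
    set g := y * lz R 2359 * u
    have hga : Acts F g G4 := (T.ya.mul (acts_lz F (by norm_num))).mul T.ua
    have hconj := fun i (hi : i < 11) => (List.all_eq_true.1 conjS_ok) i (List.mem_range.2 hi)
    simp only [Bool.and_eq_true] at hconj
    set j4 := n * l0 * n⁻¹
    have hG4a : Additive11 fun a => G4 (ap nF a) := fun a ha b hb => by
      show G4 (ap nF (a ^^^ b)) = _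
      rw [ap_xor, hga.additive _ (hn a ha).1 _ (hn b hb).1]
    have hl0a : Acts F l0 fun a => dE 643 (ap uM a) := (acts_lz F (by norm_num)).mul T.ua
    have hj4a : Acts F j4 G4 := acts_conj hn hl0a
      ((hn.mul hl0a).additive.ext hG4a fun i hi => Nat.eq_of_beq_eq_true (hconj i hi).2)
    have hj44 : j4 * j4 * (j4 * j4) = 1 := by
      rw [show j4 * j4 * (j4 * j4) = n * (l0 * l0 * (l0 * l0)) * n⁻¹ by simp only [j4]; group, hl04]
      group
    obtain ⟨a, ha, hat⟩ := pt_surj F (show j4 * g⁻¹ ∈ R.V0 by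
      refine (centralizer_V0 R o).le (mem_centralizer_iff.2 fun x hx => ?_)
      obtain ⟨b, hb, hbx⟩ := pt_surj F (show g⁻¹ * x * g ∈ R.V0 by
        have := (mem_normalizer_iff.1 (inv_mem hga.mem_NV) _).1 hx
        rwa [inv_inv] at this)
      have e1 : g * F.pt b * g⁻¹ = x := by rw [hbx]; group
      have e2 : j4 * F.pt b * j4⁻¹ = x := (hj4a b hb).2.trans ((hga b hb).2.symm.trans e1)
      calc x * (j4 * g⁻¹) = (j4 * F.pt b * j4⁻¹) * (j4 * g⁻¹) := by rw [e2]
        _ = j4 * g⁻¹ * (g * F.pt b * g⁻¹) := by group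
        _ = j4 * g⁻¹ * x := by rw [e1])
    obtain ⟨h1, h1e⟩ := hga a ha
    obtain ⟨h2, h2e⟩ := (hga.mul hga) a ha
    obtain ⟨h3, h3e⟩ := ((hga.mul hga).mul hga) a ha
    have hg4 : F.pt (a ^^^ G4 a ^^^ G4 (G4 a) ^^^ G4 (G4 (G4 a))) * (g * g * (g * g)) = 1 := by
      rw [pt_xor F, pt_xor F, pt_xor F, ← h1e, ← h2e, ← h3e]
      have hj : j4 = F.pt a * g := by rw [hat, inv_mul_cancel_right]
      rw [← hj44, hj]
      group
    have hE2 : lz R (ap uA 2359) ∈ E := lz_mem R _
    have hgg : g * g * (g * g) = zb z (bilN t (ap uA 2359)) := by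
      have h2 : g * g = m * lz R (ap uA 2359) := by
        rw [← hul, hm, hyi]
        calc y * lz R 2359 * u * (y * lz R 2359 * u) = y * lz R 2359 * (u * y) * lz R 2359 * u := by group
          _ = y * lz R 2359 * (y * u) * lz R 2359 * u := by rw [T.yu]
          _ = _ := by group
      rw [h2]
      have hm2 : m * m = 1 := by
        rw [hm, show y * lz R 2359 * y⁻¹ * (y * lz R 2359 * y⁻¹) = y * (lz R 2359 * lz R 2359) * y⁻¹ by
          group, lz_sq (by norm_num) qe]
        group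
      set n2 := lz R (ap uA 2359)
      have hn2 : n2 * n2 = 1 := lz_sq (ap_lt (n := 12) (lists_bound uA (by simp)) _) que
      calc m * n2 * (m * n2) = Data.zp z (Data.bil m n2) * (n2 * m) * (m * n2) := by
            rw [← d.mul_eq hmE hE2]
        _ = Data.zp z (Data.bil m n2) * (n2 * (m * m) * n2) := by group
        _ = _ := by
          rw [hm2, mul_one, hn2, mul_one, bil_eq R ht (ap_lt (n := 12) (lists_bound uA (by simp)) _)
            (a := ⟨m, hmE⟩) (b := ⟨n2, hE2⟩) htm (φ_lz R (ap_lt (n := 12) (lists_bound uA (by simp)) _)),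
            zp_eq (d := d)]
    rw [hgg] at hg4
    cases hb : bilN t (ap uA 2359)
    · rfl
    · rw [hb] at hg4
      have hz1 : F.pt 1 = z := by
        rw [code_z F (by norm_num)]
        rw [show sv (cS 1) = 0 by decide +kernel, lz_zero, mul_one]
        rfl
      simp only [zb, cond_true] at hg4
      replace hg4 : F.pt (a ^^^ G4 a ^^^ G4 (G4 a) ^^^ G4 (G4 (G4 a)) ^^^ 1) = 1 := by
        rw [pt_xor F, hz1]; exact hg4
      have hlt : a ^^^ G4 a ^^^ G4 (G4 a) ^^^ G4 (G4 (G4 a)) < 2048 :=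
        Nat.xor_lt_two_pow (n := 11) (Nat.xor_lt_two_pow (n := 11) (Nat.xor_lt_two_pow (n := 11) ha h1) h2) h3
      have := Nat.xor_eq_zero_iff.1 (pt_eq_one F (Nat.xor_lt_two_pow (n := 11) hlt (by norm_num)) hg4)
      set Nm : ℕ → ℕ := fun a => a ^^^ G4 a ^^^ G4 (G4 a) ^^^ G4 (G4 (G4 a))
      have hg2 := hga.mul hga
      have hNa : Additive11 Nm := fun a ha b hb => by
        simp only [Nm]
        have e3 : G4 (G4 (G4 (a ^^^ b))) = G4 (G4 (G4 a)) ^^^ G4 (G4 (G4 b)) :=
          (hg2.mul hga).additive a ha b hb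
        have e2 : G4 (G4 (a ^^^ b)) = G4 (G4 a) ^^^ G4 (G4 b) := hg2.additive a ha b hb
        rw [e3, e2, hga.additive a ha b hb]
        exact xor_four ..
      have hN : Nm a = 0 ∨ Nm a = nrmW := by
        refine basis_ind (n := 11) (Q := fun a => Nm a = 0 ∨ Nm a = nrmW) (Or.inl ?_) (fun a ha b hb h1 h2 => ?_)
          (fun i hi => ?_) a ha
        · have h := hNa 0 (by norm_num) 0 (by norm_num)
          simpa using h
        · show Nm (a ^^^ b) = 0 ∨ Nm (a ^^^ b) = nrmW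
          rw [hNa a ha b hb]
          rcases h1 with h1 | h1 <;> rcases h2 with h2 | h2 <;> simp [h1, h2]
        · simpa [Nm, G4] using (List.all_eq_true.1 norm_ok.1) i (List.mem_range.2 hi)
      rcases hN with h | h
      · rw [show Nm a = 1 from this] at h; exact absurd h (by decide)
      · exact absurd (h.symm.trans (show Nm a = 1 from this)) norm_ok.2
  -- the two cases
  have hj05 : j ∈ [0, 5] := by
    have h := (List.all_eq_true.1 cases_ok) j (List.mem_range.2 hj)
    simp only [Bool.or_eq_true, Bool.not_eq_true', List.any_eq_true, List.mem_range, Bool.and_eq_true,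
      List.contains_iff_mem] at h
    rcases h with (((h | ⟨g, hg, k, hk, i, hi, h1, h2⟩) | ⟨i, hi, h⟩) | h) | h
    · exact h
    · exfalso
      have hlist : ∀ k < 6, bL.getD k 0 = ap bL (2 ^ k) ∧ (2 : ℕ) ^ k < 64 ∧
          ∀ l : List ℕ, l.length = 6 → l.getD k 0 = ap l (2 ^ k) := by
        intro k hk
        have key : ∀ l : List ℕ, l.length = 6 → l.getD k 0 = ap l (2 ^ k) := by
          intro l hl
          match l, hl with
          | [a, b, c, d, e, f], _ => interval_cases k <;> simp [ap, beq_zero_one, beq_one_one]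
        exact ⟨key bL rfl, by interval_cases k <;> norm_num, key⟩
      obtain ⟨hk1, hk2, hk3⟩ := hlist k hk
      have hlen : (bImg j).length = 6 := by simp [bImg, bWds]
      rw [hk1] at h1
      rw [hk3 _ hlen] at h2
      have h1 := Nat.eq_of_beq_eq_true h1
      have e1 := hgen g hg (ap bL (2 ^ k)) (hbL4 _) _ (hlin _)
      rw [← h1, hlin i] at e1
      rw [R.φ_inj (hbI4 i) (gT_lt hg _).2 e1, Nat.beq_refl] at h2
      exact absurd h2 (by decide)
    · exact absurd h (by simp [hqImg i hi])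
    · exfalso
      have e1 := hlin 4
      rw [Nat.eq_of_beq_eq_true hB4] at e1
      have e2 : Y (R.φ t) = R.φ 2359 := by rw [← hYe, hYY]
      rw [htc, R.φ_xor, map_mul, e1, hY, cls_sM F T.yH T.ya hj, ← R.φ_xor] at e2
      rw [R.φ_inj (Nat.xor_lt_two_pow (n := 12) (hbI4 4) (sVec_bound (sv_mem (cS_lt _)))) (by norm_num)
        e2, Nat.beq_refl] at h
      exact absurd h (by decide)
    · rw [← htc, hb4] at h
      exact absurd h (by decide)
  -- correcting by an element commuting with everything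
  set x := xJ j
  have hx : x < 16 ∧ (128 * x = 0 ∨ 128 * x = 256) := by
    simp only [x, xJ]; cases Nat.beq j 0 <;> simp
  have hfix := (List.all_eq_true.1 xJ_fix) (128 * x) (by rcases hx.2 with h | h <;> simp [h])
  simp only [Bool.and_eq_true] at hfix
  have hptx : F.pt (128 * x) = F.kx x := (pt_root F hx.1).1
  set k := F.kx x
  have hk2 : k * k = 1 := R.V0_sq (kx_mem F x)
  have hki : k⁻¹ = k := mul_self_inv hk2
  have hfixed : ∀ {w : G} {W : List ℕ}, Acts F w (ap W) → Nat.beq (ap W (128 * x)) (128 * x) = true →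
      w * k = k * w := by
    intro w W hw he
    have := (hw (128 * x) (by omega)).2
    rw [Nat.eq_of_beq_eq_true he, hptx] at this
    exact mul_inv_eq_iff_eq_mul.1 this
  have hyk := hfixed T.ya hfix.1.1
  have huk := hfixed T.ua hfix.1.2
  have hvk := hfixed T.va hfix.2
  have hgk : (R.g 3 : G) * k = k * R.g 3 := kx_g3 F x
  refine ⟨u, v, k * y, ⟨T.uH, T.vH, mul_mem (kx_H F x) T.yH, T.uA, T.vA, T.ug, T.vg, ?_, T.u2, T.v2, ?_,
    T.r2, ?_, ?_, T.ua, T.va, ((acts_V0 F (kx_mem F x)).mul T.ya)⟩, fun i hi => ?_⟩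
  · calc k * y * R.g 3 * (k * y)⁻¹ = k * (y * R.g 3 * y⁻¹) * k⁻¹ := by group
      _ = _ := by rw [T.yg, ← (show Commute (R.g 3 : G) k from hgk).inv_left.eq, mul_inv_cancel_right]
  · calc k * y * (k * y) = k * (y * k) * y := by group
      _ = k * (k * y) * y := by rw [hyk]
      _ = (k * k) * (y * y) := by group
      _ = 1 := by rw [hk2, T.y2, one_mul]
  · rw [mul_assoc, T.yu, ← mul_assoc, ← huk, mul_assoc]
  · rw [mul_assoc, T.yv, ← mul_assoc, ← hvk, mul_assoc]
  · have hi' := (List.all_eq_true.1 ((List.all_eq_true.1 img_ok) j hj05)) i (List.mem_range.2 hi)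
    simp only [Bool.and_eq_true, Bool.not_eq_true', List.contains_iff_mem] at hi'
    obtain ⟨i', hi'', he⟩ := List.mem_map.1 hi'.1
    refine ⟨i', List.mem_range.1 hi'', ?_⟩
    rw [he]
    refine invert_lz (h := ⟨k * y, mul_mem (kx_H F x) T.yH⟩) ?_ (he ▸ hbL4 i') hi'.2 ?_
    · show k * y * R.g 3 * (k * y)⁻¹ = _
      calc k * y * R.g 3 * (k * y)⁻¹ = k * (y * R.g 3 * y⁻¹) * k⁻¹ := by group
        _ = _ := by rw [T.yg, ← (show Commute (R.g 3 : G) k from hgk).inv_left.eq, mul_inv_cancel_right]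
    · rw [show (⟨k * y, _⟩ : ↥(centralizer ({z} : Set G))) = ⟨k, kx_H F x⟩ * ⟨y, T.yH⟩ from rfl,
        map_mul, MulAut.mul_apply, ← hY, hlin, R.apply, kx_code F x hx.1]

end H19.J4V
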