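import Cfsg.Agent.H19.J4V.Form

/-!
Coordinates on the elementary subgroup of order `2 ^ 11`.
-/

set_option autoImplicit false
set_option maxRecDepth 20000
set_option linter.unusedSectionVars false
set_option linter.style.haveILetI false

namespace H19.J4V

open Subgroup Cfsg.Agent.H69.J4 H88.J4Fusion

section Sel

variable {G : Type*} [Group G]

/-- The product of the elements selected by the bits. -/
def selB (f : ℕ → G) : ℕ → ℕ → G
  | 0, _ => 1
  | n + 1, a => (bif a.testBit n then f n else 1) * selB f n a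

theorem selB_mem {f : ℕ → G} {V : Subgroup G} : ∀ n, (∀ i < n, f i ∈ V) → ∀ a, selB f n a ∈ V
  | 0, _, _ => one_mem V
  | n + 1, h, a => by
    refine mul_mem ?_ (selB_mem n (fun i hi => h i (by omega)) a)
    cases a.testBit n
    · exact one_mem V
    · exact h n (by omega)

theorem selB_xor {f : ℕ → G} {V : Subgroup G} (hc : ∀ a ∈ V, ∀ b ∈ V, a * b = b * a)
    (hs : ∀ a ∈ V, a * a = 1) :
    ∀ n, (∀ i < n, f i ∈ V) → ∀ a b, selB f n (a ^^^ b) = selB f n a * selB f n b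
  | 0, _, _, _ => by simp [selB]
  | n + 1, h, a, b => by
    have hn := h n (by omega)
    have hm := fun c => selB_mem n (fun i hi => h i (by omega : i < n + 1)) c
    have ih := selB_xor hc hs n (fun i hi => h i (by omega)) a b
    simp only [selB, Nat.testBit_xor, ih]
    have hfa : ∀ c, f n * selB f n c = selB f n c * f n := fun c => hc _ hn _ (hm c)
    cases a.testBit n <;> cases b.testBit n <;>
      simp only [Bool.xor_false, Bool.xor_true, Bool.not_false, Bool.not_true, cond_true, cond_false, one_mul,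
        mul_assoc]
    · rw [← mul_assoc, hfa, mul_assoc]
    · rw [← mul_assoc (selB f n a), ← hfa, ← mul_assoc (f n), ← mul_assoc, hs _ hn, one_mul]

theorem selB_zero {f : ℕ → G} : ∀ n, selB f n 0 = 1
  | 0 => rfl
  | n + 1 => by simp [selB, selB_zero n]

theorem selB_two_pow {f : ℕ → G} {i : ℕ} : ∀ n, selB f n (2 ^ i) = if i < n then f i else 1
  | 0 => rfl
  | n + 1 => by
    rw [selB, selB_two_pow n, Nat.testBit_two_pow]
    rcases lt_trichotomy i n with h | rfl | h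
    · simp [h, h.ne, Nat.lt_succ_of_lt h]
    · simp
    · simp [h.ne', show ¬ i < n by omega, show ¬ i < n + 1 by omega]

end Sel

variable {G : Type*} [Group G] [Finite G]
variable {z : G} {E P N : Subgroup G} {d : Data z E P} (R : Real d)
variable {e : ↥(centralizer ({z} : Set G)) →* MulAut ↥Cfsg.Spor.M22}

/-- Lifts of the basis of the subgroup of order sixteen commuting with the element of order three. -/
structure Lifts where
  /-- the lifts -/
  k : ℕ → G
  mem : ∀ i < 4, k i ∈ R.V0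
  comm : ∀ i < 4, (R.g 3 : G) * k i = k i * R.g 3
  code : ∀ i < 4, ∃ h : k i ∈ centralizer ({z} : Set G), R.code (d.ρ ⟨k i, h⟩) = kB.getD i []

theorem exists_lifts : Nonempty (Lifts R) := by
  classical
  have h : ∀ i : Fin 4, ∃ t : G, t ∈ R.V0 ∧ (R.g 3 : G) * t = t * R.g 3 ∧
      ∃ h : t ∈ centralizer ({z} : Set G), R.code (d.ρ ⟨t, h⟩) = kB.getD i [] := by
    intro i
    have hm : (kB.getD i.1 [] : List ℕ) ∈ (mK2 : List (List ℕ)) := by
      have hl : kB.length = 4 := rfl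
      have hi : i.1 < kB.length := by rw [hl]; exact i.2
      rw [List.getD_eq_getElem (hn := hi)]
      simpa using (List.all_eq_true.1 kB_ok) _ (List.getElem_mem hi)
    obtain ⟨j, hj, hjA⟩ := List.getElem_of_mem (show kB.getD i.1 [] ∈ mQ by
      simpa using (List.all_eq_true.1 k2_sub) _ hm)
    obtain ⟨w, hw⟩ := R.exists_of_mem_mQ j (q_len ▸ hj)
    rw [List.getD_eq_getElem (hn := hj), hjA] at hw
    have hA : d.ρ (R.word w) ∈ R.A0 := by
      show R.code _ ∈ mI :: mK2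
      rw [hw]; exact List.mem_cons_of_mem _ hm
    obtain ⟨t, ht, htH, hte⟩ := R.exists_V0_lift hA
    obtain ⟨s, hs, hsc⟩ := R.exists_K_lift ht
    refine ⟨t * s, mul_mem ht (R.sHat_le_V0 hs), hsc, mul_mem htH (d.L.le_H (R.sHat_le hs)), ?_⟩
    rw [show (⟨t * s, _⟩ : centralizer ({z} : Set G)) = ⟨t, htH⟩ * ⟨s, d.L.le_H (R.sHat_le hs)⟩ from rfl,
      map_mul, (d.mem_ker_iff).2 (show ((⟨s, d.L.le_H (R.sHat_le hs)⟩ : centralizer ({z} : Set G)) : G) ∈ E from
        R.sHat_le hs), mul_one, hte, hw]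
  choose t ht1 ht2 ht3 using h
  exact ⟨⟨fun i => if h : i < 4 then t ⟨i, h⟩ else 1,
    fun i hi => by rw [dif_pos hi]; exact ht1 _,
    fun i hi => by rw [dif_pos hi]; exact ht2 _,
    fun i hi => by simp only [dif_pos hi]; exact ht3 ⟨i, hi⟩⟩⟩

variable {R} (F : Lifts R)

/-- The lift of an element of the subgroup of order sixteen. -/
def Lifts.kx (x : ℕ) : G := selB F.k 4 x

/-- The element named by a code. -/
noncomputable def Lifts.pt (a : ℕ) : G :=
  (bif cE a then z else 1) * lz R (sv (cS a)) * F.kx (cX a)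

include F in
theorem kx_mem (x : ℕ) : F.kx x ∈ R.V0 := selB_mem 4 F.mem x

theorem kx_xor (x y : ℕ) : F.kx (x ^^^ y) = F.kx x * F.kx y :=
  selB_xor (fun _ ha _ hb => V0_comm R ha hb) (fun _ ha => R.V0_sq ha) 4 F.mem x y

theorem kx_g3 (x : ℕ) : (R.g 3 : G) * F.kx x = F.kx x * R.g 3 := by
  have h : F.kx x ∈ R.V0 ⊓ centralizer ({(R.g 3 : G)} : Set G) :=
    selB_mem (V := R.V0 ⊓ centralizer ({(R.g 3 : G)} : Set G)) 4
      (fun i hi => ⟨F.mem i hi, mem_centralizer_singleton_iff.2 (F.comm i hi).symm⟩) x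
  exact (mem_centralizer_singleton_iff.1 h.2).symm

theorem kx_H (x : ℕ) : F.kx x ∈ centralizer ({z} : Set G) := (kx_mem F x).1

theorem kx_code : ∀ x < 16, R.code (d.ρ ⟨F.kx x, kx_H F x⟩) = xm x := by
  have hmul : ∀ x y, d.ρ ⟨F.kx (x ^^^ y), kx_H F _⟩ = d.ρ ⟨F.kx x, kx_H F x⟩ * d.ρ ⟨F.kx y, kx_H F y⟩ := by
    intro x y
    rw [← map_mul]
    exact congrArg d.ρ (Subtype.ext (kx_xor F x y))
  have hb : ∀ i < 4, R.code (d.ρ ⟨F.kx (2 ^ i), kx_H F _⟩) = xm (2 ^ i) := by
    intro i hi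
    obtain ⟨h, hc⟩ := F.code i hi
    have e1 : (⟨F.kx (2 ^ i), kx_H F _⟩ : centralizer ({z} : Set G)) = ⟨F.k i, h⟩ :=
      Subtype.ext (by simp only [Lifts.kx, selB_two_pow, if_pos hi])
    have hk : ∀ i < 4, kB.getD i [] = xm (2 ^ i) := by decide +kernel
    rw [e1, hc, hk i hi]
  have key : ∀ n ≤ 4, ∀ x < 2 ^ n, R.code (d.ρ ⟨F.kx x, kx_H F x⟩) = xm x := by
    intro n
    induction n with
    | zero =>
      intro _ x hx
      obtain rfl : x = 0 := by omega
      rw [show (⟨F.kx 0, kx_H F 0⟩ : centralizer ({z} : Set G)) = 1 from Subtype.ext (selB_zero 4),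
        map_one, R.mat_one]
      rfl
    | succ n ih =>
      intro hn x hx
      rcases Nat.lt_or_ge x (2 ^ n) with h | h
      · exact ih (by omega) x h
      · have hy : x ^^^ 2 ^ n < 2 ^ n := by
          rw [show x ^^^ 2 ^ n = x % 2 ^ n by
            refine Nat.eq_of_testBit_eq fun i => ?_
            rw [Nat.testBit_xor, Nat.testBit_two_pow, Nat.testBit_mod_two_pow]
            rcases lt_trichotomy i n with hi | rfl | hi
            · simp [hi, hi.ne']
            · simp [Nat.testBit_eq_decide_div_mod_eq, show x / 2 ^ i = 1 from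
                Nat.div_eq_of_lt_le (by omega) (by rw [pow_succ] at hx; omega)]
            · simp [show ¬ i < n by omega, hi.ne, Nat.testBit_lt_two_pow
                (lt_of_lt_of_le hx (Nat.pow_le_pow_right (by norm_num) hi))]]
          exact Nat.mod_lt _ (Nat.two_pow_pos n)
        have hxlt : x < 16 := lt_of_lt_of_le hx (Nat.pow_le_pow_right (by norm_num) hn)
        have hx' := hmul (x ^^^ 2 ^ n) (2 ^ n)
        rw [show x ^^^ 2 ^ n ^^^ 2 ^ n = x by rw [Nat.xor_assoc, Nat.xor_self, Nat.xor_zero]] at hx'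
        have hx2 := (List.all_eq_true.1 ((List.all_eq_true.1 xm_xor) (x ^^^ 2 ^ n)
          (List.mem_range.2 (lt_of_lt_of_le hy (Nat.pow_le_pow_right (by norm_num) (by omega : n ≤ 4))))))
          (2 ^ n) (List.mem_range.2 (Nat.pow_lt_pow_right (by norm_num) (by omega : n < 4)))
        rw [beq_iff_eq, show x ^^^ 2 ^ n ^^^ 2 ^ n = x by
          rw [Nat.xor_assoc, Nat.xor_self, Nat.xor_zero]] at hx2
        rw [hx', R.mat_mul, ih (by omega) _ hy, hb n (by omega), hx2]
  exact key 4 le_rfl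

theorem cS_xor (a b : ℕ) : cS (a ^^^ b) = cS a ^^^ cS b := by
  refine Nat.eq_of_testBit_eq fun i => ?_
  simp only [cS, show (64 : ℕ) = 2 ^ 6 from rfl, Nat.testBit_xor, Nat.testBit_mod_two_pow,
    Nat.testBit_div_two]
  cases decide (i < 6) <;> simp

theorem cX_xor (a b : ℕ) : cX (a ^^^ b) = cX a ^^^ cX b := by
  refine Nat.eq_of_testBit_eq fun i => ?_
  simp only [cX, show (128 : ℕ) = 2 ^ 7 from rfl, Nat.testBit_xor, Nat.testBit_div_two_pow]

theorem cE_xor (a b : ℕ) : cE (a ^^^ b) = (cE a ^^ cE b) := Nat.testBit_xor ..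

theorem cS_lt (a : ℕ) : cS a < 64 := Nat.mod_lt _ (by norm_num)

theorem sv_mem {s : ℕ} (hs : s < 64) : sv s ∈ sVec := by
  have h := (List.all_eq_true.1 sv_ok) s (List.mem_range.2 hs)
  simp only [Bool.and_eq_true] at h
  simpa using h.1.1

theorem sc_sv {s : ℕ} (hs : s < 64) : sc (sv s) = s := by
  have h := (List.all_eq_true.1 sv_ok) s (List.mem_range.2 hs)
  simp only [Bool.and_eq_true] at h
  exact Nat.eq_of_beq_eq_true h.1.2

theorem sc_lt {v : ℕ} (hv : v ∈ sVec) : sc v < 64 ∧ sv (sc v) = v := by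
  have h := (List.all_eq_true.1 sv_cover) v hv
  simp only [Bool.and_eq_true, Nat.blt_eq] at h
  exact ⟨h.1, Nat.eq_of_beq_eq_true h.2⟩

include F in
theorem pt_mem (a : ℕ) : F.pt a ∈ R.V0 := by
  refine mul_mem (mul_mem ?_ (R.sHat_le_V0 (lz_mem_sHat R (sv_mem (cS_lt a))))) (kx_mem F _)
  cases cE a
  · exact one_mem _
  · exact z_mem_V0 R

theorem lz_sv_xor {s t : ℕ} (hs : s < 64) (ht : t < 64) :
    lz R (sv (s ^^^ t)) = lz R (sv s) * lz R (sv t) := by
  have h := (List.all_eq_true.1 ((List.all_eq_true.1 sv_xor) s (List.mem_range.2 hs))) t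
    (List.mem_range.2 ht)
  have h' := (List.all_eq_true.1 ((List.all_eq_true.1 sv_xor) t (List.mem_range.2 ht))) s
    (List.mem_range.2 hs)
  simp only [Bool.and_eq_true, Bool.not_eq_true'] at h h'
  rw [Nat.eq_of_beq_eq_true h.1]
  exact lz_xor R h'.2

include F in
theorem pt_xor (a b : ℕ) : F.pt (a ^^^ b) = F.pt a * F.pt b := by
  have hz : (bif cE a ^^ cE b then z else 1) = (bif cE a then z else 1) * (bif cE b then z else 1) := by
    cases cE a <;> cases cE b <;> simp [d.L.zz]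
  rw [Lifts.pt, Lifts.pt, Lifts.pt, cE_xor, cS_xor, cX_xor, hz, lz_sv_xor (cS_lt a) (cS_lt b), kx_xor]
  have hZ : ∀ c : Bool, (bif c then z else 1) ∈ R.V0 := fun c => by
    cases c
    · exact one_mem _
    · exact z_mem_V0 R
  have hL : ∀ c, lz R (sv (cS c)) ∈ R.V0 := fun c => R.sHat_le_V0 (lz_mem_sHat R (sv_mem (cS_lt c)))
  letI : CommGroup R.V0 := { (inferInstance : Group R.V0) with
    mul_comm := fun x y => Subtype.ext (V0_comm R x.2 y.2) }
  have := (congrArg Subtype.val (show ((⟨_, hZ (cE a)⟩ * ⟨_, hZ (cE b)⟩) * (⟨_, hL a⟩ * ⟨_, hL b⟩) *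
      (⟨_, kx_mem F (cX a)⟩ * ⟨_, kx_mem F (cX b)⟩) : R.V0) =
    ⟨_, hZ (cE a)⟩ * ⟨_, hL a⟩ * ⟨_, kx_mem F (cX a)⟩ *
      (⟨_, hZ (cE b)⟩ * ⟨_, hL b⟩ * ⟨_, kx_mem F (cX b)⟩) by ac_rfl))
  exact this

theorem pt_pack (e : Bool) {s x : ℕ} (hs : s < 64) (hx : x < 16) :
    F.pt (pack e s x) = (bif e then z else 1) * lz R (sv s) * F.kx x := by
  have h := (List.all_eq_true.1 ((List.all_eq_true.1 ((List.all_eq_true.1 unpack_ok) e
    (by cases e <;> simp))) s (List.mem_range.2 hs))) x (List.mem_range.2 hx)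
  simp only [Bool.and_eq_true, beq_iff_eq] at h
  rw [Lifts.pt, h.1.1.1, Nat.eq_of_beq_eq_true h.1.1.2, Nat.eq_of_beq_eq_true h.1.2]

include F in
theorem pt_eq_one {a : ℕ} (ha : a < 2048) (h : F.pt a = 1) : a = 0 := by
  have hp := (List.all_eq_true.1 pack_ok) a (List.mem_range.2 ha)
  simp only [Bool.and_eq_true, Nat.blt_eq] at hp
  have hZ : (bif cE a then z else 1) ∈ E := by
    cases cE a
    · exact one_mem _
    · exact d.L.z_mem
  set t : G := (bif cE a then z else 1) * lz R (sv (cS a)) with ht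
  have htE : t ∈ E := mul_mem hZ (lz_mem R _)
  have hk : F.kx (cX a) = t⁻¹ := eq_inv_of_mul_eq_one_right h
  have hx : cX a = 0 := by
    have h1 : R.code (d.ρ ⟨F.kx (cX a), kx_H F _⟩) = mI := by
      rw [(d.mem_ker_iff).2 (show F.kx (cX a) ∈ E by rw [hk]; exact inv_mem htE), R.mat_one]
    rw [kx_code F _ hp.2] at h1
    by_contra hne
    have h2 := ((List.all_eq_true.1 xm_ok) (cX a) (List.mem_range.2 hp.2))
    simp only [Bool.and_eq_true] at h2
    have h3 := (List.all_eq_true.1 h2.2) 0 (List.mem_range.2 (Nat.pos_of_ne_zero hne))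
    rw [h1] at h3
    revert h3
    decide +kernel
  have ht1 : t = 1 := by rwa [hx, Lifts.kx, selB_zero, eq_comm, inv_eq_one] at hk
  have hs : cS a = 0 := by
    have h1 := φ_lz R (sVec_bound (sv_mem (cS_lt a)))
    rw [show (⟨lz R (sv (cS a)), lz_mem R _⟩ : E) = ⟨_, hZ⟩⁻¹ * 1 from Subtype.ext (by
      show lz R (sv (cS a)) = (bif cE a then z else 1)⁻¹ * 1
      rw [mul_one]; exact eq_inv_of_mul_eq_one_right ht1), mul_one, QuotientGroup.mk_inv] at h1
    have hzero : (QuotientGroup.mk (⟨_, hZ⟩ : E) : Bar E) = 1 := d.mk_eq_one.2 (by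
      show (bif cE a then z else 1) = 1 ∨ (bif cE a then z else 1) = z
      cases cE a
      · exact Or.inl rfl
      · exact Or.inr rfl)
    rw [hzero, inv_one, ← R.φ_zero] at h1
    rw [← sc_sv (cS_lt a), R.φ_inj (sVec_bound (sv_mem (cS_lt a))) (by norm_num) h1]
    decide +kernel
  have he : cE a = false := by
    rw [ht, hs] at ht1
    cases hc : cE a
    · rfl
    · rw [hc, show sv 0 = 0 by decide +kernel, lz_zero, mul_one] at ht1
      exact absurd ht1 d.L.z_ne_one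
  rw [← Nat.eq_of_beq_eq_true hp.1.1, he, hs, hx]
  rfl

include F in
theorem pt_inj {a b : ℕ} (ha : a < 2048) (hb : b < 2048) (h : F.pt a = F.pt b) : a = b := by
  have h1 : F.pt (a ^^^ b) = 1 := by rw [pt_xor, h, R.V0_sq (pt_mem F b)]
  exact Nat.xor_eq_zero_iff.1 (pt_eq_one F (Nat.xor_lt_two_pow (n := 11) ha hb) h1)

include F in
theorem pt_surj {t : G} (ht : t ∈ R.V0) : ∃ a < 2048, F.pt a = t := by
  let f : Fin 2048 → R.V0 := fun a => ⟨F.pt a, pt_mem F a⟩
  have hf : Function.Injective f := fun a b e =>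
    Fin.ext (pt_inj F a.2 b.2 (congrArg Subtype.val e))
  obtain ⟨a, ha⟩ := (hf.bijective_of_nat_card_le (by rw [R.card_V0]; simp)).2 ⟨t, ht⟩
  exact ⟨a, a.2, congrArg Subtype.val ha⟩

/-- The commutator of an element of `E` with a lift. -/
def comK (x : ℕ) (a : G) : G := (F.kx x)⁻¹ * (a * F.kx x * a⁻¹)

include F in
theorem comK_mem (x : ℕ) {a : G} (ha : a ∈ E) : comK F x a ∈ E := by
  have h1 : (F.kx x)⁻¹ * a * F.kx x ∈ E := by
    simpa using d.L.conj_mem (inv_mem (kx_H F x)) ha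
  rw [comK, show (F.kx x)⁻¹ * (a * F.kx x * a⁻¹) = (F.kx x)⁻¹ * a * F.kx x * a⁻¹ by group]
  exact mul_mem h1 (inv_mem ha)

include F in
theorem comK_class {x : ℕ} (hx : x < 16) {u : ℕ} {a : E} (ha : R.φ u = QuotientGroup.mk a) :
    R.φ (cmt x u) = QuotientGroup.mk ⟨comK F x a, comK_mem F x a.2⟩ := by
  set kH : centralizer ({z} : Set G) := ⟨F.kx x, kx_H F x⟩
  have hinv : kH⁻¹ = kH := Subtype.ext (inv_eq_of_mul_eq_one_right (R.V0_sq (kx_mem F x)))
  have h := R.apply (d.ρ kH) u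
  rw [kx_code F x hx, ha, d.ρ_mk] at h
  rw [cmt, R.φ_xor, ← h, ha, ← inv_eq_of_mul_eq_one_right (d.sq_bar (QuotientGroup.mk a)),
    ← QuotientGroup.mk_inv, ← QuotientGroup.mk_mul]
  refine congrArg QuotientGroup.mk (Subtype.ext ?_)
  have hk : (F.kx x)⁻¹ = F.kx x := inv_eq_of_mul_eq_one_right (R.V0_sq (kx_mem F x))
  show F.kx x * (a : G) * (F.kx x)⁻¹ * (a : G)⁻¹ = (F.kx x)⁻¹ * ((a : G) * F.kx x * (a : G)⁻¹)
  rw [hk]
  group

/-- The central element named by a bit. -/
def zb (z : G) (b : Bool) : G := bif b then z else 1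

include d in
theorem zb_mem_E (b : Bool) : zb z b ∈ E := by
  cases b
  · exact one_mem _
  · exact d.L.z_mem

include d in
theorem zb_xor (a b : Bool) : zb z (a ^^ b) = zb z a * zb z b := by
  cases a <;> cases b <;> simp [zb, d.L.zz]

include d in
theorem zb_inj {a b : Bool} (h : zb z a = zb z b) : a = b := by
  cases a <;> cases b <;> simp [zb, d.L.z_ne_one, d.L.z_ne_one.symm] at h ⊢

include d in
theorem zb_comm {h : G} (hh : h ∈ centralizer ({z} : Set G)) (b : Bool) : h * zb z b = zb z b * h := by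
  cases b
  · simp [zb]
  · exact mem_centralizer_singleton_iff.1 hh

include d in
theorem zp_eq (b : Bool) : Data.zp z (bz b) = zb z b := by
  cases b
  · rfl
  · simp [Data.zp, bz, zb]

include F in
theorem comK_sHat (x : ℕ) {a : G} (ha : a ∈ E) : comK F x a ∈ R.sHat :=
  R.V0_E (mul_mem (inv_mem (kx_mem F x))
    ((mem_normalizer_iff.1 (E_le_NV R ha) _).1 (kx_mem F x))) (comK_mem F x ha)

include F in
theorem cmt_mem {x u : ℕ} (hx : x < 16) (hu : u < 4096) : cmt x u ∈ sVec := by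
  obtain ⟨a, ha⟩ := QuotientGroup.mk_surjective (R.φ u)
  obtain ⟨v, hv, hva⟩ := (R.fixed_A0 _).1 (comK_sHat F x a.2).2
  have hlt : cmt x u < 4096 := by
    refine Nat.xor_lt_two_pow (n := 12) (ap_lt (n := 12) ?_ _) hu
    rw [← kx_code F x hx]
    exact R.mat_lt _
  rw [← R.φ_inj (sVec_bound hv) hlt (hva.trans (comK_class F hx ha.symm).symm)]
  exact hv

include F in
theorem comK_mul {x : ℕ} {a b : G} (ha : a ∈ E) (hb : b ∈ E) :
    comK F x (a * b) = comK F x a * comK F x b * Data.zp z (Data.bil a (comK F x b)) := by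
  have hc := comK_mem F x hb
  have h1 : comK F x (a * b) = comK F x a * (a * comK F x b * a⁻¹) := by
    simp only [comK]; group
  have h2 : a * comK F x b * a⁻¹ = comK F x b * Data.zp z (Data.bil a (comK F x b)) := by
    rw [mul_inv_eq_iff_eq_mul, d.mul_eq ha hc, mul_assoc, ← mul_assoc (comK F x b)]
    rw [d.zp_comm _ hc]
    group
  rw [h1, h2, ← mul_assoc]

include F in
/-- The central part of the commutator with a lift. -/
theorem comK_eq {x : ℕ} (hx : x < 16) {u : ℕ} (hu : u < 4096) {a : E}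
    (ha : R.φ u = QuotientGroup.mk a) :
    comK F x a = zb z (bilN u (ap mW (cmt x u))) * lz R (cmt x u) := by
  set c := cmt x u with hc
  have hcS : c ∈ sVec := cmt_mem F hx hu
  have hc4 : c < 4096 := sVec_bound hcS
  obtain ⟨f, hf⟩ : ∃ f : Bool, comK F x a = zb z f * lz R c := by
    rcases eq_lz R hc4 (ha := comK_mem F x a.2) (comK_class F hx ha) with h | h
    · exact ⟨false, by rw [h]; simp [zb]⟩
    · exact ⟨true, by rw [h]; exact d.L.commute_z (lz_mem R c)⟩
  set p : G := (R.g 3 : G)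
  have hp : ∀ b : G, comK F x (p * b * p⁻¹) = p * comK F x b * p⁻¹ := by
    intro b
    have hk : p * F.kx x = F.kx x * p := kx_g3 F x
    have hk' : p⁻¹ * F.kx x = F.kx x * p⁻¹ := (Commute.inv_left (show Commute p (F.kx x) from hk)).eq
    have hk'' : (F.kx x)⁻¹ * p = p * (F.kx x)⁻¹ :=
      (Commute.inv_left (show Commute (F.kx x) p from hk.symm)).eq
    simp only [comK]
    calc (F.kx x)⁻¹ * (p * b * p⁻¹ * F.kx x * (p * b * p⁻¹)⁻¹)
        = ((F.kx x)⁻¹ * p) * (b * (p⁻¹ * F.kx x) * (p * b⁻¹)) * p⁻¹ := by group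
      _ = (p * (F.kx x)⁻¹) * (b * (F.kx x * p⁻¹) * (p * b⁻¹)) * p⁻¹ := by rw [hk', hk'']
      _ = p * ((F.kx x)⁻¹ * (b * F.kx x * b⁻¹)) * p⁻¹ := by group
  have hpz : ∀ (g : Bool) (v : ℕ), p * (zb z g * lz R v) * p⁻¹ = zb z g * lz R (ap mW v) := by
    intro g v
    rw [← mul_assoc, zb_comm (d := d) (R.g 3).2, mul_assoc, mul_assoc, ← mul_assoc p, g3_lz]
  have ha1 : p * (a : G) * p⁻¹ ∈ E := g3_conj_mem R a.2
  have ha2 : p * (p * (a : G) * p⁻¹) * p⁻¹ ∈ E := g3_conj_mem R ha1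
  have h1 : comK F x (p * a * p⁻¹) = zb z f * lz R (ap mW c) := by rw [hp, hf, hpz]
  have h2 : comK F x (p * (p * a * p⁻¹) * p⁻¹) = zb z f * lz R (ap mW (ap mW c)) := by
    rw [hp, h1, hpz]
  have hcl : (QuotientGroup.mk (⟨(a : G) * (p * a * p⁻¹), mul_mem a.2 ha1⟩ : E) : Bar E) =
      QuotientGroup.mk (⟨_, ha2⟩ : E) := by
    rw [show (⟨(a : G) * (p * a * p⁻¹), mul_mem a.2 ha1⟩ : E) = a * ⟨_, ha1⟩ from rfl,
      QuotientGroup.mk_mul, ← φ_g3 R (a := ⟨_, ha1⟩) (φ_g3 R ha), ← φ_g3 R ha, ← ha, ← R.φ_xor]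
    congr 1
    have h := Nat.eq_of_beq_eq_true ((List.all_eq_true.1 w_sum_ok) u (List.mem_range.2 hu))
    conv_lhs => arg 1; rw [← h]
    rw [Nat.xor_comm, ← Nat.xor_assoc, Nat.xor_self, Nat.zero_xor]
  have hz : ∀ b ∈ E, comK F x (b * z) = comK F x b := by
    intro b hb
    have hk : z * F.kx x = F.kx x * z := (mem_centralizer_singleton_iff.1 (kx_H F x)).symm
    have hbz : z * b⁻¹ = b⁻¹ * z := (d.L.commute_z (inv_mem hb)).symm
    simp only [comK]
    calc (F.kx x)⁻¹ * (b * z * F.kx x * (b * z)⁻¹)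
        = (F.kx x)⁻¹ * (b * (z * F.kx x) * z⁻¹ * b⁻¹) := by group
      _ = (F.kx x)⁻¹ * (b * (F.kx x * z) * z⁻¹ * b⁻¹) := by rw [hk]
      _ = _ := by group
  have h3 : comK F x ((a : G) * (p * a * p⁻¹)) = zb z f * lz R (ap mW (ap mW c)) := by
    rcases d.mk_eq_iff.1 hcl with e | e
    · change p * (p * (a : G) * p⁻¹) * p⁻¹ = (a : G) * (p * (a : G) * p⁻¹) at e
      rw [← e]; exact h2
    · change p * (p * (a : G) * p⁻¹) * p⁻¹ = (a : G) * (p * (a : G) * p⁻¹) * z at e
      rw [e, hz _ (mul_mem a.2 ha1)] at h2; exact h2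
  rw [comK_mul F a.2 ha1, hf, h1] at h3
  have hb : Data.bil (a : G) (zb z f * lz R (ap mW c)) = bz (bilN u (ap mW c)) := by
    have hm : zb z f * lz R (ap mW c) ∈ E := mul_mem (zb_mem_E (d := d) f) (lz_mem R _)
    refine bil_eq R hu (ap_mW_lt c) (b := ⟨_, hm⟩) ha ?_
    rw [φ_lz R (ap_mW_lt c), d.mk_eq_iff]
    cases f
    · left; show zb z false * _ = _; simp [zb]
    · right; show zb z true * _ = _; exact (d.L.commute_z (lz_mem R _)).symm
  have hll : lz R c * lz R (ap mW c) = lz R (ap mW (ap mW c)) := by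
    have hs := sc_lt hcS
    have hwS : ap mW c ∈ sVec := by
      have := (List.all_eq_true.1 sVec_w) c hcS
      simpa using this
    have hs' := sc_lt hwS
    have hx1 := Nat.eq_of_beq_eq_true (Bool.and_eq_true_iff.1 ((List.all_eq_true.1
      ((List.all_eq_true.1 sv_xor) _ (List.mem_range.2 hs.1))) _ (List.mem_range.2 hs'.1))).1
    have h := lz_sv_xor (R := R) hs.1 hs'.1
    rw [hx1, hs.2, hs'.2] at h
    rw [← h]
    congr 1
    have h := Nat.eq_of_beq_eq_true ((List.all_eq_true.1 w_sum_ok) c (List.mem_range.2 hc4))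
    conv_lhs => arg 1; rw [← h]
    rw [Nat.xor_comm, ← Nat.xor_assoc, Nat.xor_self, Nat.zero_xor]
  rw [hb, zp_eq (d := d)] at h3
  set g := bilN u (ap mW c)
  have hcz : lz R c * zb z f = zb z f * lz R c := zb_comm (d := d) (d.L.le_H (lz_mem R c)) f
  have h4 : zb z ((f ^^ f) ^^ g) * lz R (ap mW (ap mW c)) = zb z f * lz R (ap mW (ap mW c)) := by
    rw [← h3, ← hll, zb_xor (d := d), zb_xor (d := d)]
    calc zb z f * zb z f * zb z g * (lz R c * lz R (ap mW c))
        = zb z f * zb z f * (lz R c * lz R (ap mW c)) * zb z g := by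
          rw [mul_assoc (zb z f * zb z f), ← zb_comm (d := d) (mul_mem (d.L.le_H (lz_mem R c))
            (d.L.le_H (lz_mem R _))) g]
          group
      _ = zb z f * (zb z f * lz R c) * lz R (ap mW c) * zb z g := by group
      _ = _ := by rw [show zb z f * (zb z f * lz R c) = zb z f * (lz R c * zb z f) by rw [hcz]]; group
  have h5 := zb_inj (d := d) (mul_right_cancel h4)
  rw [hf, show f = g by rw [← h5]; cases f <;> cases g <;> rfl]

include F in
/-- Conjugation by an element of `E` in coordinates. -/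
theorem conj_E {u : ℕ} (hu : u < 4096) {a : E} (ha : R.φ u = QuotientGroup.mk a) {c : ℕ} (hc : c < 2048) :
    (a : G) * F.pt c * (a : G)⁻¹ = F.pt (dE u c) := by
  have hp := (List.all_eq_true.1 pack_ok) c (List.mem_range.2 hc)
  simp only [Bool.and_eq_true, Nat.blt_eq] at hp
  have hm := cmt_mem F hp.2 hu
  have hsS := sv_mem (cS_lt c)
  have hxS : sv (cS c) ^^^ cmt (cX c) u ∈ sVec := by
    simpa using (List.all_eq_true.1 ((List.all_eq_true.1 sVec_closed) _ hsS)) _ hm
  obtain ⟨hlt, hsv⟩ := sc_lt hxS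
  rw [dE, pt_pack (F := F) _ hlt hp.2, hsv]
  set g := bilN u (ap mW (cmt (cX c) u))
  set b := bilN u (sv (cS c))
  have hkk : (a : G) * F.kx (cX c) * (a : G)⁻¹ = F.kx (cX c) * (zb z g * lz R (cmt (cX c) u)) := by
    rw [← comK_eq F hp.2 hu ha, comK, mul_inv_cancel_left]
  have hll : (a : G) * lz R (sv (cS c)) * (a : G)⁻¹ = zb z b * lz R (sv (cS c)) := by
    rw [mul_inv_eq_iff_eq_mul, d.mul_eq a.2 (lz_mem R _),
      bil_eq R hu (sVec_bound hsS) (b := ⟨_, lz_mem R _⟩) ha (φ_lz R (sVec_bound hsS)), zp_eq (d := d),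
      ← mul_assoc]
  have hc1 : sc (cmt (cX c) u) < 64 := (sc_lt hm).1
  have hprod : lz R (sv (cS c) ^^^ cmt (cX c) u) = lz R (sv (cS c)) * lz R (cmt (cX c) u) := by
    conv_lhs => rw [← (sc_lt hm).2]
    rw [← Nat.eq_of_beq_eq_true (Bool.and_eq_true_iff.1 ((List.all_eq_true.1
      ((List.all_eq_true.1 sv_xor) _ (List.mem_range.2 (cS_lt c)))) _ (List.mem_range.2 hc1))).1,
      lz_sv_xor (cS_lt c) hc1, (sc_lt hm).2]
  have hkc : F.kx (cX c) * (zb z g * lz R (cmt (cX c) u)) =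
      (zb z g * lz R (cmt (cX c) u)) * F.kx (cX c) := by
    refine V0_comm R (kx_mem F _) (mul_mem ?_ (R.sHat_le_V0 (lz_mem_sHat R hm)))
    cases g
    · exact one_mem _
    · exact z_mem_V0 R
  show (a : G) * (zb z (cE c) * lz R (sv (cS c)) * F.kx (cX c)) * (a : G)⁻¹ = zb z _ * _ * _
  calc (a : G) * (zb z (cE c) * lz R (sv (cS c)) * F.kx (cX c)) * (a : G)⁻¹
      = ((a : G) * zb z (cE c) * (a : G)⁻¹) * ((a : G) * lz R (sv (cS c)) * (a : G)⁻¹) *
          ((a : G) * F.kx (cX c) * (a : G)⁻¹) := by group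
    _ = zb z (cE c) * (zb z b * lz R (sv (cS c))) * (zb z g * lz R (cmt (cX c) u) * F.kx (cX c)) := by
        rw [zb_comm (d := d) (d.L.le_H a.2), mul_inv_cancel_right, hll, hkk, hkc]
    _ = zb z (cE c) * (zb z b * (lz R (sv (cS c)) * zb z g)) * lz R (cmt (cX c) u) * F.kx (cX c) := by
        group
    _ = zb z (cE c) * (zb z b * (zb z g * lz R (sv (cS c)))) * lz R (cmt (cX c) u) * F.kx (cX c) := by
        rw [zb_comm (d := d) (d.L.le_H (lz_mem R _))]
    _ = _ := by rw [hprod, zb_xor (d := d), zb_xor (d := d)]; group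

end H19.J4V
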