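import Cfsg.Agent.H19.J4V.Orbit

/-!
The number of conjugates of `z` in the elementary subgroup, and the order of its normalizer.
-/

set_option autoImplicit false
set_option maxRecDepth 20000
set_option maxHeartbeats 400000
set_option linter.unusedSectionVars false
set_option linter.style.haveILetI false

namespace H19.J4V

open Subgroup Cfsg.Agent.H69.J4 H88.J4Fusion

variable {G : Type*} [Group G] [Finite G]
variable {z : G} {E P N : Subgroup G} {d : Data z E P} {R : Real d}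
variable {e : ↥(centralizer ({z} : Set G)) →* MulAut ↥Cfsg.Spor.M22}

theorem card_part_conj {h : ↥(centralizer ({z} : Set G))} (hh : (h : G) ∈ NV R)
    (x : MulAut (Bar E)) :
    Nat.card (part R (d.ρ h * x * (d.ρ h)⁻¹)) = Nat.card (part R x) := by
  let f : part R x ≃ part R (d.ρ h * x * (d.ρ h)⁻¹) :=
    { toFun := fun t => ⟨(h : G) * t * (h : G)⁻¹, part_conj R t.2 hh⟩
      invFun := fun t => ⟨(h : G)⁻¹ * t * h, by
        have := part_conj R t.2 (h := h⁻¹) (inv_mem hh)
        simpa [map_inv, mul_assoc] using this⟩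
      left_inv := fun t => Subtype.ext (by simp [mul_assoc])
      right_inv := fun t => Subtype.ext (by simp [mul_assoc]) }
  exact (Nat.card_congr f).symm

theorem x0_code (F : Lifts R) : R.code (d.ρ ⟨F.kx 1, kx_H F 1⟩) = mK2.getD 0 [] := by
  rw [kx_code F 1 (by norm_num)]
  decide +kernel

theorem kx_mem_A0 (F : Lifts R) {x : ℕ} (hx : x < 16) : d.ρ ⟨F.kx x, kx_H F x⟩ ∈ R.A0 := by
  show R.code _ ∈ mI :: mK2
  rw [kx_code F x hx]
  have h := (List.all_eq_true.1 xm_ok) x (List.mem_range.2 hx)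
  simp only [Bool.and_eq_true] at h
  simpa using h.1

/-- All the parts outside `sHat` have the same size. -/
theorem card_part_eq (F : Lifts R) {x : ℕ} (hx : x < 16) (hx0 : x ≠ 0) :
    Nat.card (part R (d.ρ ⟨F.kx x, kx_H F x⟩)) = Nat.card (part R (d.ρ ⟨F.kx 1, kx_H F 1⟩)) := by
  have hne : d.ρ ⟨F.kx x, kx_H F x⟩ ≠ 1 := by
    intro h
    have h1 := kx_code F x hx
    rw [h, R.mat_one] at h1
    exact hx0 (xm_inj hx (by norm_num) (h1.symm.trans (by decide +kernel : mI = xm 0)))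
  obtain ⟨h, hh, hx⟩ := exists_mover_A0 R (kx_mem_A0 F hx) hne (x0_code F)
  rw [← hx]
  exact card_part_conj hh _

theorem lifts_all_or_none (o : List ℕ) (ho : o ∈ [orb0, orb1]) :
    lifts R o ⊆ (zO R ∩ R.sHat) \ {z} ∨ Disjoint (lifts R o) ((zO R ∩ R.sHat) \ {z}) := by
  by_cases h : ∃ a ∈ lifts R o, a ∈ zO R
  · obtain ⟨a, ha, haz⟩ := h
    refine Or.inl fun b hb => ?_
    have hm := over_mem_sHat R ho hb
    exact ⟨⟨over_saturated R ho ha hb haz, hm.1⟩, hm.2.2⟩
  · push Not at h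
    exact Or.inr (Set.disjoint_left.2 fun a ha hA => h a ha hA.1.1)

theorem inner_ninety (h90 : ((zO R ∩ R.sHat) \ {z}).ncard = 90) :
    (zO R ∩ R.sHat) \ {z} = lifts R orb1 := by
  classical
  have h1 : (lifts R orb1).ncard = 90 := by
    rw [card_over R (by simp) orb_nodup.2.1, orb_nodup.2.2.2]
  have h0 : (lifts R orb0).ncard = 36 := by
    rw [card_over R (List.mem_cons_self ..) orb_nodup.1, orb_nodup.2.2.1]
  rcases lifts_all_or_none (R := R) orb1 (by simp) with a1 | a1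
  · exact (Set.eq_of_subset_of_ncard_le a1 (by rw [h90, h1]) (Set.toFinite _)).symm
  · have : ((zO R ∩ R.sHat) \ {z}).ncard ≤ 36 := by
      rw [← h0]
      exact Set.ncard_le_ncard (fun x hx => (inner_part R x hx).resolve_right
        fun h => Set.disjoint_left.1 a1 h hx) (Set.toFinite _)
    omega

theorem card_zO_eq (F : Lifts R) : Nat.card (zO R) =
    1 + ((zO R ∩ R.sHat) \ {z}).ncard + 15 * Nat.card (part R (d.ρ ⟨F.kx 1, kx_H F 1⟩)) := by
  classical
  rw [Nat.card_coe_set_eq, ← Set.ncard_inter_add_ncard_sdiff_eq_ncard (zO R) R.sHat (Set.toFinite _),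
    outer_card R (x0_code F), ← Set.ncard_sdiff_singleton_add_one
      (show z ∈ zO R ∩ R.sHat from ⟨z_mem_zO R, R.z_mem_sHat⟩) (Set.toFinite _)]
  omega

theorem NV_stab (o : Outer z E P N e) :
    Nat.card (NV R) = Nat.card (zO R) * Nat.card ↥(NV R ⊓ centralizer ({z} : Set G)) := by
  classical
  letI := conjOn (NV R) (zO R) fun k hk s hs => zO_conj R hk hs
  set zP : zO R := ⟨z, z_mem_zO R⟩
  have hs : MulAction.stabilizer (NV R) zP = (centralizer ({z} : Set G)).subgroupOf (NV R) := by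
    ext k
    rw [MulAction.mem_stabilizer_iff, mem_subgroupOf, mem_centralizer_singleton_iff, Subtype.ext_iff]
    exact mul_inv_eq_iff_eq_mul
  have ho : MulAction.orbit (NV R) zP = Set.univ := by
    refine Set.eq_univ_iff_forall.2 fun v => ?_
    obtain ⟨hv, g, hg⟩ := v.2
    obtain ⟨n, hn, hnz⟩ := burnside R o (hg ▸ hv)
    exact ⟨⟨n, hn⟩, Subtype.ext (hnz.trans hg)⟩
  have h := (MulAction.stabilizer (NV R) zP).card_mul_index
  rw [MulAction.index_stabilizer, ho, Set.ncard_univ, hs] at h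
  rw [← h, Nat.mul_comm, ← Nat.card_congr (subgroupOfEquivOfLe
    (inf_le_left : NV R ⊓ centralizer ({z} : Set G) ≤ NV R)).toEquiv, inf_subgroupOf_left]

theorem five_nine_ok : (mm (evalM [0, 2, 0, 3]) (mm (evalM [0, 2, 0, 3]) (mm (evalM [0, 2, 0, 3])
      (mm (evalM [0, 2, 0, 3]) (evalM [0, 2, 0, 3])))) == mI &&
    !(evalM [0, 2, 0, 3] == mI) &&
    mm (evalM [0, 2, 0, 2]) (mm (evalM [0, 2, 0, 2]) (evalM [0, 2, 0, 2])) == mI &&
    mm (evalM [0, 2, 0, 2]) mW == mm mW (evalM [0, 2, 0, 2]) &&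
    !(evalM [0, 2, 0, 2] == mI) && !(evalM [0, 2, 0, 2] == mW) &&
    !(evalM [0, 2, 0, 2] == mm mW mW) && !(mW == mI)) = true := by decide +kernel

/-- The order of the stabilizer of `z` in the normalizer. -/
theorem card_stab (o : Outer z E P N e) : ∃ j : ℕ, j ∣ 10395 ∧ 45 ∣ j ∧
    Nat.card ↥(NV R ⊓ centralizer ({z} : Set G)) = 2 ^ 21 * j := by
  classical
  haveI : Fact (Nat.Prime 2) := ⟨Nat.prime_two⟩
  haveI : Fact (Nat.Prime 5) := ⟨by norm_num⟩
  haveI : Fact (Nat.Prime 3) := ⟨Nat.prime_three⟩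
  haveI := R.finite_aut
  obtain ⟨S, Q, hQS, hQ⟩ := exists_sylow R o
  set M1 := NV R ⊓ centralizer ({z} : Set G) with hM1
  have h21 : 2 ^ 21 ∣ Nat.card M1 := by
    rw [← R.sylow_card o S, Nat.card_congr (equivMapOfInjective
      (S : Subgroup ↥(centralizer ({z} : Set G))) _ (subtype_injective _)).toEquiv, ← hQS]
    exact card_dvd_of_le (le_inf (fun t ht => mem_NV_of_placed R o hQ fun x hx =>
      mul_mem (mul_mem ht (R.V0_le hQ hx)) (inv_mem ht)) hQ.le_H)
  have hH : Nat.card ↥(centralizer ({z} : Set G)) = 2 ^ 21 * 10395 := by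
    rw [← Subgroup.card_mul_index d.ρ.ker, Subgroup.index_ker, o.card_range d, d.ker_eq,
      Nat.card_congr (subgroupOfEquivOfLe d.L.le_H).toEquiv, d.cardE]
    norm_num
  have hd : Nat.card M1 ∣ 2 ^ 21 * 10395 := hH ▸ card_dvd_of_le inf_le_right
  obtain ⟨j, hj⟩ := h21
  rw [hj] at hd
  refine ⟨j, (Nat.mul_dvd_mul_iff_left (by norm_num)).1 hd, ?_, hj⟩
  set X := ((NV R).subgroupOf (centralizer ({z} : Set G))).map d.ρ with hX
  have hXd : Nat.card X ∣ 2 ^ 21 * j := by
    rw [← hj, hM1, ← Nat.card_congr (subgroupOfEquivOfLe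
      (inf_le_right : NV R ⊓ centralizer ({z} : Set G) ≤ _)).toEquiv, inf_subgroupOf_right]
    exact card_map_dvd ..
  have hw : ∀ w : List (List ℕ), (∀ i ∈ w, i = [3] ∨ i ∈ nWords) → (R.word w.flatten : G) ∈ NV R := by
    intro w hw
    induction w with
    | nil => simpa [Real.word] using one_mem (NV R)
    | cons i w ih =>
      have happ : ∀ a b, R.word (a ++ b) = R.word a * R.word b := by
        intro a b
        induction a with
        | nil => simp [Real.word]
        | cons x a iha => simp [Real.word, iha, mul_assoc]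
      rw [List.flatten_cons, happ, Subgroup.coe_mul]
      refine mul_mem ?_ (ih fun a ha => hw a (List.mem_cons_of_mem _ ha))
      rcases hw i (List.mem_cons_self ..) with rfl | hi
      · rw [show R.word [3] = R.g 3 from mul_one (R.g 3)]
        exact mem_NV_of_normA0 R R.normA0_g3
      · exact mem_NV_of_normA0 R (R.normA0_word hi)
  have hmem : ∀ w, (R.word w : G) ∈ NV R → d.ρ (R.word w) ∈ X := fun w h =>
    mem_map_of_mem _ (mem_subgroupOf.2 h)
  have h5ok := five_nine_ok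
  simp only [Bool.and_eq_true, beq_iff_eq, Bool.not_eq_true', beq_eq_false_iff_ne] at h5ok
  obtain ⟨⟨⟨⟨⟨⟨⟨e5, n5⟩, e3⟩, ec⟩, nb1⟩, nbw⟩, nbw2⟩, nw⟩ := h5ok
  set a5 := d.ρ (R.word [0, 2, 0, 3]) with ha5
  have h5 : orderOf a5 = 5 := by
    refine orderOf_eq_prime (R.mat_inj ?_) (fun h => n5 ?_)
    · rw [ha5, show ∀ x : MulAut (Bar E), x ^ 5 = x * (x * (x * (x * x))) from fun x => by simp only [pow_succ, pow_zero, one_mul, mul_assoc],
        R.mat_mul, R.mat_mul, R.mat_mul, R.mat_mul, R.mat_word, R.mat_one, e5]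
    · rw [← R.mat_word, ← R.mat_one]; exact congrArg R.code h
  have h5X : a5 ∈ X := hmem _ (hw [[0, 2, 0], [3]] (by simp [nWords]))
  have d5 : 5 ∣ Nat.card X := h5 ▸ orderOf_dvd_natCard X h5X
  set b3 := d.ρ (R.word [0, 2, 0, 2]) with hb3
  set w3 := d.ρ (R.g 3) with hw3
  have hbX : b3 ∈ X := hmem _ (hw [[0, 2, 0], [2]] (by simp [nWords]))
  have hwX : w3 ∈ X := mem_map_of_mem _ (mem_subgroupOf.2 (mem_NV_of_normA0 R R.normA0_g3))
  have hcw : R.code w3 = mW := R.mat_letter 3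
  have hb3o : orderOf b3 = 3 := by
    refine orderOf_eq_prime (R.mat_inj ?_) (fun h => nb1 ?_)
    · rw [hb3, show ∀ x : MulAut (Bar E), x ^ 3 = x * (x * x) from fun x => by simp only [pow_succ, pow_zero, one_mul, mul_assoc],
        R.mat_mul, R.mat_mul, R.mat_word, R.mat_one, e3]
    · rw [← R.mat_word, ← R.mat_one]; exact congrArg R.code h
  have hwc : R.code (w3 * w3) = mm mW mW := by rw [R.mat_mul, hcw]
  have hw3o : orderOf w3 = 3 := by
    refine orderOf_eq_prime ?_ (fun h => nw ?_)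
    · rw [hw3, ← map_pow, show R.g 3 ^ 3 = 1 from Subtype.ext (by simpa [pow_succ] using R.g3_pow),
        map_one]
    · rw [← hcw, ← R.mat_one]; exact congrArg R.code h
  have hbc : R.code b3 = evalM [0, 2, 0, 2] := R.mat_word _
  have hcomm : b3 * w3 = w3 * b3 := R.mat_inj (by rw [R.mat_mul, R.mat_mul, hcw, hbc, ec])
  have hdis : Disjoint (zpowers b3) (zpowers w3) := by
    rw [disjoint_iff_inf_le]
    intro t ⟨ht1, ht2⟩
    by_contra h1
    have ht : orderOf t = 3 := by
      have hd : orderOf t ∣ 3 := hw3o ▸ (orderOf_dvd_of_mem_zpowers ht2)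
      exact ((Nat.dvd_prime Nat.prime_three).1 hd).resolve_left fun h => h1 (orderOf_eq_one_iff.1 h)
    have heq : zpowers t = zpowers b3 := Subgroup.eq_of_le_of_card_ge (zpowers_le.2 ht1)
      (by rw [Nat.card_zpowers, Nat.card_zpowers, ht, hb3o])
    have hb : b3 ∈ zpowers w3 := (zpowers_le.2 ht2) (heq.symm ▸ mem_zpowers b3)
    obtain ⟨k, hk⟩ := mem_zpowers_iff.1 hb
    rw [← zpow_mod_orderOf, hw3o] at hk
    have hk0 := Int.emod_nonneg k (show ((3 : ℕ) : ℤ) ≠ 0 by norm_num)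
    have hk3 := Int.emod_lt_of_pos k (show (0 : ℤ) < ((3 : ℕ) : ℤ) by norm_num)
    generalize k % ((3 : ℕ) : ℤ) = r at hk hk0 hk3
    interval_cases r
    · exact nb1 (by rw [← hbc, ← hk, zpow_zero, R.mat_one])
    · exact nbw (by rw [← hbc, ← hk, zpow_one, hcw])
    · exact nbw2 (by rw [← hbc, ← hk, zpow_two, hwc])
  let f := MonoidHom.noncommCoprod (zpowers b3).subtype (zpowers w3).subtype (by
    rintro ⟨a, ha⟩ ⟨b, hb⟩
    obtain ⟨m, rfl⟩ := mem_zpowers_iff.1 ha
    obtain ⟨n, rfl⟩ := mem_zpowers_iff.1 hb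
    exact (show Commute b3 w3 from hcomm).zpow_zpow m n)
  have hf : Function.Injective f := (MonoidHom.noncommCoprod_injective ..).2
    ⟨subtype_injective _, subtype_injective _, by simpa using hdis⟩
  have d9 : 9 ∣ Nat.card X := by
    have h9 : Nat.card f.range = 9 := by
      rw [← Nat.card_congr (MonoidHom.ofInjective hf).toEquiv, Nat.card_prod, Nat.card_zpowers,
        Nat.card_zpowers, hb3o, hw3o]
    rw [← h9]
    refine card_dvd_of_le ?_
    rintro _ ⟨⟨a, b⟩, rfl⟩
    exact mul_mem (zpowers_le.2 hbX a.2) (zpowers_le.2 hwX b.2)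
  exact (Nat.Coprime.dvd_mul_left (show Nat.Coprime 45 (2 ^ 21) by norm_num)).1
    ((show Nat.Coprime 5 9 by norm_num).mul_dvd_of_dvd_of_dvd d5 d9 |>.trans hXd)

end H19.J4V
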