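import Cfsg.Agent.H19.J4V.Cert
import Cfsg.Agent.H19.J4V.Cent

/-!
The forms of the model, and the complement to the centre cut out by the element of order three.
-/

set_option autoImplicit false
set_option maxRecDepth 20000
set_option linter.unusedSectionVars false
set_option linter.style.haveILetI false

namespace H19.J4V

open Subgroup Cfsg.Agent.H69.J4 H88.J4Fusion

/-- The value of a bit. -/
def bz (b : Bool) : ZMod 2 := bif b then 1 else 0

theorem bz_xor : ∀ a b : Bool, bz (a ^^ b) = bz a + bz b := by decide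

theorem bz_inj : ∀ a b : Bool, bz a = bz b → a = b := by decide

variable {G : Type*} [Group G] [Finite G]
variable {z : G} {E P N : Subgroup G} {d : Data z E P} (R : Real d)
variable {e : ↥(centralizer ({z} : Set G)) →* MulAut ↥Cfsg.Spor.M22}

theorem qv_eq : ∀ v < 4096, R.qv v = bz (qB v) := by
  suffices h : ∀ n, ∀ v < 4096, depthJ v = n → R.qv v = bz (qB v) from fun v hv => h _ v hv rfl
  intro n
  induction n using Nat.strong_induction_on with
  | _ n ih =>
    intro v hv hn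
    have h := (List.all_eq_true.1 q_roots) v (List.mem_range.2 hv)
    have ht := (List.all_eq_true.1 tree_ok) v (List.mem_range.2 hv)
    by_cases hr : v = rootN
    · subst hr
      rw [qv_root R]
      simp only [Nat.beq_refl, cond_true] at h
      rw [h]; rfl
    have hb : Nat.beq v rootN = false :=
      Bool.eq_false_iff.2 fun e => hr (Nat.eq_of_beq_eq_true e)
    rw [hb, cond_false] at h
    by_cases hs : v ∈ sVec
    · rw [show sVec.contains v = true by simpa using hs, cond_true] at h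
      rw [R.qv_sVec hs, show qB v = false by simpa using h]
      rfl
    rw [show sVec.contains v = false by simpa using hs, cond_false, beq_iff_eq] at h
    simp only [Bool.or_eq_true, hb, Bool.false_eq_true, or_false] at ht
    rcases ht with (ht | ht) | ht
    · rw [Nat.eq_of_beq_eq_true ht] at hs
      exact absurd (by decide +kernel : (0 : ℕ) ∈ sVec) hs
    · exact absurd (by simpa using ht) hs
    rw [Nat.blt_eq, hn] at ht
    rw [← R.qv_apply (R.g (stepJ v)) v, R.mat_letter,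
      ih _ ht _ (letter_lt R _ _) rfl, h]

theorem bil_eq {u v : ℕ} (hu : u < 4096) (hv : v < 4096) {a b : E} (ha : R.φ u = QuotientGroup.mk a)
    (hb : R.φ v = QuotientGroup.mk b) : Data.bil (a : G) (b : G) = bz (bilN u v) := by
  have h := d.quad_mul a.2 b.2
  rw [← Subgroup.coe_mul, ← R.qv_mk (a * b) (u ^^^ v) (by rw [R.φ_xor, QuotientGroup.mk_mul, ha, hb]),
    ← R.qv_mk a u ha, ← R.qv_mk b v hb, qv_eq R u hu, qv_eq R v hv,
    qv_eq R _ (Nat.xor_lt_two_pow (n := 12) hu hv), Data.bil_comm] at h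
  rw [bilN, bz_xor, bz_xor, h]
  generalize bz (qB u) = x, bz (qB v) = y, Data.bil (a : G) (b : G) = w
  revert x y w
  decide

/-- The class of an element of `E`. -/
noncomputable def cls (a : E) : ℕ := (R.φ_surj (QuotientGroup.mk a)).choose

theorem cls_lt (a : E) : cls R a < 4096 := (R.φ_surj _).choose_spec.1

theorem φ_cls (a : E) : R.φ (cls R a) = QuotientGroup.mk a := (R.φ_surj _).choose_spec.2

theorem cls_eq {a : E} {v : ℕ} (hv : v < 4096) (h : R.φ v = QuotientGroup.mk a) : cls R a = v :=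
  R.φ_inj (cls_lt R a) hv ((φ_cls R a).trans h.symm)

/-- A product of an element and its conjugate under the element of order three. -/
def tw (a : G) : G := a * ((R.g 3 : G) * a * (R.g 3 : G)⁻¹)

theorem g3_conj_mem {a : G} (ha : a ∈ E) : (R.g 3 : G) * a * (R.g 3 : G)⁻¹ ∈ E :=
  d.L.conj_mem (R.g 3).2 ha

theorem tw_mem {a : G} (ha : a ∈ E) : tw R a ∈ E := mul_mem ha (g3_conj_mem R ha)

theorem φ_g3 {u : ℕ} {a : E} (ha : R.φ u = QuotientGroup.mk a) :
    R.φ (ap mW u) = QuotientGroup.mk ⟨_, g3_conj_mem R a.2⟩ := by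
  have h := R.apply (d.ρ (R.g 3)) u
  rw [R.mat_letter, ha, d.ρ_mk] at h
  exact h.symm

theorem ap_mW_lt (u : ℕ) : ap mW u < 4096 := ap_lt (n := 12) (by decide) u

/-- The canonical element over a vector. -/
noncomputable def lz (v : ℕ) : G := tw R ((R.φ (ap mW v)).out : E).1

theorem lz_mem (v : ℕ) : lz R v ∈ E := tw_mem R ((R.φ (ap mW v)).out : E).2

theorem lz_eq {v : ℕ} {a : E} (ha : R.φ (ap mW v) = QuotientGroup.mk a) : lz R v = tw R a := by
  set b : E := (R.φ (ap mW v)).out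
  have hb : (QuotientGroup.mk b : Bar E) = QuotientGroup.mk a := by rw [QuotientGroup.out_eq', ha]
  show tw R (b : G) = _
  rcases d.mk_eq_iff.1 hb with e | e
  · rw [e]
  · rw [e]
    have hc : (R.g 3 : G) * z = z * R.g 3 := mem_centralizer_singleton_iff.1 (R.g 3).2
    symm
    calc tw R ((b : G) * z) = (b : G) * (z * ((R.g 3 : G) * b)) * (z * (R.g 3 : G)⁻¹) := by
          rw [tw]; group
      _ = (b : G) * (((R.g 3 : G) * b) * z) * (z * (R.g 3 : G)⁻¹) := by
          rw [← mul_assoc z, ← hc, mul_assoc (R.g 3 : G), ← d.L.commute_z b.2, ← mul_assoc (R.g 3 : G)]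
      _ = (b : G) * ((R.g 3 : G) * b) * (z * z) * (R.g 3 : G)⁻¹ := by group
      _ = tw R (b : G) := by rw [d.L.zz, tw]; group

theorem φ_lz {v : ℕ} (hv : v < 4096) : R.φ v = QuotientGroup.mk ⟨lz R v, lz_mem R v⟩ := by
  set b : E := (R.φ (ap mW v)).out
  have hb : R.φ (ap mW v) = QuotientGroup.mk b := (QuotientGroup.out_eq' _).symm
  rw [show (⟨lz R v, lz_mem R v⟩ : E) = b * ⟨_, g3_conj_mem R b.2⟩ from rfl, QuotientGroup.mk_mul,
    ← φ_g3 R hb, ← hb, ← R.φ_xor,
    Nat.eq_of_beq_eq_true ((List.all_eq_true.1 w_sum_ok) v (List.mem_range.2 hv))]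

theorem lz_xor {u v : ℕ} (h : bilN (ap mW v) (ap mW (ap mW u)) = false) :
    lz R (u ^^^ v) = lz R u * lz R v := by
  set a : E := (R.φ (ap mW u)).out
  set b : E := (R.φ (ap mW v)).out
  have ha : R.φ (ap mW u) = QuotientGroup.mk a := (QuotientGroup.out_eq' _).symm
  have hb : R.φ (ap mW v) = QuotientGroup.mk b := (QuotientGroup.out_eq' _).symm
  rw [lz_eq R (a := a * b) (by rw [ap_xor, R.φ_xor, QuotientGroup.mk_mul, ← ha, ← hb]),
    lz_eq R ha, lz_eq R hb]
  have hc : Data.bil (b : G) ((R.g 3 : G) * a * (R.g 3 : G)⁻¹) = 0 := by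
    rw [bil_eq R (ap_mW_lt v) (ap_mW_lt _) hb (φ_g3 R ha), h]; rfl
  have hcomm : (b : G) * ((R.g 3 : G) * a * (R.g 3 : G)⁻¹) = (R.g 3 : G) * a * (R.g 3 : G)⁻¹ * b := by
    rcases d.mul_comm_cases b.2 (g3_conj_mem R a.2) with ⟨-, e⟩ | ⟨e, -⟩
    · exact e
    · rw [hc] at e; exact absurd e (by decide)
  show (a : G) * b * ((R.g 3 : G) * (a * b) * (R.g 3 : G)⁻¹) = _
  calc (a : G) * b * ((R.g 3 : G) * (a * b) * (R.g 3 : G)⁻¹)
      = (a : G) * ((b : G) * ((R.g 3 : G) * a * (R.g 3 : G)⁻¹)) * ((R.g 3 : G) * b * (R.g 3 : G)⁻¹) := by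
        group
    _ = tw R (a : G) * tw R (b : G) := by rw [hcomm, tw, tw]; group

theorem lz_zero : lz R 0 = 1 := by
  rw [lz_eq R (a := 1) (by rw [show ap mW 0 = 0 by decide, R.φ_zero, QuotientGroup.mk_one])]
  simp [tw]

theorem lz_mem_sHat {v : ℕ} (hv : v ∈ sVec) : lz R v ∈ R.sHat :=
  ⟨lz_mem R v, (R.fixed_A0 _).2 ⟨v, hv, φ_lz R (sVec_bound hv)⟩⟩

theorem eq_lz {a : G} {ha : a ∈ E} {v : ℕ} (hv : v < 4096) (h : R.φ v = QuotientGroup.mk ⟨a, ha⟩) :
    a = lz R v ∨ a = lz R v * z := by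
  rw [φ_lz R hv] at h
  exact d.mk_eq_iff.1 h

/-- An element commuting with the element of order three moves the canonical elements by its matrix. -/
theorem conj_lz {h : ↥(centralizer ({z} : Set G))} (hc : (h : G) * R.g 3 = R.g 3 * h) (v : ℕ) :
    (h : G) * lz R v * (h : G)⁻¹ = lz R (ap (R.code (d.ρ h)) v) := by
  set a : E := (R.φ (ap mW v)).out
  have ha : R.φ (ap mW v) = QuotientGroup.mk a := (QuotientGroup.out_eq' _).symm
  have hmove : R.φ (ap mW (ap (R.code (d.ρ h)) v)) =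
      QuotientGroup.mk ⟨(h : G) * a * (h : G)⁻¹, d.L.conj_mem h.2 a.2⟩ := by
    have h1 : d.ρ h * d.ρ (R.g 3) = d.ρ (R.g 3) * d.ρ h := by
      rw [← map_mul, ← map_mul]; exact congrArg d.ρ (Subtype.ext hc)
    have h2 := DFunLike.congr_fun h1 (R.φ v)
    have e1 : ∀ u, d.ρ (R.g 3) (R.φ u) = R.φ (ap mW u) := fun u => by
      rw [R.apply, R.mat_letter]; rfl
    rw [MulAut.mul_apply, MulAut.mul_apply, e1 v, R.apply (d.ρ h) v, e1] at h2
    rw [← h2, ha, d.ρ_mk]
  rw [lz_eq R hmove, lz_eq R ha, tw, tw]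
  calc (h : G) * ((a : G) * ((R.g 3 : G) * a * (R.g 3 : G)⁻¹)) * (h : G)⁻¹
      = (h : G) * a * (h : G)⁻¹ * (((h : G) * R.g 3) * a * ((h : G) * R.g 3)⁻¹) := by group
    _ = (h : G) * a * (h : G)⁻¹ * (((R.g 3 : G) * h) * a * ((R.g 3 : G) * h)⁻¹) := by rw [hc]
    _ = _ := by group

theorem g3_lz (v : ℕ) :
    (R.g 3 : G) * lz R v * (R.g 3 : G)⁻¹ = lz R (ap mW v) := by
  rw [conj_lz R rfl v, R.mat_letter]
  rfl

end H19.J4V
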