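import Cfsg.Agent.H19.J4V.Lifting

/-!
Three commuting-up-to-a-dihedral-relation involutions in the normalizer of the elementary subgroup,
meeting it trivially.
-/

set_option autoImplicit false
set_option maxRecDepth 20000
set_option maxHeartbeats 800000
set_option linter.unusedSectionVars false
set_option linter.style.haveILetI false

namespace H19.J4V

open Subgroup Cfsg.Agent.H69.J4 H88.J4Fusion

variable {G : Type*} [Group G] [Finite G]
variable {z : G} {E P N : Subgroup G} {d : Data z E P} {R : Real d}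
variable {e : ↥(centralizer ({z} : Set G)) →* MulAut ↥Cfsg.Spor.M22}

theorem mul_self_inv {H : Type*} [Group H] {a : H} (h : a * a = 1) : a⁻¹ = a :=
  inv_eq_of_mul_eq_one_right h

theorem conj_inv_gen {H : Type*} [Group H] {p q b : H} (hp : p * p * p = 1) (hq : q * q * q = 1)
    (hpq : p * q * (p * q) = 1) (hb : b = p * (p * q) * p⁻¹) :
    b * q * b⁻¹ = p⁻¹ ∧ q * q * p * q⁻¹ = b ∧ b * b = 1 := by
  have hp' : p⁻¹ = p * p := inv_eq_of_mul_eq_one_right (by rw [← mul_assoc]; exact hp)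
  have hq' : q⁻¹ = p * q * p := inv_eq_of_mul_eq_one_left (by rw [← hpq]; group)
  have hk : p⁻¹ * q = p * q⁻¹ * p⁻¹ := by
    rw [hq', show p * (p * q * p) * p⁻¹ = p * p * q by group, hp']
  have hb2 : b * b = 1 := by
    rw [hb, show p * (p * q) * p⁻¹ * (p * (p * q) * p⁻¹) = p * ((p * q) * (p * q)) * p⁻¹ by group, hpq]
    group
  have hbk : b = p * q⁻¹ * p⁻¹ * p⁻¹ := by rw [← hk, hb, hp']; group
  have hcube : p⁻¹ * q * (p⁻¹ * q) * (p⁻¹ * q) = 1 := by
    rw [hk, show p * q⁻¹ * p⁻¹ * (p * q⁻¹ * p⁻¹) * (p * q⁻¹ * p⁻¹) =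
      p * (q⁻¹ * q⁻¹ * q⁻¹) * p⁻¹ by group, show q⁻¹ * q⁻¹ * q⁻¹ = (q * q * q)⁻¹ by group, hq]
    group
  refine ⟨?_, ?_, hb2⟩
  · rw [mul_self_inv hb2, hb, show p * (p * q) * p⁻¹ = (p⁻¹ * q) * p⁻¹ by rw [hp']; group,
      show p⁻¹ * q * p⁻¹ * q * (p⁻¹ * q * p⁻¹) = p⁻¹ * q * (p⁻¹ * q) * (p⁻¹ * q) * p⁻¹ by group,
      hcube, one_mul]
  · rw [show q * q = q⁻¹ from (inv_eq_of_mul_eq_one_left hq).symm, hq', hbk, hq', hp']
    calc p * q * p * p * (p * q * p) = p * q * (p * p * p) * q * p := by group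
      _ = p * q * q * p := by rw [hp, mul_one]
      _ = p * (q * q) * p := by group
      _ = p * (p * q * p) * (p * p) * (p * p) := by
        rw [show q * q = q⁻¹ from (inv_eq_of_mul_eq_one_left hq).symm, hq']
        calc p * (p * q * p) * p = p * (p * q * p) * p * (p * p * p) := by rw [hp, mul_one]
          _ = _ := by group

/-- The data of the three involutions. -/
structure Trio (F : Lifts R) (u v y : G) : Prop where
  uH : u ∈ centralizer ({z} : Set G)
  vH : v ∈ centralizer ({z} : Set G)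
  yH : y ∈ centralizer ({z} : Set G)
  uA : R.code (d.ρ ⟨u, uH⟩) = H19.J4V.uA
  vA : R.code (d.ρ ⟨v, vH⟩) = H19.J4V.vA
  ug : (R.g 3 : G) * u = u * R.g 3
  vg : (R.g 3 : G) * v = v * R.g 3
  yg : y * R.g 3 * y⁻¹ = (R.g 3 : G)⁻¹
  u2 : u * u = 1
  v2 : v * v = 1
  y2 : y * y = 1
  r2 : u * v * (u * v) * (u * v * (u * v)) = 1
  yu : y * u = u * y
  yv : y * v = v * y
  ua : Acts F u (ap uM)
  va : Acts F v (ap vM)
  ya : Acts F y (ap sM)

theorem mem_kCodes (F : Lifts R) {a : ℕ} (ha : a < 2048)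
    (hc : (R.g 3 : G) * F.pt a = F.pt a * R.g 3) : a ∈ kCodes := by
  have h := (dW_facts F ha).2.2
  rw [hc, mul_inv_cancel_right] at h
  have he := pt_inj F ha (dW_facts F ha).2.1 h
  have h := (List.all_eq_true.1 fix_w) a (List.mem_range.2 ha)
  rw [← he, Nat.beq_refl] at h
  simpa using h

theorem kCodes_g3 (F : Lifts R) {a : ℕ} (ha : a ∈ kCodes) :
    a < 2048 ∧ (R.g 3 : G) * F.pt a = F.pt a * R.g 3 := by
  have h := (List.all_eq_true.1 kCodes_fix) a ha
  simp only [Bool.and_eq_true, Nat.blt_eq] at h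
  refine ⟨h.1, ?_⟩
  have h2 := (dW_facts F h.1).2.2
  rw [Nat.eq_of_beq_eq_true h.2] at h2
  exact mul_inv_eq_iff_eq_mul.1 h2

variable (hG : ¬ IsMulCommutative G)

theorem exists_trio [IsSimpleGroup G] (hG : ¬ IsMulCommutative G) (o : Outer z E P N e)
    (F : Lifts R) (hS : Shape F)
    (hM : ∀ a < 2048, (tMask 653).testBit a = true ↔ F.pt a ∈ outside R) :
    ∃ u v y : G, Trio F u v y := by
  classical
  -- realising the five automorphisms
  have hreal : ∀ A ∈ [nS, nSU, nSV, nSR], ∃ n : G, Acts F n (ap A) := by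
    intro A hA
    have h := (List.all_eq_true.1 preserve_ok) A (by revert hA; simp; tauto)
    simp only [Bool.and_eq_true, List.all_eq_true, Nat.blt_eq, beq_iff_eq, List.mem_range,
      Bool.or_eq_true, Bool.not_eq_true'] at h
    refine exists_acts hG o F hM h.1 (fun a ha => (h.2 a ha).1) fun a ha e => ?_
    rcases (h.2 a ha).2 with h' | h'
    · exact Nat.eq_of_beq_eq_true h'
    · rw [e] at h'; exact absurd h' (by decide)
  have hconj := fun i (hi : i < 11) => (List.all_eq_true.1 conjS_ok) i (List.mem_range.2 hi)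
  have hacts := fun i (hi : i < 11) => (List.all_eq_true.1 acts_ok) i (List.mem_range.2 hi)
  simp only [Bool.and_eq_true] at hconj hacts
  have hap : ∀ A B : List ℕ, Additive11 fun a => ap A (ap B a) := fun A B a _ b _ => by
    simp only [ap_xor]
  have hap4 : ∀ A B C D : List ℕ, Additive11 fun a => ap A (ap B (ap C (ap D a))) := fun A B C D a _ b _ => by
    simp only [ap_xor]
  have hid : Additive11 fun a => a := fun _ _ _ _ => rfl
  have hq := sub_misc
  simp only [Bool.and_eq_true, Bool.not_eq_true'] at hq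
  obtain ⟨⟨⟨⟨⟨⟨⟨⟨⟨⟨q1028, q643⟩, -⟩, -⟩, -⟩, -⟩, -⟩, -⟩, -⟩, -⟩, -⟩ := hq
  have hinv : ∀ {A : List ℕ} {v : ℕ} {S : ℕ → ℕ}, A ∈ [nS, nSU, nSV, nSR] → v < 4096 →
      qB v = false → (∀ a b, S (a ^^^ b) = S a ^^^ S b) → (∀ i < 11, ap A (dE v (2 ^ i)) = S (ap A (2 ^ i))) →
        ∃ j : G, j * j = 1 ∧ Acts F j S := by
    intro A v S hA hv hq hSa he
    obtain ⟨n, hn⟩ := hreal A hA
    refine ⟨n * lz R v * n⁻¹, ?_, acts_conj hn (acts_lz F hv)
      ((hn.mul (acts_lz F hv)).additive.ext (fun a _ b _ => by simp only [ap_xor, hSa]) he)⟩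
    rw [show n * lz R v * n⁻¹ * (n * lz R v * n⁻¹) = n * (lz R v * lz R v) * n⁻¹ by group,
      lz_sq hv hq]
    group
  -- the two generators centralizing the element of order three
  have hw := gens_words
  simp only [Bool.and_eq_true, beq_iff_eq] at hw
  obtain ⟨⟨⟨⟨hwu, hwv⟩, hcu⟩, hcv⟩, hcr⟩ := hw
  obtain ⟨hsv, hu0, hv0, hπ⟩ := gens_ok
  have hπ' := fun x (hx : x < 16) => (List.all_eq_true.1 hπ) x (List.mem_range.2 hx)
  simp only [Bool.and_eq_true, Nat.blt_eq, beq_iff_eq, Bool.or_eq_true, Bool.not_eq_true'] at hπ'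
  have hsv' := fun s (hs : s < 64) => (List.all_eq_true.1 hsv) s (List.mem_range.2 hs)
  simp only [Bool.and_eq_true, List.contains_iff_mem] at hsv'
  set uH : ↥(centralizer ({z} : Set G)) := R.word uW.flatten * ⟨F.kx 0, kx_H F 0⟩
  set vH : ↥(centralizer ({z} : Set G)) := R.word vW.flatten * ⟨F.kx 11, kx_H F 11⟩
  set u : G := (uH : G)
  set v : G := (vH : G)
  have huc : R.code (d.ρ uH) = uA := by
    rw [map_mul, R.mat_mul, R.mat_word, kx_code F 0 (by norm_num), hwu]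
  have hvc : R.code (d.ρ vH) = vA := by
    rw [map_mul, R.mat_mul, R.mat_word, kx_code F 11 (by norm_num), hwv]
  have hug : (R.g 3 : G) * u = u * R.g 3 :=
    ((show Commute (R.g 3 : G) (R.word uW.flatten : G) from word_g3 _).mul_right
      (show Commute (R.g 3 : G) (F.kx 0) from kx_g3 F 0)).eq
  have hvg : (R.g 3 : G) * v = v * R.g 3 :=
    ((show Commute (R.g 3 : G) (R.word vW.flatten : G) from word_g3 _).mul_right
      (show Commute (R.g 3 : G) (F.kx 11) from kx_g3 F 11)).eq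
  have huN : u ∈ NV R := mul_mem (word_NV (R := R) uW (by decide)) (le_normalizer (kx_mem F 0))
  have hvN : v ∈ NV R := mul_mem (word_NV (R := R) vW (by decide)) (le_normalizer (kx_mem F 11))
  have hua :=
    (acts_cK F hS hM hug huN huc (fun s hs => (hsv' s hs).1) hu0 fun x hx =>
      ⟨(hπ' x hx).1.1.1.1, fun hx0 e => by
        rcases (hπ' x hx).1.1.2 with h | ⟨h, -⟩
        · exact hx0 (Nat.eq_of_beq_eq_true h)
        · rw [e] at h; exact absurd h (by decide), (hπ' x hx).1.2⟩)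
  replace hua : Acts F u (ap uM) := hua.congr (hua.additive.ext (fun a _ b _ => ap_xor ..) fun i hi =>
    Nat.eq_of_beq_eq_true ((List.all_eq_true.1 uM_ok) i (List.mem_range.2 hi)))
  have hva :=
    (acts_cK F hS hM hvg hvN hvc (fun s hs => (hsv' s hs).2) hv0 fun x hx =>
      ⟨(hπ' x hx).1.1.1.2, fun hx0 e => by
        rcases (hπ' x hx).1.1.2 with h | ⟨-, h⟩
        · exact hx0 (Nat.eq_of_beq_eq_true h)
        · rw [e] at h; exact absurd h (by decide), (hπ' x hx).2⟩)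
  replace hva : Acts F v (ap vM) := hva.congr (hva.additive.ext (fun a _ b _ => ap_xor ..) fun i hi =>
    Nat.eq_of_beq_eq_true ((List.all_eq_true.1 vM_ok) i (List.mem_range.2 hi)))
  have hu2 : u * u = 1 := sq_of_conj F hug [0, 2] (x := 1) (by norm_num) (by rw [huc]; exact hcu)
  have hv2 : v * v = 1 := sq_of_conj F hvg [0, 1, 1] (x := 13) (by norm_num) (by rw [hvc]; exact hcv)
  have hr2 : u * v * (u * v) * (u * v * (u * v)) = 1 :=
    sq_of_conj F (h := uH * vH * (uH * vH))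
      (((show Commute (R.g 3 : G) u from hug).mul_right hvg).mul_right
        ((show Commute (R.g 3 : G) u from hug).mul_right hvg)).eq
      [0, 1, 1] (x := 7) (by norm_num) (by
        rw [map_mul, map_mul, R.mat_mul, R.mat_mul, huc, hvc]; exact hcr)
  -- the outer involution
  obtain ⟨y0, hy02, hy0a⟩ := hinv (A := nS) (v := 1028) (S := ap sM) (by simp) (by norm_num) q1028
    (fun a b => ap_xor ..) fun a ha => Nat.eq_of_beq_eq_true (hconj a ha).1.1.1.1
  have hy0i : y0⁻¹ = y0 := mul_self_inv hy02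
  set p : G := (R.g 3 : G) with hp
  have hp3 : p * p * p = 1 := R.g3_pow
  set q : G := y0 * p * y0⁻¹ with hqd
  have hqc : q * q * q = 1 := by
    rw [hqd, show y0 * p * y0⁻¹ * (y0 * p * y0⁻¹) * (y0 * p * y0⁻¹) = y0 * (p * p * p) * y0⁻¹ by group,
      hp3]
    group
  have hcV : p * q ∈ R.V0 := by
    have hact := (acts_g3 F).mul ((hy0a.mul (acts_g3 F)).mul (hy0i.symm ▸ hy0a : Acts F y0⁻¹ (ap sM)))
    exact hact.mem_V0 o (hact.additive.ext hid fun i hi => Nat.eq_of_beq_eq_true (hacts i hi).1.1.1.1.1.1)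
  set b : G := p * (p * q) * p⁻¹ with hbd
  obtain ⟨hbq, hqb, hb2⟩ := conj_inv_gen hp3 hqc (R.V0_sq hcV) hbd
  have hbV : b ∈ R.V0 :=
    (mem_normalizer_iff.1 (mem_NV_of_normA0 R R.normA0_g3) _).1 hcV
  set y1 : G := b * y0 with hy1d
  have hy1a : Acts F y1 (ap sM) := (acts_V0 F hbV).mul hy0a
  have hy12 : y1 * y1 = 1 := by
    have h1 : y0 * b * y0⁻¹ = b := by
      have hyq : y0 * q * y0⁻¹ = p := by
        rw [hqd, hy0i]
        calc y0 * (y0 * p * y0) * y0 = (y0 * y0) * p * (y0 * y0) := by group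
          _ = p := by rw [hy02]; group
      calc y0 * b * y0⁻¹ = (y0 * p * y0⁻¹) * (y0 * p * y0⁻¹) * (y0 * q * y0⁻¹) * (y0 * p * y0⁻¹)⁻¹ := by
            rw [hbd]; group
        _ = b := by rw [hyq, ← hqd, hqb]
    calc y1 * y1 = b * (y0 * b * y0⁻¹) * (y0 * y0) := by rw [hy1d]; group
      _ = 1 := by rw [h1, hy02, hb2, one_mul]
  have hy1i : y1⁻¹ = y1 := mul_self_inv hy12
  have hy1g : y1 * p * y1⁻¹ = p⁻¹ := by
    rw [← hbq, hy1d, hqd]; group
  have e3 : y1 * p = p⁻¹ * y1 := mul_inv_eq_iff_eq_mul.1 hy1g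
  have e1 : p * y1 = y1 * p⁻¹ := by
    calc p * y1 = p * (y1 * p) * p⁻¹ := by group
      _ = y1 * p⁻¹ := by rw [e3]; group
  have hKg : ∀ {w : G}, Commute p w → p * (y1 * w * (y1 * w)) = y1 * w * (y1 * w) * p := by
    intro w hw
    have e2 : p⁻¹ * w = w * p⁻¹ := hw.inv_left.eq
    calc p * (y1 * w * (y1 * w)) = p * y1 * w * (y1 * w) := by group
      _ = y1 * (p⁻¹ * w) * (y1 * w) := by rw [e1]; group
      _ = y1 * w * (p⁻¹ * y1) * w := by rw [e2]; group
      _ = y1 * w * y1 * (p * w) := by rw [← e3]; group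
      _ = _ := by rw [hw.eq]; group
  have hWinv : ∀ {w : G}, w⁻¹ = w → (y1 * w * (y1 * w))⁻¹ = w * y1 * (w * y1) := by
    intro w hw
    rw [show (y1 * w * (y1 * w))⁻¹ = w⁻¹ * y1⁻¹ * (w⁻¹ * y1⁻¹) by group, hw, hy1i]
  -- its commutators with the generators
  have hC : ∀ {w : G} {W : List ℕ}, (R.g 3 : G) * w = w * R.g 3 → Acts F w (ap W) →
      w * w = 1 → (∀ a < 2048, ap sM (ap W (ap sM (ap W a))) = a) →
      ∃ c ∈ kCodes, y1 * w * (y1 * w) = F.pt c ∧ ap sM c = c ∧ ap W c = c := by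
    intro w W hwg hwa hw2 hid
    have hV : y1 * w * (y1 * w) ∈ R.V0 := ((hy1a.mul hwa).mul (hy1a.mul hwa)).mem_V0 o hid
    obtain ⟨c, hc, hce⟩ := pt_surj F hV
    have hwi : w⁻¹ = w := mul_self_inv hw2
    refine ⟨c, mem_kCodes F hc ?_, hce.symm, ?_, ?_⟩
    · rw [hce]
      exact hKg hwg
    · refine pt_inj F ((hy1a c hc).1) hc ?_
      rw [← (hy1a c hc).2, hce]
      calc y1 * (y1 * w * (y1 * w)) * y1⁻¹ = (y1 * y1) * w * y1 * (w * y1⁻¹) := by group
        _ = (y1 * w * (y1 * w))⁻¹ := by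
            rw [hy12, hWinv hwi, hy1i, one_mul]
        _ = y1 * w * (y1 * w) := inv_eq_of_mul_eq_one_right (R.V0_sq hV)
    · refine pt_inj F ((hwa c hc).1) hc ?_
      rw [← (hwa c hc).2, hce]
      calc w * (y1 * w * (y1 * w)) * w⁻¹ = w * y1 * (w * y1) := by group
        _ = (y1 * w * (y1 * w))⁻¹ := (hWinv hwi).symm
        _ = y1 * w * (y1 * w) := inv_eq_of_mul_eq_one_right (R.V0_sq hV)
  have hIm : ∀ {w : G} {S : ℕ → ℕ} {c : ℕ}, c < 2048 → Acts F (y1 * w) S →
      (∃ j : G, j * j = 1 ∧ Acts F j S) → (∀ a < 2048, S (S a) = a) → y1 * w * (y1 * w) = F.pt c →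
      ∃ a < 2048, a ^^^ S a = c := by
    intro w S c hc hga hj hSS hcw
    obtain ⟨j, hj2, hja⟩ := hj
    set g := y1 * w
    have hginv : Acts F g⁻¹ S := by
      intro a ha
      obtain ⟨h1, -⟩ := hga a ha
      refine ⟨h1, ?_⟩
      have h2 := (hga (S a) h1).2
      rw [hSS a ha] at h2
      rw [← h2]; group
    obtain ⟨a, ha, hat⟩ := pt_surj F ((hja.mul hginv).mem_V0 o hSS)
    refine ⟨a, ha, ?_⟩
    have hj' : j = F.pt a * g := by rw [hat, inv_mul_cancel_right]
    have h1 : F.pt a * (g * F.pt a * g⁻¹) * (g * g) = 1 := by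
      rw [← hj2, hj']; group
    rw [(hga a ha).2, ← pt_xor F, hcw, ← pt_xor F] at h1
    exact Nat.xor_eq_zero_iff.1 (pt_eq_one F
      (Nat.xor_lt_two_pow (n := 11) (Nat.xor_lt_two_pow (n := 11) ha (hga a ha).1) hc) h1)
  have hsu : ∀ a < 2048, ap sM (ap uM (ap sM (ap uM a))) = a := (hap4 _ _ _ _).ext hid fun i hi =>
    Nat.eq_of_beq_eq_true (hacts i hi).1.1.1.1.2
  have hsv2 : ∀ a < 2048, ap sM (ap vM (ap sM (ap vM a))) = a := (hap4 _ _ _ _).ext hid fun i hi =>
    Nat.eq_of_beq_eq_true (hacts i hi).1.1.1.2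
  obtain ⟨cu, hcuK, hcue, hcus, hcuu⟩ := hC hug hua hu2 hsu
  obtain ⟨cv, hcvK, hcve, hcvs, hcvv⟩ := hC hvg hva hv2 hsv2
  have hcu2 := (kCodes_g3 F hcuK).1
  have hcv2 := (kCodes_g3 F hcvK).1
  set r : G := u * v * (u * v)
  have hui : u⁻¹ = u := mul_self_inv hu2
  have hvi : v⁻¹ = v := mul_self_inv hv2
  -- the commutator with the square
  set cr := cu ^^^ ap uM cv ^^^ ap uM (ap vM cu) ^^^ ap uM (ap vM (ap uM cv))
  obtain ⟨hU, hUe⟩ := hua cv hcv2
  obtain ⟨hUV, hUVe⟩ := (hua.mul hva) cu hcu2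
  obtain ⟨hUVU, hUVUe⟩ := ((hua.mul hva).mul hua) cv hcv2
  have hcr2 : cr < 2048 := Nat.xor_lt_two_pow (n := 11) (Nat.xor_lt_two_pow (n := 11)
    (Nat.xor_lt_two_pow (n := 11) hcu2 hU) hUV) hUVU
  have hyr : y1 * r * (y1 * r) = F.pt cr := by
    have e1 : y1 * u * y1 = F.pt cu * u := by
      rw [← hcue]; calc y1 * u * y1 = y1 * u * y1 * (u * u) := by rw [hu2, mul_one]
        _ = _ := by group
    have e2 : y1 * v * y1 = F.pt cv * v := by
      rw [← hcve]; calc y1 * v * y1 = y1 * v * y1 * (v * v) := by rw [hv2, mul_one]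
        _ = _ := by group
    have hy' : ∀ a : G, y1 * a * y1 = y1 * a * y1⁻¹ := fun a => by rw [hy1i]
    have e3 : y1 * r * y1 = F.pt cu * u * (F.pt cv * v) * (F.pt cu * u * (F.pt cv * v)) := by
      rw [← e1, ← e2, hy', hy', hy']; simp only [r]; group
    calc y1 * r * (y1 * r) = (y1 * r * y1) * r := by group
      _ = (F.pt cu * (u * F.pt cv * u⁻¹) * (u * v * F.pt cu * (u * v)⁻¹) *
            (u * v * u * F.pt cv * (u * v * u)⁻¹)) * (r * r) := by rw [e3]; simp only [r]; group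
      _ = F.pt cr := by
        rw [hUe, hUVe, hUVUe, hr2, mul_one, pt_xor F, pt_xor F, pt_xor F]
  have him := fun a (ha : a < 2048) => (List.all_eq_true.1 im_ok) a (List.mem_range.2 ha)
  simp only [Bool.and_eq_true, Bool.or_eq_true, Bool.not_eq_true', List.contains_iff_mem] at him
  have hcu' : cu ∈ [0, 129, 257, 384] := by
    obtain ⟨a, ha, he⟩ := hIm hcu2 (hy1a.mul hua) (hinv (A := nSU) (v := 643) (by simp) (by norm_num)
      q643 (fun a b => by simp only [ap_xor]) fun a ha => Nat.eq_of_beq_eq_true (hconj a ha).1.1.1.2) hsu hcue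
    have h := (him a ha).1.1
    rw [he] at h
    exact h.resolve_left fun h => by simp [hcuK] at h
  have hcv' : cv ∈ [0, 640] := by
    obtain ⟨a, ha, he⟩ := hIm hcv2 (hy1a.mul hva) (hinv (A := nSV) (v := 1028) (by simp) (by norm_num)
      q1028 (fun a b => by simp only [ap_xor]) fun a ha => Nat.eq_of_beq_eq_true (hconj a ha).1.1.2) hsv2 hcve
    have h := (him a ha).1.2
    rw [he] at h
    exact h.resolve_left fun h => by simp [hcvK] at h
  have hrg : Commute p r := ((show Commute p u from hug).mul_right hvg).mul_right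
    ((show Commute p u from hug).mul_right hvg)
  have hra : Acts F r (ap rM) := ((hua.mul hva).mul (hua.mul hva)).congr
    ((hap4 _ _ _ _).ext (fun a _ b _ => ap_xor ..) fun i hi => (Nat.eq_of_beq_eq_true (hacts i hi).1.1.2).symm)
  have hsr : ∀ a < 2048, ap sM (ap rM (ap sM (ap rM a))) = a := by
    intro a ha
    obtain ⟨h1, h2⟩ := ((hy1a.mul hra).mul (hy1a.mul hra)) a ha
    rw [hyr, V0_comm R (pt_mem F cr) (pt_mem F a), mul_inv_cancel_right] at h2
    exact (pt_inj F ha h1 h2).symm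
  have hcr' : cr ∈ [0, 257, 641, 896] := by
    obtain ⟨a, ha, he⟩ := hIm hcr2 (hy1a.mul hra) (hinv (A := nSR) (v := 643) (by simp) (by norm_num)
      q643 (fun a b => by simp only [ap_xor]) fun a ha => Nat.eq_of_beq_eq_true (hconj a ha).1.2) hsr hyr
    have hcrK : cr ∈ kCodes := by
      refine mem_kCodes F hcr2 ?_
      rw [← hyr]
      exact hKg hrg
    have h := (him a ha).2
    rw [he] at h
    exact h.resolve_left fun h => by simp [hcrK] at h
  -- the correction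
  have hadj := (List.all_eq_true.1 ((List.all_eq_true.1 adjust_ok) cu hcu')) cv hcv'
  rw [Bool.or_eq_true] at hadj
  replace hadj := hadj.resolve_left (by
    simp only [Bool.not_eq_true', Bool.eq_false_iff, ne_eq, not_not, Bool.and_eq_true,
      List.contains_iff_mem, hcus, hcuu, hcvs, hcvv, Nat.beq_refl, true_and]
    exact hcr')
  obtain ⟨k, hk, hk'⟩ := List.any_eq_true.1 hadj
  simp only [Bool.and_eq_true] at hk'
  obtain ⟨⟨hks, hku⟩, hkv⟩ := hk'
  obtain ⟨hk2, hkg⟩ := kCodes_g3 F hk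
  set B := F.pt k
  have hB2 : B * B = 1 := R.V0_sq (pt_mem F k)
  have hBs : y1 * B * y1⁻¹ = B := by rw [(hy1a k hk2).2, Nat.eq_of_beq_eq_true hks]
  set y := B * y1 with hyd
  have hy2 : y * y = 1 := by
    calc y * y = B * (y1 * B * y1⁻¹) * (y1 * y1) := by rw [hyd]; group
      _ = 1 := by rw [hBs, hy12, hB2, one_mul]
  have hcomm : ∀ {w : G} {W : List ℕ} {c : ℕ}, w * w = 1 → Acts F w (ap W) → c < 2048 →
      y1 * w * (y1 * w) = F.pt c → ap W k ^^^ k = c → y * w = w * y := by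
    intro w W c hw2 hwa hc hcw he
    have hwi : w⁻¹ = w := mul_self_inv hw2
    have h1 : y1 * w * y1⁻¹ = F.pt c * w := by
      rw [← hcw, hy1i]; calc y1 * w * y1 = y1 * w * y1 * (w * w) := by rw [hw2, mul_one]
        _ = _ := by group
    have h2 : y * w * y⁻¹ = w := by
      calc y * w * y⁻¹ = B * (y1 * w * y1⁻¹) * B⁻¹ := by rw [hyd]; group
        _ = B * F.pt c * (w * B * w⁻¹) * w := by rw [h1, mul_self_inv hB2]; group
        _ = w := by
          rw [(hwa k hk2).2, ← pt_xor F, ← pt_xor F, ← he,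
            show k ^^^ (ap W k ^^^ k) ^^^ ap W k = 0 by
              rw [Nat.xor_comm (ap W k) k, ← Nat.xor_assoc k, Nat.xor_self, Nat.zero_xor, Nat.xor_self],
            show F.pt 0 = 1 by simpa using pt_xor F 0 0, one_mul]
    exact mul_inv_eq_iff_eq_mul.1 h2
  have hyz : y ∈ centralizer ({z} : Set G) := by
    refine mem_centralizer_singleton_iff.2 ?_
    have ha : Acts F y (ap sM) := ((acts_V0 F (pt_mem F k)).mul hy1a)
    have h := (ha 1 (by norm_num)).2
    rw [show ap sM 1 = 1 by decide +kernel] at h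
    have hz1 : F.pt 1 = z := by
      rw [show (1 : ℕ) = pack true 0 0 from rfl, pt_pack F _ (by norm_num) (by norm_num),
        show sv 0 = 0 by decide +kernel, lz_zero, Lifts.kx, selB_zero]
      simp
    rw [hz1] at h
    exact mul_inv_eq_iff_eq_mul.1 h
  refine ⟨u, v, y, uH.2, vH.2, hyz, huc, hvc, hug, hvg, ?_, hu2, hv2, hy2, hr2,
    hcomm hu2 hua hcu2 hcue (Nat.eq_of_beq_eq_true hku),
    hcomm hv2 hva hcv2 hcve (Nat.eq_of_beq_eq_true hkv), hua, hva, (acts_V0 F (pt_mem F k)).mul hy1a⟩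
  calc y * p * y⁻¹ = B * (y1 * p * y1⁻¹) * B⁻¹ := by rw [hyd]; group
    _ = p⁻¹ := by
      rw [hy1g, ← (show Commute p B from hkg).inv_left.eq, mul_inv_cancel_right]

end H19.J4V
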