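import Cfsg.Agent.H19.J4V.PatCert

/-!
Certificates for a complement to the elementary subgroup in a Sylow two-subgroup of its normalizer.
-/

set_option autoImplicit false
set_option maxRecDepth 100000

namespace H19.J4V

open Cfsg.Agent.H69.J4

/-- The twelve-dimensional matrix of the first generator. -/
def uA : List ℕ := [1, 158, 3830, 3621, 3745, 1188, 220, 3822, 1304, 1668, 1180, 2115]

/-- The twelve-dimensional matrix of the second generator. -/
def vA : List ℕ := [3503, 3703, 991, 2466, 2657, 355, 3566, 2346, 3957, 2161, 2011, 2371]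

/-- The word of the first generator. -/
def uW : List (List ℕ) := [2, 0, 2, 0, 1, 0].map fun i => nWords.getD i []

/-- The word of the second generator. -/
def vW : List (List ℕ) := [1, 1, 1, 2, 1, 2].map fun i => nWords.getD i []

/-- The permutation of the cosets by the first generator. -/
def uPi : List ℕ := [0, 1, 2, 3, 6, 7, 4, 5, 9, 8, 11, 10, 15, 14, 13, 12]

/-- The permutation of the cosets by the second generator. -/
def vPi : List ℕ := [0, 4, 2, 6, 1, 5, 3, 7, 15, 11, 13, 9, 14, 10, 12, 8]

/-- Conjugation in coordinates by an element commuting with the element of order three. -/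
def cK (A π : List ℕ) (a : ℕ) : ℕ :=
  pack (cE a ^^ (sig 653 (cX a) ^^ sig 653 (π.getD (cX a) 0))) (sc (ap A (sv (cS a)))) (π.getD (cX a) 0)

/-- The action of the involution inverting the element of order three. -/
def sM : List ℕ := [1, 16, 4, 30, 2, 66, 48, 128, 256, 512, 1280]

/-- The action of the first generator. -/
def uM : List ℕ := [1, 12, 4, 6, 26, 42, 64, 128, 256, 769, 1152]

/-- The action of the second generator. -/
def vM : List ℕ := [1, 60, 112, 124, 90, 84, 10, 512, 256, 128, 1920]

/-- The action of the square of their product. -/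
def rM : List ℕ := [1, 60, 4, 54, 90, 106, 64, 385, 256, 769, 1664]

/-- Automorphisms carrying known involutions to the wanted ones. -/
def nS : List ℕ := [116, 18, 699, 334, 714, 63, 685, 573, 1557, 1231, 2040]

/-- As `nS`, for the product with the first generator. -/
def nSU : List ℕ := [4, 142, 1, 129, 156, 403, 378, 12, 58, 967, 1502]

/-- As `nS`, for the product with the second generator. -/
def nSV : List ℕ := [44, 98, 700, 683, 1865, 1892, 72, 270, 731, 1440, 1077]

/-- As `nS`, for the product with the square. -/
def nSR : List ℕ := [116, 19, 344, 645, 756, 919, 718, 539, 1231, 576, 1743]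

/-- As `nS`, for the element of order four. -/
def nF : List ℕ := [28, 1672, 25, 1560, 1778, 1766, 21, 1956, 3, 68, 731]

/-- The codes of the elements commuting with the element of order three. -/
def kCodes : List ℕ :=
  [0, 128, 256, 384, 512, 640, 768, 896, 1024, 1152, 1280, 1408, 1536, 1664, 1792, 1920,
   1, 129, 257, 385, 513, 641, 769, 897, 1025, 1153, 1281, 1409, 1537, 1665, 1793, 1921]

/-- The only non-zero norm under the element of order four. -/
def nrmW : ℕ := 5

/-- A basis of the singular subspace. -/
def bL : List ℕ := [2359, 3379, 3084, 861, 1253, 253]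

/-- The words giving the basis from its first member. -/
def bWds : List (List ℕ) := [[], [1], [2], [0, 1], [2, 1], [2, 0, 1]]

/-- The matrices of the three generators of the singular subspace. -/
def gT (i : ℕ) : List ℕ := [uA, vA, mW].getD i []

/-- The matrices of the three generators, twisted by the involution. -/
def gT' (i : ℕ) : List ℕ := [uA, vA, mm mW mW].getD i []

/-- The vector moved by a word. -/
def wdApp (g : ℕ → List ℕ) : List ℕ → ℕ → ℕ
  | [], v => v
  | i :: w, v => ap (g i) (wdApp g w v)

/-- The images of the basis for a given correction. -/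
def bImg (j : ℕ) : List ℕ := bWds.map fun w => wdApp gT' w (3084 ^^^ sv j)

/-- The members of the singular subspace. -/
def bSp : List ℕ := (List.range 64).map (ap bL)

theorem bL_eq : bL = bWds.map fun w => wdApp gT w 2359 := by decide +kernel

theorem gens_ok : ((List.range 64).all fun s =>
    sVec.contains (ap uA (sv s)) && sVec.contains (ap vA (sv s))) = true ∧
    uPi.getD 0 0 = 0 ∧ vPi.getD 0 0 = 0 ∧
    ((List.range 16).all fun x => Nat.blt (uPi.getD x 0) 16 && Nat.blt (vPi.getD x 0) 16 &&
      (Nat.beq x 0 || !Nat.beq (uPi.getD x 0) 0 && !Nat.beq (vPi.getD x 0) 0) &&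
      mm uA (xm x) == mm (xm (uPi.getD x 0)) uA && mm vA (xm x) == mm (xm (vPi.getD x 0)) vA) = true := by
  decide +kernel

theorem gens_words : (mm (evalM uW.flatten) (xm 0) == uA && mm (evalM vW.flatten) (xm 11) == vA &&
    mm (evalM [0, 2]) uA == mm (xm 1) (evalM [0, 2]) &&
    mm (evalM [0, 1, 1]) vA == mm (xm 13) (evalM [0, 1, 1]) &&
    mm (evalM [0, 1, 1]) (mm (mm uA vA) (mm uA vA)) == mm (xm 7) (evalM [0, 1, 1])) = true := by
  decide +kernel

theorem root_bit : ((List.range 15).all fun i =>
    (tMask 653).testBit (128 * (i + 1)) == !sig 653 (i + 1)) = true := by decide +kernel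

theorem uM_ok : ((List.range 11).all fun i =>
    let a := 2 ^ i
    Nat.beq (cK uA uPi a) (ap uM a)) = true := by
  decide +kernel

theorem vM_ok : ((List.range 11).all fun i =>
    let a := 2 ^ i
    Nat.beq (cK vA vPi a) (ap vM a)) = true := by
  decide +kernel

theorem preserve_ok : ([nS, nSU, nSV, nSR, nF].all fun A => A.all (fun a => Nat.blt a 2048) &&
    (List.range 2048).all fun a => (tMask 653).testBit (ap A a) == (tMask 653).testBit a &&
      (Nat.beq a 0 || !Nat.beq (ap A a) 0)) = true := by decide +kernel

theorem conjS_ok : ((List.range 11).all fun i =>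
    let a := 2 ^ i
    Nat.beq (ap nS (dE 1028 a)) (ap sM (ap nS a)) &&
    Nat.beq (ap nSU (dE 643 a)) (ap sM (ap uM (ap nSU a))) &&
    Nat.beq (ap nSV (dE 1028 a)) (ap sM (ap vM (ap nSV a))) &&
    Nat.beq (ap nSR (dE 643 a)) (ap sM (ap rM (ap nSR a))) &&
    Nat.beq (ap nF (dE 643 (ap uM a))) (ap sM (dE 2359 (ap uM (ap nF a))))) = true := by decide +kernel

theorem acts_ok : ((List.range 11).all fun i =>
    let a := 2 ^ i
    Nat.beq (dW (ap sM (dW (ap sM a)))) a && Nat.beq (ap sM (ap sM a)) a &&
    Nat.beq (ap sM (ap uM (ap sM (ap uM a)))) a && Nat.beq (ap sM (ap vM (ap sM (ap vM a)))) a &&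
    Nat.beq (ap rM a) (ap uM (ap vM (ap uM (ap vM a)))) &&
    Nat.beq (ap sM (dE 2359 (ap sM a))) (dE 3084 a) &&
    Nat.beq (dE 3084 (dE 3084 a)) a) = true := by decide +kernel

theorem fix_w : ((List.range 2048).all fun a => !Nat.beq (dW a) a || kCodes.contains a) = true := by
  decide +kernel

theorem kCodes_fix : (kCodes.all fun a => Nat.blt a 2048 && Nat.beq (dW a) a) = true := by
  decide +kernel

theorem im_ok : ((List.range 2048).all fun a =>
    let s := a ^^^ ap sM (ap uM a)
    let t := a ^^^ ap sM (ap vM a)
    let r := a ^^^ ap sM (ap rM a)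
    (!kCodes.contains s || [0, 129, 257, 384].contains s) &&
    (!kCodes.contains t || [0, 640].contains t) &&
    (!kCodes.contains r || [0, 257, 641, 896].contains r)) = true := by decide +kernel

theorem adjust_ok : (([0, 129, 257, 384] : List ℕ).all fun cu => ([0, 640] : List ℕ).all fun cv =>
    !(Nat.beq (ap sM cu) cu && Nat.beq (ap uM cu) cu && Nat.beq (ap sM cv) cv && Nat.beq (ap vM cv) cv &&
      [0, 257, 641, 896].contains
        (cu ^^^ ap uM cv ^^^ ap uM (ap vM cu) ^^^ ap uM (ap vM (ap uM cv)))) ||
    kCodes.any fun b => Nat.beq (ap sM b) b && Nat.beq (ap uM b ^^^ b) cu && Nat.beq (ap vM b ^^^ b) cv) =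
    true := by decide +kernel

theorem norm_ok : ((List.range 11).all fun i =>
    let a := 2 ^ i
    let g := fun c => ap sM (dE 2359 (ap uM c))
    [0, nrmW].contains (a ^^^ g a ^^^ g (g a) ^^^ g (g (g a)))) = true ∧ nrmW ≠ 1 := by decide +kernel

theorem lists_lt : (([bL, uA, vA, mW, mm mW mW].all fun l => l.all fun a => Nat.blt a 4096) &&
    Nat.beq (mm uA vA).length 12) = true := by
  decide +kernel

theorem sub_ok : ((List.range 64).all fun i => !qB (ap bL i) &&
    ((List.range 64).all fun k => !bilN (ap mW (ap bL i)) (ap mW (ap mW (ap bL k)))) &&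
    bSp.contains (ap uA (ap bL i)) && bSp.contains (ap vA (ap bL i)) &&
    ((List.range 6).all fun k => Nat.beq (dE (ap bL i) (2 * 2 ^ k) / 2) (2 ^ k)) &&
    (!sVec.contains (ap bL i) || Nat.beq i 0)) = true := by decide +kernel

theorem sub_misc : (!qB 1028 && !qB 643 && !qB (ap uA 643) && !qB 2359 && !qB 3084 && !qB (ap uA 2359) &&
    !bilN 643 (ap uA 643) && !bilN (ap mW (ap uA 643)) (ap mW (ap mW 643)) &&
    !qB (643 ^^^ ap uA 643) && Nat.beq (ap bL 4) 3084 && Nat.beq (ap bL 1) 2359) = true := by
  decide +kernel

theorem cases_ok : ((List.range 64).all fun j =>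
    [0, 5].contains j ||
    ((List.range 3).any fun g => (List.range 6).any fun k => (List.range 64).any fun i =>
      Nat.beq (ap bL i) (ap (gT g) (bL.getD k 0)) &&
        !Nat.beq (ap (gT' g) ((bImg j).getD k 0)) (ap (bImg j) i)) ||
    ((List.range 64).any fun i => qB (ap (bImg j) i)) ||
    !Nat.beq (ap (bImg j) 4 ^^^ sv (cS (ap sM (2 * j)))) 2359 ||
    bilN (3084 ^^^ sv j) (ap uA 2359)) = true := by decide +kernel

/-- The correcting element for a case. -/
def xJ (j : ℕ) : ℕ := bif Nat.beq j 0 then 0 else 2

theorem img_ok : (([0, 5] : List ℕ).all fun j => (List.range 64).all fun i =>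
    bSp.contains (ap (xm (xJ j)) (ap (bImg j) i)) && !qB (ap (xm (xJ j)) (ap (bImg j) i))) = true := by
  decide +kernel

theorem xJ_fix : (([0, 256] : List ℕ).all fun a =>
    Nat.beq (ap sM a) a && Nat.beq (ap uM a) a && Nat.beq (ap vM a) a) = true := by decide +kernel

/-- The action of a product of the three involutions on a fixed vector. -/
def formF (p : ℕ) (a : ℕ) : ℕ :=
  let a0 := bif p.testBit 3 then ap sM a else a
  let a1 := bif p.testBit 2 then ap uM a0 else a0
  let g := fun c => ap uM (ap vM c)
  let a2 := bif p.testBit 0 then g a1 else a1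
  bif p.testBit 1 then g (g a2) else a2

theorem faithful_ok : ((List.range 16).all fun p => (List.range p).all fun q =>
    (List.range 6).any fun i => !Nat.beq (formF p (2 ^ (i + 1)) / 2) (formF q (2 ^ (i + 1)) / 2)) =
    true := by decide +kernel

end H19.J4V
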