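import Cfsg.Agent.H19.J4V.Realise
import Cfsg.Agent.H19.J4V.SplitCert

/-!
Lifts of the elements centralizing or inverting the element of order three.
-/

set_option autoImplicit false
set_option maxRecDepth 20000
set_option maxHeartbeats 400000
set_option linter.unusedSectionVars false
set_option linter.style.haveILetI false

namespace H19.J4V

open Subgroup Cfsg.Agent.H69.J4 H88.J4Fusion

variable {G : Type*} [Group G] [Finite G]
variable {z : G} {E P N : Subgroup G} {d : Data z E P} {R : Real d}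
variable {e : ↥(centralizer ({z} : Set G)) →* MulAut ↥Cfsg.Spor.M22}

theorem word_NV : ∀ w : List (List ℕ), (∀ i ∈ w, i ∈ nWords) → (R.word w.flatten : G) ∈ NV R
  | [], _ => by simp [Real.word, one_mem]
  | i :: w, h => by
    have happ : ∀ a b, R.word (a ++ b) = R.word a * R.word b := by
      intro a b
      induction a with
      | nil => simp [Real.word]
      | cons x a iha => simp [Real.word, iha, mul_assoc]
    rw [List.flatten_cons, happ, Subgroup.coe_mul]
    exact mul_mem (mem_NV_of_normA0 R (R.normA0_word (h i (List.mem_cons_self ..))))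
      (word_NV w fun a ha => h a (List.mem_cons_of_mem _ ha))

theorem word_g3 (w : List ℕ) : (R.g 3 : G) * R.word w = R.word w * R.g 3 :=
  mem_centralizer_iff.1 (mem_subgroupOf.1 (R.word_mem w)) _ R.memP

/-- An element centralizing the element of order three whose matrix is conjugate to an involution of the
model is an involution. -/
theorem sq_of_conj (F : Lifts R) {h : ↥(centralizer ({z} : Set G))}
    (hc : (R.g 3 : G) * h = h * R.g 3) (g : List ℕ) {x : ℕ} (hx : x < 16)
    (he : mm (evalM g) (R.code (d.ρ h)) = mm (xm x) (evalM g)) : (h : G) * h = 1 := by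
  set k : ↥(centralizer ({z} : Set G)) := R.word g * h * (R.word g)⁻¹
  have hρ : d.ρ k = d.ρ ⟨F.kx x, kx_H F x⟩ := by
    rw [map_mul, map_mul, map_inv, mul_inv_eq_iff_eq_mul]
    refine R.mat_inj ?_
    rw [R.mat_mul, R.mat_mul, R.mat_word, kx_code F x hx, he]
  have hcg : Commute (R.g 3 : G) (R.word g : G) := word_g3 g
  have hck : Commute (R.g 3 : G) (k : G) := (hcg.mul_right hc).mul_right hcg.inv_right
  have hE : (k : G) * (F.kx x)⁻¹ ∈ E := by
    refine (d.mem_ker_iff (h := k * ⟨F.kx x, kx_H F x⟩⁻¹)).1 ?_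
    rw [map_mul, map_inv, hρ, mul_inv_cancel]
  have hk2 : (k : G) * k = 1 := by
    have hz : z * F.kx x = F.kx x * z := (mem_centralizer_singleton_iff.1 (kx_H F x)).symm
    rcases R.K_inter_E (hck.mul_right (show Commute (R.g 3 : G) (F.kx x) from kx_g3 F x).inv_right).eq hE
      with e | e
    · rw [mul_inv_eq_one] at e
      rw [e, R.V0_sq (kx_mem F x)]
    · rw [mul_inv_eq_iff_eq_mul] at e
      rw [e, show z * F.kx x * (z * F.kx x) = z * (F.kx x * z) * F.kx x by group, ← hz,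
        show z * (z * F.kx x) * F.kx x = (z * z) * (F.kx x * F.kx x) by group, d.L.zz,
        R.V0_sq (kx_mem F x), one_mul]
  have : (R.word g : G) * ((h : G) * h) * (R.word g : G)⁻¹ = 1 := by
    rw [← hk2]
    show _ = (R.word g : G) * h * (R.word g : G)⁻¹ * ((R.word g : G) * h * (R.word g : G)⁻¹)
    group
  exact conj_eq_one_iff.1 this

theorem lz_sq {v : ℕ} (hv : v < 4096) (hq : qB v = false) : lz R v * lz R v = 1 := by
  rw [d.sq_eq (lz_mem R v), ← R.qv_mk ⟨lz R v, lz_mem R v⟩ v (φ_lz R hv), qv_eq R v hv, hq]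
  simp [bz, Data.zp]

/-- An element inverting the element of order three moves the canonical elements by its action. -/
theorem invert_lz {h : ↥(centralizer ({z} : Set G))}
    (hi : (h : G) * R.g 3 * (h : G)⁻¹ = (R.g 3 : G)⁻¹) {v w : ℕ} (hw : w < 4096)
    (hq : qB w = false) (hρ : d.ρ h (R.φ v) = R.φ w) :
    (h : G) * lz R v * (h : G)⁻¹ = lz R w := by
  set p : G := (R.g 3 : G) with hp
  set a : E := (R.φ (ap mW v)).out
  have ha : R.φ (ap mW v) = QuotientGroup.mk a := (QuotientGroup.out_eq' _).symm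
  set a' : G := (h : G) * a * (h : G)⁻¹ with ha'd
  have ha'E : a' ∈ E := d.L.conj_mem h.2 a.2
  set c : G := p⁻¹ * a' * p with hcd
  have hcE : c ∈ E := by
    have := d.L.conj_mem (inv_mem (R.g 3).2) ha'E
    simpa using this
  have hinv : (R.g 3)⁻¹ = R.g 3 * R.g 3 := inv_eq_of_mul_eq_one_right
    (Subtype.ext (by rw [← mul_assoc]; exact R.g3_pow))
  have hρp : d.ρ h * d.ρ (R.g 3) * (d.ρ h)⁻¹ = d.ρ (R.g 3) * d.ρ (R.g 3) := by
    rw [← map_inv, ← map_mul, ← map_mul, ← map_mul]
    refine congrArg d.ρ (Subtype.ext ?_)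
    show (h : G) * R.g 3 * (h : G)⁻¹ = _
    rw [hi, ← hinv]; rfl
  have e1 : ∀ u, d.ρ (R.g 3) (R.φ u) = R.φ (ap mW u) := fun u => by rw [R.apply, R.mat_letter]; rfl
  have hcl' : R.φ (ap mW (ap mW w)) = QuotientGroup.mk ⟨a', ha'E⟩ := by
    have h1 := DFunLike.congr_fun (mul_inv_eq_iff_eq_mul.1 hρp) (R.φ v)
    rw [MulAut.mul_apply, MulAut.mul_apply, MulAut.mul_apply, e1, hρ, e1, e1] at h1
    rw [← h1, ha, d.ρ_mk]
  have hcl : R.φ (ap mW w) = QuotientGroup.mk ⟨c, hcE⟩ := by
    have h1 : d.ρ (R.g 3)⁻¹ (QuotientGroup.mk ⟨a', ha'E⟩) = QuotientGroup.mk ⟨c, hcE⟩ := by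
      rw [d.ρ_mk]
      exact congrArg QuotientGroup.mk (Subtype.ext (by
        show (p⁻¹) * a' * (p⁻¹)⁻¹ = p⁻¹ * a' * p
        rw [inv_inv]))
    rw [← h1, ← hcl', hinv, map_mul, MulAut.mul_apply, e1, e1]
    refine congrArg R.φ ?_
    have hw3 : ∀ u < 4096, ap mW (ap mW (ap mW u)) = u := by
      intro u hu
      have h1 := Nat.eq_of_beq_eq_true ((List.all_eq_true.1 w_sum_ok) u (List.mem_range.2 hu))
      have h2 := Nat.eq_of_beq_eq_true ((List.all_eq_true.1 w_sum_ok) _ (List.mem_range.2 (ap_mW_lt u)))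
      calc ap mW (ap mW (ap mW u))
          = (ap mW (ap mW u) ^^^ ap mW (ap mW (ap mW u))) ^^^ ap mW (ap mW u) := by
            rw [Nat.xor_comm (ap mW (ap mW u)), Nat.xor_assoc, Nat.xor_self, Nat.xor_zero]
        _ = ap mW u ^^^ ap mW (ap mW u) := by rw [h2]
        _ = u := h1
    rw [hw3 _ (ap_mW_lt w)]
  have hcomm : a' * c = c * a' := by
    rcases d.mul_comm_cases ha'E hcE with ⟨-, e⟩ | ⟨e, -⟩
    · exact e
    · exfalso
      have hb := bil_eq R (ap_mW_lt _) (ap_mW_lt w) (a := ⟨a', ha'E⟩) (b := ⟨c, hcE⟩) hcl' hcl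
      rw [e] at hb
      have h0 : bilN (ap mW (ap mW w)) (ap mW w) = false := by
        have hf := fun u (hu : u < 4096) => (List.all_eq_true.1 w_form) u (List.mem_range.2 hu)
        have hs := Nat.eq_of_beq_eq_true ((List.all_eq_true.1 w_sum_ok) w (List.mem_range.2 hw))
        have f1 := hf w hw
        have f2 := hf _ (ap_mW_lt w)
        rw [beq_iff_eq] at f1 f2
        rw [bilN, f2, f1, Nat.xor_comm, hs, hq]; rfl
      rw [h0] at hb
      exact absurd hb (by decide)
  rw [lz_eq R (v := w) (a := ⟨c, hcE⟩) hcl, lz_eq R ha, tw, tw]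
  show (h : G) * ((a : G) * (p * a * p⁻¹)) * (h : G)⁻¹ = c * (p * c * p⁻¹)
  have hh : (h : G) * p * (h : G)⁻¹ = p⁻¹ := hi
  calc (h : G) * ((a : G) * (p * a * p⁻¹)) * (h : G)⁻¹
      = a' * (((h : G) * p * (h : G)⁻¹) * a' * ((h : G) * p * (h : G)⁻¹)⁻¹) := by rw [ha'd]; group
    _ = a' * c := by rw [hh, inv_inv]
    _ = _ := by rw [hcomm, hcd]; group

theorem sig_spec (F : Lifts R) (hM : ∀ a < 2048, (tMask 653).testBit a = true ↔ F.pt a ∈ outside R)
    {x : ℕ} (hx : x < 16) (hx0 : x ≠ 0) : sig 653 x = true ↔ F.kx x ∈ zO R := by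
  have h := (List.all_eq_true.1 root_bit) (x - 1) (List.mem_range.2 (by omega))
  rw [show x - 1 + 1 = x by omega, beq_iff_eq] at h
  have hm := hM (128 * x) (by omega)
  have hne : F.pt (128 * x) ≠ 1 := fun e => by have := pt_eq_one F (by omega) e; omega
  rw [h, show F.pt (128 * x) = F.kx x from (pt_root F hx).1] at hm
  rw [show F.pt (128 * x) = F.kx x from (pt_root F hx).1] at hne
  cases hs : sig 653 x
  · simpa [hs, outside, hne, kx_mem F x] using hm
  · simpa [hs, outside, hne, kx_mem F x] using hm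

/-- The action of an element centralizing the element of order three. -/
theorem acts_cK (F : Lifts R) (hS : Shape F)
    (hM : ∀ a < 2048, (tMask 653).testBit a = true ↔ F.pt a ∈ outside R)
    {h : ↥(centralizer ({z} : Set G))} (hc : (R.g 3 : G) * h = h * R.g 3) (hN : (h : G) ∈ NV R)
    {A π : List ℕ} (hA : R.code (d.ρ h) = A) (hsv : ∀ s < 64, ap A (sv s) ∈ sVec)
    (hπ0 : π.getD 0 0 = 0)
    (hπ : ∀ x < 16, π.getD x 0 < 16 ∧ (x ≠ 0 → π.getD x 0 ≠ 0) ∧ mm A (xm x) = mm (xm (π.getD x 0)) A) :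
    Acts F (h : G) (cK A π) := by
  classical
  intro a ha
  have hp := (List.all_eq_true.1 pack_ok) a (List.mem_range.2 ha)
  simp only [Bool.and_eq_true, Nat.blt_eq] at hp
  obtain ⟨hy, hy0, hye⟩ := hπ _ hp.2
  obtain ⟨hlt, hsve⟩ := sc_lt (hsv _ (cS_lt a))
  set x := cX a
  set y := π.getD x 0
  have hb : (cK A π a) < 2048 := by
    have h := (List.all_eq_true.1 ((List.all_eq_true.1 ((List.all_eq_true.1 unpack_ok)
      (cE a ^^ (sig 653 x ^^ sig 653 y))
      (by cases (cE a ^^ (sig 653 x ^^ sig 653 y)) <;> simp))) _ (List.mem_range.2 hlt))) _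
      (List.mem_range.2 hy)
    simp only [Bool.and_eq_true, Nat.blt_eq] at h
    exact h.2
  refine ⟨hb, ?_⟩
  have hk : (h : G) * F.kx x * (h : G)⁻¹ = zb z (sig 653 x ^^ sig 653 y) * F.kx y := by
    rcases eq_or_ne x 0 with hx0 | hx0
    · have : y = 0 := by rw [show y = π.getD x 0 from rfl, hx0, hπ0]
      rw [this, hx0, Lifts.kx, selB_zero]
      simp [zb, sig, posX]
    have hs : ∀ x < 16, x ≠ 0 → F.kx x = zb z (sig 653 x) * tX F x := fun x hx hx0 => by
      rw [tX, show decide (F.kx x ∈ zO R) = sig 653 x from Bool.eq_iff_iff.2 (by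
        rw [decide_eq_true_eq]; exact (sig_spec F hM hx hx0).symm), ← mul_assoc, ← zb_xor (d := d)]
      simp [zb]
    have ht : (h : G) * tX F x * (h : G)⁻¹ = tX F y := by
      refine tX_unique F hS hy (hy0 hx0) ((mem_normalizer_iff.1 hN _).1 (tX_mem F x)) ?_ ?_ ?_
      · exact (((show Commute (R.g 3 : G) h from hc).mul_right (show Commute (R.g 3 : G) (tX F x) from
          tX_g3 F x)).mul_right (show Commute (R.g 3 : G) h from hc).inv_right).eq
      · obtain ⟨htH, hρ⟩ := tX_rho F x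
        refine ⟨mul_mem (mul_mem h.2 htH) (inv_mem h.2), ?_⟩
        rw [show (⟨(h : G) * tX F x * (h : G)⁻¹, _⟩ : centralizer ({z} : Set G)) =
          h * ⟨_, htH⟩ * h⁻¹ from rfl, map_mul, map_mul, map_inv, hρ, mul_inv_eq_iff_eq_mul]
        refine R.mat_inj ?_
        rw [R.mat_mul, R.mat_mul, hA, kx_code F x hp.2, kx_code F y hy, hye]
      · intro h'
        refine tX_not F hS hp.2 hx0 ?_
        have := zO_conj R (inv_mem hN) h'
        simpa [mul_assoc] using this
    calc (h : G) * F.kx x * (h : G)⁻¹ = ((h : G) * zb z (sig 653 x)) * tX F x * (h : G)⁻¹ := by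
          rw [hs x hp.2 hx0]; group
      _ = zb z (sig 653 x) * tX F y := by rw [zb_comm (d := d) h.2, ← ht]; group
      _ = _ := by
        have h2 := hs y hy (hy0 hx0)
        rw [zb_xor (d := d), mul_assoc, h2, ← mul_assoc (zb z (sig 653 y)), ← zb_xor (d := d)]
        simp [zb]
  rw [cK, pt_pack F _ hlt hy, hsve]
  show (h : G) * (zb z (cE a) * lz R (sv (cS a)) * F.kx x) * (h : G)⁻¹ = _
  calc (h : G) * (zb z (cE a) * lz R (sv (cS a)) * F.kx x) * (h : G)⁻¹
      = ((h : G) * zb z (cE a) * (h : G)⁻¹) * ((h : G) * lz R (sv (cS a)) * (h : G)⁻¹) *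
          ((h : G) * F.kx x * (h : G)⁻¹) := by group
    _ = zb z (cE a) * lz R (ap A (sv (cS a))) * (zb z (sig 653 x ^^ sig 653 y) * F.kx y) := by
        rw [zb_comm (d := d) h.2, mul_inv_cancel_right, conj_lz R hc.symm, hA, hk]
    _ = zb z (cE a) * (lz R (ap A (sv (cS a))) * zb z (sig 653 x ^^ sig 653 y)) * F.kx y := by group
    _ = _ := by
        rw [zb_comm (d := d) (d.L.le_H (lz_mem R _)), ← mul_assoc, ← zb_xor (d := d)]
        rfl

end H19.J4V
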