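import Cfsg.Agent.H19.J4V.Cert

/-!
Orbits of the extraspecial subgroup and the element of order three on the cosets inside the model.
-/

set_option autoImplicit false
set_option maxRecDepth 100000

namespace H19.J4V

open Cfsg.Agent.H69.J4

/-- Representatives of the twelve-dimensional space modulo the fixed space. -/
def eReps : List ℕ := (List.range 64).map (ap [1, 2, 4, 16, 32, 256])

/-- The second coordinate of a root of the long orbit. -/
def r2 (x : ℕ) : ℕ := bif [1, 5, 6, 8, 10].contains x then (bif Nat.beq x 1 then 16 else 2) else 1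

/-- The orbit of a code under representatives, as a mask of positions in its coset. -/
def eMask (r : ℕ) : ℕ := eReps.foldl (fun m u => m ||| 2 ^ (dE u r % 128)) 0

/-- The three orbits on a coset, as masks. -/
def oMask (x : ℕ) : ℕ → ℕ
  | 0 => eMask (128 * x)
  | 1 => eMask (128 * x + 1)
  | _ => eMask (128 * x + 2 * r2 x) ||| eMask (dW (128 * x + 2 * r2 x)) |||
      eMask (dW (dW (128 * x + 2 * r2 x)))

/-- Number of positions in a mask. -/
def pc (m : ℕ) : ℕ := ((List.range 128).filter fun i => m.testBit i).length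

theorem orb_part : ((List.range 15).all fun i =>
    let M0 := oMask (i + 1) 0
    let M1 := oMask (i + 1) 1
    let M2 := oMask (i + 1) 2
    Nat.beq (M0 ||| M1 ||| M2) (2 ^ 128 - 1) && Nat.beq (pc M0) 16 && Nat.beq (pc M1) 16 &&
      Nat.beq (pc M2) 96) = true := by decide +kernel

theorem sizes_mult : ∀ a ∈ [0, 36, 90, 126], ∀ b0 b1 b2 : Bool,
    let m := (bif b0 then 16 else 0) + (bif b1 then 16 else 0) + (bif b2 then 96 else 0)
    1 + a + 15 * m ∣ ∏ i : Fin 11, (2 ^ 11 - 2 ^ (i : ℕ)) →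
      (a = 90 ∧ m = 112) ∨ (a = 0 ∧ m = 0) ∨ (a = 126 ∧ m = 0) ∨ (a = 126 ∧ m = 128) := by
  decide +kernel

/-- The divisors of `10395` that are multiples of `45`. -/
def j45 : List ℕ := [45, 135, 315, 495, 945, 1485, 3465, 10395]

theorem j45_ok : ∀ j : ℕ, j ∣ 10395 → 45 ∣ j → j ∈ j45 := by
  intro j hj h45
  obtain ⟨k, rfl⟩ := h45
  have hk : k ∣ 231 := (Nat.mul_dvd_mul_iff_left (by norm_num : 0 < 45)).1 (by simpa using hj)
  have key : ∀ k < 232, k ∣ 231 → 45 * k ∈ j45 := by decide +kernel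
  exact key k (Nat.lt_succ_of_le (Nat.le_of_dvd (by norm_num) hk)) hk

theorem sylow_89 : ∀ j ∈ j45, ∀ c ∈ [89, 2047], ∀ a ∈ [1, 2, 4, 8, 11, 22, 44, 88],
    c * a ∣ 2047 * (2 ^ 10 * j) → (2047 * (2 ^ 10 * j) / (c * a)) % 89 ≠ 1 := by decide +kernel

end H19.J4V
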