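import Cfsg.Agent.H19.J4V.Coord
import Cfsg.Agent.H19.J4V.OrbCert
import Cfsg.Agent.H88.J4Fusion.Orbit

/-!
The conjugates of `z` inside the elementary subgroup of order `2 ^ 11`.
-/

set_option autoImplicit false
set_option maxRecDepth 20000
set_option linter.unusedSectionVars false
set_option linter.style.haveILetI false

namespace H19.J4V

open Subgroup Cfsg.Agent.H69.J4 H88.J4Fusion

variable {G : Type*} [Group G] [Finite G]
variable {z : G} {E P N : Subgroup G} {d : Data z E P} {R : Real d}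
variable {e : ↥(centralizer ({z} : Set G)) →* MulAut ↥Cfsg.Spor.M22}
variable (F : Lifts R)

include F in
theorem exists_E (u : ℕ) : ∃ a : E, R.φ u = QuotientGroup.mk a :=
  ⟨_, (QuotientGroup.out_eq' _).symm⟩

theorem ap_six_lt (i : ℕ) : ap [1, 2, 4, 16, 32, 256] i < 4096 := ap_lt (n := 12) (by decide) i

theorem mem_eMask {r i : ℕ} :
    (eMask r).testBit i = true ↔ ∃ u ∈ eReps, dE u r % 128 = i := by
  have key : ∀ (l : List ℕ) (m : ℕ), ((l.foldl (fun m u => m ||| 2 ^ (dE u r % 128)) m).testBit i = true ↔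
      m.testBit i = true ∨ ∃ u ∈ l, dE u r % 128 = i) := by
    intro l
    induction l with
    | nil => intro m; simp
    | cons u l ih =>
      intro m
      rw [List.foldl_cons, ih, Nat.testBit_or, Nat.testBit_two_pow]
      simp only [Bool.or_eq_true, decide_eq_true_eq, List.mem_cons, exists_eq_or_imp, or_assoc]
  rw [eMask, key]
  simp

theorem div_dE {u r : ℕ} (hr : r < 2048) (hu : u < 4096) (F : Lifts R) :
    dE u r / 128 = r / 128 ∧ dE u r < 2048 := by
  have hp := (List.all_eq_true.1 pack_ok) r (List.mem_range.2 hr)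
  simp only [Bool.and_eq_true, Nat.blt_eq] at hp
  have hm := cmt_mem F hp.2 hu
  have hxS : sv (cS r) ^^^ cmt (cX r) u ∈ sVec := by
    simpa using (List.all_eq_true.1 ((List.all_eq_true.1 sVec_closed) _ (sv_mem (cS_lt r)))) _ hm
  have h := (List.all_eq_true.1 ((List.all_eq_true.1 ((List.all_eq_true.1 unpack_ok)
    (cE r ^^ (bilN u (sv (cS r)) ^^ bilN u (ap mW (cmt (cX r) u))))
    (by cases (cE r ^^ (bilN u (sv (cS r)) ^^ bilN u (ap mW (cmt (cX r) u)))) <;> simp)))
    _ (List.mem_range.2 (sc_lt hxS).1))) _ (List.mem_range.2 hp.2)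
  simp only [Bool.and_eq_true, beq_iff_eq, Nat.blt_eq] at h
  exact ⟨Nat.eq_of_beq_eq_true h.1.2, h.2⟩

theorem dW_facts (F : Lifts R) {r : ℕ} (hr : r < 2048) :
    dW r / 128 = r / 128 ∧ dW r < 2048 ∧
      (R.g 3 : G) * F.pt r * (R.g 3 : G)⁻¹ = F.pt (dW r) := by
  have hp := (List.all_eq_true.1 pack_ok) r (List.mem_range.2 hr)
  simp only [Bool.and_eq_true, Nat.blt_eq] at hp
  have hs := (List.all_eq_true.1 sv_ok) _ (List.mem_range.2 hp.1.2)
  simp only [Bool.and_eq_true] at hs
  have hwS : ap mW (sv (cS r)) ∈ sVec := by simpa using hs.2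
  obtain ⟨hlt, hsv⟩ := sc_lt hwS
  have h := (List.all_eq_true.1 ((List.all_eq_true.1 ((List.all_eq_true.1 unpack_ok) (cE r)
    (by cases cE r <;> simp))) _ (List.mem_range.2 hlt))) _ (List.mem_range.2 hp.2)
  simp only [Bool.and_eq_true, beq_iff_eq, Nat.blt_eq] at h
  refine ⟨Nat.eq_of_beq_eq_true h.1.2, h.2, ?_⟩
  rw [dW, pt_pack (F := F) _ hlt hp.2, hsv, ← g3_lz R]
  show (R.g 3 : G) * (zb z (cE r) * lz R (sv (cS r)) * F.kx (cX r)) * (R.g 3 : G)⁻¹ = _
  calc (R.g 3 : G) * (zb z (cE r) * lz R (sv (cS r)) * F.kx (cX r)) * (R.g 3 : G)⁻¹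
      = ((R.g 3 : G) * zb z (cE r)) * lz R (sv (cS r)) * F.kx (cX r) * (R.g 3 : G)⁻¹ := by group
    _ = zb z (cE r) * ((R.g 3 : G) * lz R (sv (cS r))) * (F.kx (cX r) * (R.g 3 : G)⁻¹) := by
        rw [zb_comm (d := d) (R.g 3).2]; group
    _ = zb z (cE r) * ((R.g 3 : G) * lz R (sv (cS r))) * ((R.g 3 : G)⁻¹ * F.kx (cX r)) := by
        rw [(Commute.inv_right (show Commute (F.kx (cX r)) (R.g 3 : G) from (kx_g3 F _).symm)).eq]
    _ = _ := by simp only [zb]; group

include F in
/-- Membership among the conjugates is constant on the orbit of a code. -/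
theorem zO_iff_of_eMask {r i : ℕ} (hr : r < 2048) (h : (eMask r).testBit i = true) :
    F.pt r ∈ zO R ↔ F.pt (128 * (r / 128) + i) ∈ zO R := by
  obtain ⟨u, hu, hui⟩ := mem_eMask.1 h
  obtain ⟨k, -, rfl⟩ := List.mem_map.1 hu
  obtain ⟨a, ha⟩ := exists_E F (ap [1, 2, 4, 16, 32, 256] k)
  obtain ⟨hd, hlt⟩ := div_dE hr (ap_six_lt k) F
  have hcode : 128 * (r / 128) + i = dE (ap [1, 2, 4, 16, 32, 256] k) r := by
    rw [← hd, ← hui, Nat.div_add_mod]
  rw [hcode, ← conj_E F (ap_six_lt k) ha hr]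
  refine ⟨fun h => zO_conj R (E_le_NV R a.2) h, fun h => ?_⟩
  have := zO_conj R (E_le_NV R (inv_mem a.2)) h
  simpa [mul_assoc] using this

include F in
theorem zO_iff_dW {r : ℕ} (hr : r < 2048) : F.pt r ∈ zO R ↔ F.pt (dW r) ∈ zO R := by
  rw [← (dW_facts F hr).2.2]
  have hN : (R.g 3 : G) ∈ NV R := mem_NV_of_normA0 R R.normA0_g3
  refine ⟨fun h => zO_conj R hN h, fun h => ?_⟩
  have := zO_conj R (inv_mem hN) h
  simpa [mul_assoc] using this

/-- The roots of the three orbits. -/
def oRoot (x : ℕ) : ℕ → ℕ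
  | 0 => 128 * x
  | 1 => 128 * x + 1
  | _ => 128 * x + 2 * r2 x

theorem r2_lt (x : ℕ) : r2 x ≤ 16 := by
  unfold r2
  cases [1, 5, 6, 8, 10].contains x <;> cases Nat.beq x 1 <;> simp

theorem oRoot_lt {x : ℕ} (hx : x < 16) (k : ℕ) : oRoot x k < 2048 ∧ oRoot x k / 128 = x := by
  have := r2_lt x
  match k with
  | 0 => constructor <;> simp only [oRoot] <;> omega
  | 1 => constructor <;> simp only [oRoot] <;> omega
  | _ + 2 => constructor <;> simp only [oRoot] <;> omega

include F in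
theorem zO_iff_root {x : ℕ} (hx : x < 16) {k i : ℕ} (h : (oMask x k).testBit i = true) :
    F.pt (oRoot x k) ∈ zO R ↔ F.pt (128 * x + i) ∈ zO R := by
  match k with
  | 0 =>
    have := zO_iff_of_eMask F (oRoot_lt hx 0).1 h
    rwa [(oRoot_lt hx 0).2] at this
  | 1 =>
    have := zO_iff_of_eMask F (oRoot_lt hx 1).1 h
    rwa [(oRoot_lt hx 1).2] at this
  | k + 2 =>
    have hr := oRoot_lt hx (k + 2)
    simp only [oMask, Nat.testBit_or, Bool.or_eq_true] at h
    have h1 := dW_facts F hr.1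
    have h2 := dW_facts F h1.2.1
    rcases h with (h | h) | h
    · have := zO_iff_of_eMask F hr.1 h
      rwa [hr.2] at this
    · rw [zO_iff_dW F hr.1]
      have := zO_iff_of_eMask F h1.2.1 h
      rwa [h1.1, hr.2] at this
    · rw [zO_iff_dW F hr.1, zO_iff_dW F h1.2.1]
      have := zO_iff_of_eMask F h2.2.1 h
      rwa [h2.1, h1.1, hr.2] at this

theorem pt_part {x a : ℕ} (hx : x < 16) (ha : a < 128) :
    ∃ h : F.pt (128 * x + a) ∈ centralizer ({z} : Set G),
      d.ρ ⟨_, h⟩ = d.ρ ⟨F.kx x, kx_H F x⟩ := by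
  have hX : cX (128 * x + a) = x := by show (128 * x + a) / 128 = x; omega
  have hS : F.pt (128 * x + a) * (F.kx x)⁻¹ ∈ E := by
    rw [Lifts.pt, hX, mul_inv_cancel_right]
    refine mul_mem ?_ (lz_mem R _)
    exact zb_mem_E (d := d) _
  refine ⟨(pt_mem F _).1, ?_⟩
  have h := (d.mem_ker_iff (h := (⟨F.pt (128 * x + a), (pt_mem F _).1⟩ : centralizer ({z} : Set G)) *
    (⟨F.kx x, kx_H F x⟩)⁻¹)).2 hS
  rwa [map_mul, map_inv, mul_inv_eq_one] at h

theorem xm_inj {x y : ℕ} (hx : x < 16) (hy : y < 16) (h : xm x = xm y) : x = y := by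
  rcases lt_trichotomy x y with hl | hl | hl
  · have := (List.all_eq_true.1 xm_ok) y (List.mem_range.2 hy)
    simp only [Bool.and_eq_true] at this
    have h3 := (List.all_eq_true.1 this.2) x (List.mem_range.2 hl)
    simp [h] at h3
  · exact hl
  · have := (List.all_eq_true.1 xm_ok) x (List.mem_range.2 hx)
    simp only [Bool.and_eq_true] at this
    have h3 := (List.all_eq_true.1 this.2) y (List.mem_range.2 hl)
    simp [h] at h3

open scoped Classical in
/-- The number of conjugates of `z` in one coset, in terms of the three orbits. -/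
theorem card_part {x : ℕ} (hx : x < 16) (hx0 : x ≠ 0) :
    Nat.card (part R (d.ρ ⟨F.kx x, kx_H F x⟩)) =
      (bif decide (F.pt (oRoot x 0) ∈ zO R) then 16 else 0) +
      (bif decide (F.pt (oRoot x 1) ∈ zO R) then 16 else 0) +
      (bif decide (F.pt (oRoot x 2) ∈ zO R) then 96 else 0) := by
  set b : ℕ → Bool := fun k => decide (F.pt (oRoot x k) ∈ zO R)
  have hg : ∀ i : {i : Fin 128 // F.pt (128 * x + i) ∈ zO R},
      F.pt (128 * x + i.1) ∈ part R (d.ρ ⟨F.kx x, kx_H F x⟩) :=
    fun i => ⟨i.2, pt_part F hx i.1.2⟩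
  let g : {i : Fin 128 // F.pt (128 * x + i) ∈ zO R} → part R (d.ρ ⟨F.kx x, kx_H F x⟩) :=
    fun i => ⟨_, hg i⟩
  have hgb : Function.Bijective g := by
    refine ⟨fun i j e => ?_, fun t => ?_⟩
    · have := pt_inj F (by have := i.1.2; omega) (by have := j.1.2; omega)
        (congrArg (fun q : part R (d.ρ ⟨F.kx x, kx_H F x⟩) => (q : G)) e)
      exact Subtype.ext (Fin.ext (by omega))
    · obtain ⟨a, ha, hat⟩ := pt_surj F t.2.1.1
      obtain ⟨h3, h4⟩ := pt_part F (x := a / 128) (by omega) (Nat.mod_lt a (by norm_num : 0 < 128))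
      have hd : 128 * (a / 128) + a % 128 = a := Nat.div_add_mod a 128
      have hxe : a / 128 = x := by
        obtain ⟨htH, hte⟩ := t.2.2
        refine xm_inj (by omega) hx ?_
        rw [← kx_code F x hx, ← hte, ← kx_code F (a / 128) (by omega), ← h4]
        exact congrArg (fun q => R.code (d.ρ q)) (Subtype.ext ((congrArg F.pt hd).trans hat))
      have hax : 128 * x + a % 128 = a := by omega
      refine ⟨⟨⟨a % 128, Nat.mod_lt _ (by norm_num)⟩, ?_⟩, Subtype.ext ?_⟩
      · show F.pt (128 * x + a % 128) ∈ zO R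
        rw [hax, hat]; exact t.2.1
      · show F.pt (128 * x + a % 128) = t
        rw [hax, hat]
  rw [← Nat.card_congr (Equiv.ofBijective g hgb), Nat.card_eq_fintype_card, Fintype.card_subtype]
  have h := (List.all_eq_true.1 orb_part) (x - 1) (List.mem_range.2 (by omega))
  rw [show x - 1 + 1 = x by omega] at h
  simp only [Bool.and_eq_true] at h
  obtain ⟨⟨⟨hcov, h0⟩, h1⟩, h2⟩ := h
  have hcov := Nat.eq_of_beq_eq_true hcov
  set S : ℕ → Finset (Fin 128) := fun k => Finset.univ.filter fun i => (oMask x k).testBit i.1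
  have hS : ∀ k, (S k).card = pc (oMask x k) := by
    intro k
    rw [pc, ← List.toFinset_card_of_nodup (List.Nodup.filter _ List.nodup_range),
      ← Finset.card_map ⟨Fin.val, Fin.val_injective⟩]
    congr 1
    ext i
    simp only [S, Finset.mem_map, Finset.mem_filter, Finset.mem_univ, true_and, List.mem_toFinset,
      List.mem_filter, List.mem_range, Function.Embedding.coeFn_mk]
    exact ⟨by rintro ⟨j, hj, rfl⟩; exact ⟨j.2, hj⟩, fun ⟨h, h'⟩ => ⟨⟨i, h⟩, h', rfl⟩⟩
  have hu : ∀ i : Fin 128, i ∈ S 0 ∨ i ∈ S 1 ∨ i ∈ S 2 := by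
    intro i
    have h := congrArg (fun m => m.testBit i.1) hcov
    simp only [Nat.testBit_or, Nat.testBit_two_pow_sub_one, i.2, decide_true, Bool.or_eq_true,
      or_assoc] at h
    simpa [S] using h
  have huniv : (S 0 ∪ S 1 ∪ S 2) = Finset.univ := Finset.eq_univ_of_forall fun i => by
    simpa [or_assoc] using hu i
  have h128 : (S 0).card + (S 1).card + (S 2).card = 128 := by
    rw [hS, hS, hS, Nat.eq_of_beq_eq_true h0, Nat.eq_of_beq_eq_true h1, Nat.eq_of_beq_eq_true h2]
  have hd01 : Disjoint (S 0) (S 1) ∧ Disjoint (S 0 ∪ S 1) (S 2) := by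
    have e := congrArg Finset.card huniv
    rw [Finset.card_univ, Fintype.card_fin] at e
    have a1 := Finset.card_union_le (S 0 ∪ S 1) (S 2)
    have a2 := Finset.card_union_le (S 0) (S 1)
    exact ⟨Finset.card_union_eq_card_add_card.1 (by omega),
      Finset.card_union_eq_card_add_card.1 (by omega)⟩
  have hsplit : (Finset.univ.filter fun i : Fin 128 => F.pt (128 * x + i) ∈ zO R) =
      (if b 0 then S 0 else ∅) ∪ (if b 1 then S 1 else ∅) ∪ (if b 2 then S 2 else ∅) := by
    ext i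
    have hk : ∀ k, i ∈ S k → (F.pt (128 * x + i) ∈ zO R ↔ b k = true) := fun k hk => by
      rw [decide_eq_true_eq]
      exact (zO_iff_root F hx (by simpa [S] using hk)).symm
    simp only [Finset.mem_filter, Finset.mem_univ, true_and, Finset.mem_union]
    constructor
    · intro hi
      rcases hu i with h | h | h
      · exact Or.inl (Or.inl (by rw [(hk 0 h).1 hi, if_pos rfl]; exact h))
      · exact Or.inl (Or.inr (by rw [(hk 1 h).1 hi, if_pos rfl]; exact h))
      · exact Or.inr (by rw [(hk 2 h).1 hi, if_pos rfl]; exact h)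
    · rintro ((h | h) | h)
      all_goals (split_ifs at h with hb <;> first | simp at h | exact (hk _ h).2 hb)
  rw [hsplit]
  show _ = (bif b 0 then 16 else 0) + (bif b 1 then 16 else 0) + (bif b 2 then 96 else 0)
  rw [Finset.card_union_of_disjoint, Finset.card_union_of_disjoint]
  · rw [← Nat.eq_of_beq_eq_true h0, ← Nat.eq_of_beq_eq_true h2, ← hS, ← hS]
    have h10 : (S 1).card = (S 0).card := by
      rw [hS, hS, Nat.eq_of_beq_eq_true h0, Nat.eq_of_beq_eq_true h1]
    cases b 0 <;> cases b 1 <;> cases b 2 <;> simp [h10]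
  · cases b 0 <;> cases b 1 <;> simp [hd01.1]
  · have := Finset.disjoint_union_left.1 hd01.2
    cases b 0 <;> cases b 1 <;> cases b 2 <;> simp [this.1, this.2]

end H19.J4V
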