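import Cfsg.Agent.H19.J4V.OrbCert

/-!
The possible patterns of the elements outside the class of `z`, and the pair labels of the right one.
-/

set_option autoImplicit false
set_option maxRecDepth 100000

namespace H19.J4V

open Cfsg.Agent.H69.J4

/-- The four candidate sets of the elements outside the class, as masks. -/
def tMask : ℕ → ℕ
  | 0 => 0x8100008118000024280000144100004118000018004281000028140041000041080440800804804020200101101001018040040801021020080840401010010180040110400401200840100108802001900050000050006009000500000a000908401001011080040120400408802001090005005000900000600050000a000901104008100204404008011008802001000500090006000500090005000a0009005000900900050060005000000a0009100104800840100120010440088020010000118848120000214800000000441188110000000084214821000000004411000000000000000000000000599a6559cc0000cc0c03c0303c3c00000ccf300c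
  | 653 => 0x8100008118000024280000144100004124000024008142000014280082000082080440800804804020200101101001014080080402012010040480802020020280040110400401200840100108802001900050000050006009000500000a000908401001011080040120400408802001090005005000900000600050000a000902208004200108808004022004401002000a00060009000a0006000a00050006005000900900050060005000000a0009100104800840100120010440088020010000224484210000128400000000882288110000000084214821000000004411000000000000000000000000599a6559cc0000cc0c03c0303c3c00000ccf300c
  | 1207 => 0x42000042240000181400002882000082180000180042810000281400410000410804408008048040202001011010010140800804020120100404808020200202800401104004012008401001088020016000a00000a0009006000a000005000604802002022040080210800804401002090005005000900000600050000a000901104008100204404008011008802001000a00060009000a0006000a0005000600a0006006000a009000a00000050006100104800840100120010440088020010000224484210000128400000000882288110000000084214821000000004411000000000000000000000000599a6559cc0000cc0c03c0303c3c00000ccf300c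
  | _ => 0x42000042240000181400002882000082240000240081420000142800820000820804408008048040202001011010010180400408010210200808404010100101800401104004012008401001088020016000a00000a0009006000a000005000604802002022040080210800804401002090005005000900000600050000a000902208004200108808004022004401002000500090006000500090005000a000900a0006006000a009000a00000050006100104800840100120010440088020010000118848120000214800000000441188110000000084214821000000004411000000000000000000000000599a6559cc0000cc0c03c0303c3c00000ccf300c

/-- The cosets whose bit is free. -/
def posX : List ℕ := [3, 5, 6, 7, 9, 10, 11, 12, 13, 14, 15]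

/-- The bit of a coset. -/
def sig (m x : ℕ) : Bool := posX.contains x && m.testBit (posX.idxOf x)

/-- The permutations of the cosets by three elements of the normalizer. -/
def piX : List (List ℕ) := [[0, 1, 14, 15, 5, 4, 11, 10, 9, 8, 7, 6, 12, 13, 2, 3],
  [0, 2, 5, 7, 11, 9, 14, 12, 13, 15, 8, 10, 6, 4, 3, 1],
  [0, 2, 4, 6, 8, 10, 12, 14, 15, 13, 11, 9, 7, 5, 3, 1]]

/-- The defect of linearity. -/
def dlt (m x y : ℕ) : Bool := sig m x ^^ sig m y ^^ sig m (x ^^^ y)

/-- The points, as vectors. -/
def ptsN : List ℕ := [0, 2, 16, 19, 132, 136, 147, 158, 659, 686, 712, 756, 786, 801, 835, 881,
  1043, 1062, 1116, 1128, 1299, 1320, 1366, 1388]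

/-- The label of a pair. -/
def labT (p q : ℕ) : ℕ := ptsN.getD p 0 ^^^ ptsN.getD q 0

/-- Number of members of a mask whose product with a vector is a member. -/
def pairN (M c : ℕ) : ℕ := ((List.range 2048).filter fun a => M.testBit a && M.testBit (a ^^^ c)).length

theorem piX_ok : ((List.range 3).all fun i => (List.range 16).all fun x =>
    let y := (piX.getD i []).getD x 0
    Nat.blt y 16 && (Nat.beq x 0 || !Nat.beq y 0) &&
      mm (evalM (nWords.getD i [])) (xm x) == mm (xm y) (evalM (nWords.getD i []))) = true := by
  decide +kernel

theorem invariant_cases : ((List.range 2048).all fun m => [0, 653, 1207, 1594].contains m ||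
    piX.any fun l => (List.range 16).any fun x => (List.range x).any fun y => !Nat.beq y 0 &&
      !(dlt m (l.getD x 0) (l.getD y 0) == dlt m x y)) = true := by decide +kernel

theorem tMask_outer : ([0, 653, 1207, 1594].all fun m => (List.range 15).all fun i =>
    Nat.beq ((tMask m >>> (128 * (i + 1))) % 2 ^ 128)
      (oMask (i + 1) (bif sig m (i + 1) then 1 else 0))) = true := by decide +kernel

theorem tMask_inner : ([0, 653, 1207, 1594].all fun m => (List.range 128).all fun a =>
    (tMask m).testBit a == orb0.contains (sv (cS a))) = true := by decide +kernel

theorem orb_disjoint : ((List.range 15).all fun i =>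
    Nat.beq (oMask (i + 1) 0 &&& oMask (i + 1) 1) 0 && Nat.beq (oMask (i + 1) 0 &&& oMask (i + 1) 2) 0 &&
      Nat.beq (oMask (i + 1) 1 &&& oMask (i + 1) 2) 0) = true := by decide +kernel

theorem witness_ok : ([0, 1207, 1594].all fun m => !(tMask m).testBit 129 &&
    !Nat.beq (pairN (tMask m) 129) (pairN (tMask m) 1)) = true := by decide +kernel

theorem lab_sub : ((List.range 24).all fun p => (List.range 24).all fun q => Nat.beq p q ||
    (tMask 653).testBit (labT p q)) = true := by decide +kernel

theorem lab_sup : ((List.range 2048).all fun a => !(tMask 653).testBit a ||
    (List.range 24).any fun p => (List.range p).any fun q => Nat.beq (labT p q) a) = true := by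
  decide +kernel

theorem lab_far : ((List.range 24).all fun p => (List.range p).all fun q => (List.range 24).all fun r =>
    Nat.beq r p || Nat.beq r q || (List.range r).all fun s => Nat.beq s p || Nat.beq s q ||
      (!Nat.beq (labT p q ^^^ labT r s) 0 && !(tMask 653).testBit (labT p q ^^^ labT r s))) = true := by
  decide +kernel

theorem lab_basic : ((List.range 24).all fun p => Nat.blt (ptsN.getD p 0) 2048 &&
    (List.range p).all fun q => !Nat.beq (ptsN.getD p 0) (ptsN.getD q 0)) = true := by decide +kernel

theorem tMask_low : ([0, 653, 1207, 1594].all fun m => !(tMask m).testBit 0 && !(tMask m).testBit 1) = true := by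
  decide +kernel

end H19.J4V
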