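import Cfsg.Agent.H19.J4V.Shape
import Cfsg.Agent.H19.J4V.PatCert

/-!
The elements of the elementary subgroup outside the class of `z`, in coordinates.
-/

set_option autoImplicit false
set_option maxRecDepth 20000
set_option maxHeartbeats 400000
set_option linter.unusedSectionVars false
set_option linter.style.haveILetI false

namespace H19.J4V

open Subgroup Cfsg.Agent.H69.J4 H88.J4Fusion

variable {G : Type*} [Group G] [Finite G]
variable {z : G} {E P N : Subgroup G} {d : Data z E P} {R : Real d}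
variable {e : ↥(centralizer ({z} : Set G)) →* MulAut ↥Cfsg.Spor.M22}

theorem pack_root : ∀ x < 16, pack false 0 x = 128 * x ∧ pack true 0 x = 128 * x + 1 := by
  decide +kernel

theorem pi_lin : ((List.range 3).all fun i => (List.range 16).all fun x => (List.range 16).all fun y =>
    Nat.beq ((piX.getD i []).getD x 0 ^^^ (piX.getD i []).getD y 0) ((piX.getD i []).getD (x ^^^ y) 0)) =
    true := by decide +kernel

theorem pt_root (F : Lifts R) {x : ℕ} (hx : x < 16) :
    F.pt (oRoot x 0) = F.kx x ∧ F.pt (oRoot x 1) = z * F.kx x := by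
  obtain ⟨h0, h1⟩ := pack_root x hx
  refine ⟨?_, ?_⟩
  · rw [show oRoot x 0 = pack false 0 x from h0.symm, pt_pack F _ (by norm_num) hx,
      show sv 0 = 0 by decide +kernel, lz_zero]
    simp
  · rw [show oRoot x 1 = pack true 0 x from h1.symm, pt_pack F _ (by norm_num) hx,
      show sv 0 = 0 by decide +kernel, lz_zero]
    simp

variable (F : Lifts R)

open scoped Classical in
/-- The element of a coset commuting with the element of order three and outside the class. -/
noncomputable def tX (x : ℕ) : G := zb z (decide (F.kx x ∈ zO R)) * F.kx x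

theorem zb_mem_V0 (b : Bool) : zb z b ∈ R.V0 := by
  cases b
  · exact one_mem _
  · exact z_mem_V0 R

theorem tX_mem (x : ℕ) : tX F x ∈ R.V0 := mul_mem (zb_mem_V0 _) (kx_mem F x)

theorem tX_g3 (x : ℕ) : (R.g 3 : G) * tX F x = tX F x * R.g 3 := by
  rw [tX, ← mul_assoc, zb_comm (d := d) (R.g 3).2, mul_assoc, kx_g3 F x, mul_assoc]

theorem tX_rho (x : ℕ) : ∃ h : tX F x ∈ centralizer ({z} : Set G),
    d.ρ ⟨tX F x, h⟩ = d.ρ ⟨F.kx x, kx_H F x⟩ := by
  classical
  refine ⟨(tX_mem F x).1, ?_⟩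
  have he : zb z (decide (F.kx x ∈ zO R)) ∈ E := zb_mem_E (d := d) _
  rw [show (⟨tX F x, (tX_mem F x).1⟩ : centralizer ({z} : Set G)) =
    ⟨_, d.L.le_H he⟩ * ⟨F.kx x, kx_H F x⟩ from rfl, map_mul, (d.mem_ker_iff).2 he, one_mul]

theorem tX_not (hS : Shape F) {x : ℕ} (hx : x < 16) (hx0 : x ≠ 0) : tX F x ∉ zO R := by
  classical
  have h := hS.short x hx hx0
  rw [(pt_root F hx).1, (pt_root F hx).2] at h
  by_cases hk : F.kx x ∈ zO R
  · simpa [tX, zb, hk] using h.1 hk
  · simpa [tX, zb, hk] using hk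

theorem tX_unique (hS : Shape F) {x : ℕ} (hx : x < 16) (hx0 : x ≠ 0) {t : G} (htV : t ∈ R.V0)
    (hc : (R.g 3 : G) * t = t * R.g 3)
    (hρ : ∃ h : t ∈ centralizer ({z} : Set G), d.ρ ⟨t, h⟩ = d.ρ ⟨F.kx x, kx_H F x⟩) (hn : t ∉ zO R) :
    t = tX F x := by
  classical
  obtain ⟨htH, hρ⟩ := hρ
  have hE : t * (F.kx x)⁻¹ ∈ E := by
    have h := (d.mem_ker_iff (h := (⟨t, htH⟩ : centralizer ({z} : Set G)) * ⟨F.kx x, kx_H F x⟩⁻¹)).1 (by
      rw [map_mul, map_inv, hρ, mul_inv_cancel])
    exact h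
  have hcomm : (R.g 3 : G) * (t * (F.kx x)⁻¹) = t * (F.kx x)⁻¹ * R.g 3 :=
    (Commute.mul_right (show Commute (R.g 3 : G) t from hc)
      (Commute.inv_right (show Commute (R.g 3 : G) (F.kx x) from kx_g3 F x))).eq
  have h := hS.short x hx hx0
  rw [(pt_root F hx).1, (pt_root F hx).2] at h
  rcases R.K_inter_E hcomm hE with e | e
  · rw [mul_inv_eq_one] at e
    subst e
    simp [tX, zb, hn]
  · rw [mul_inv_eq_iff_eq_mul] at e
    subst e
    have hk : F.kx x ∈ zO R := h.2 hn
    simp [tX, zb, hk]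

theorem conj_tX (hS : Shape F) {i : ℕ} (hi : i < 3) {x : ℕ} (hx : x < 16) (hx0 : x ≠ 0) :
    (R.word (nWords.getD i []) : G) * tX F x * (R.word (nWords.getD i []) : G)⁻¹ =
      tX F ((piX.getD i []).getD x 0) := by
  have hp := (List.all_eq_true.1 ((List.all_eq_true.1 piX_ok) i (List.mem_range.2 hi))) x
    (List.mem_range.2 hx)
  simp only [Bool.and_eq_true, Nat.blt_eq, Bool.or_eq_true, beq_iff_eq, Bool.not_eq_true'] at hp
  set y := (piX.getD i []).getD x 0
  set w := nWords.getD i [] with hw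
  have hwm : w ∈ nWords := by
    rw [hw, List.getD_eq_getElem (hn := (by simpa [nWords] using hi))]; exact List.getElem_mem _
  have hN : (R.word w : G) ∈ NV R := mem_NV_of_normA0 R (R.normA0_word hwm)
  have hy0 : y ≠ 0 := fun h => by
    rcases hp.1.2 with h' | h'
    · exact hx0 (Nat.eq_of_beq_eq_true h')
    · rw [h] at h'; exact absurd h' (by decide)
  have hcw : (R.g 3 : G) * R.word w = R.word w * R.g 3 :=
    mem_centralizer_iff.1 (mem_subgroupOf.1 (R.word_mem w)) _ R.memP
  refine tX_unique F hS hp.1.1 hy0 ((mem_normalizer_iff.1 hN _).1 (tX_mem F x)) ?_ ?_ ?_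
  · exact (Commute.mul_right (Commute.mul_right (show Commute (R.g 3 : G) (R.word w : G) from hcw)
      (show Commute (R.g 3 : G) (tX F x) from tX_g3 F x))
      (Commute.inv_right (show Commute (R.g 3 : G) (R.word w : G) from hcw))).eq
  · obtain ⟨htH, hρ⟩ := tX_rho F x
    refine ⟨mul_mem (mul_mem (R.word w).2 htH) (inv_mem (R.word w).2), ?_⟩
    rw [show (⟨(R.word w : G) * tX F x * (R.word w : G)⁻¹, _⟩ : centralizer ({z} : Set G)) =
      R.word w * ⟨_, htH⟩ * (R.word w)⁻¹ from rfl, map_mul, map_mul, map_inv, hρ,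
      mul_inv_eq_iff_eq_mul]
    refine R.mat_inj ?_
    rw [R.mat_mul, R.mat_mul, R.mat_word, kx_code F x hx, kx_code F y hp.1.1, hp.2]
  · intro h
    refine tX_not F hS hx hx0 ?_
    have := zO_conj R (inv_mem hN) h
    simpa [mul_assoc] using this

/-- Lifts for which the four basic elements are outside the class. -/
theorem exists_gauged (hS : Shape F) :
    ∃ F' : Lifts R, ∀ i < 4, F'.kx (2 ^ i) ∉ zO R := by
  classical
  let k : ℕ → G := fun i => zb z (decide (F.k i ∈ zO R)) * F.k i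
  have hcode : ∀ i < 4, ∃ h : k i ∈ centralizer ({z} : Set G), R.code (d.ρ ⟨k i, h⟩) = kB.getD i [] := by
    intro i hi
    obtain ⟨h, hc⟩ := F.code i hi
    have he : zb z (decide (F.k i ∈ zO R)) ∈ E := zb_mem_E (d := d) _
    refine ⟨mul_mem (d.L.le_H he) h, ?_⟩
    rw [show (⟨k i, _⟩ : centralizer ({z} : Set G)) = ⟨_, d.L.le_H he⟩ * ⟨F.k i, h⟩ from rfl, map_mul,
      (d.mem_ker_iff).2 he, one_mul, hc]
  refine ⟨⟨k, fun i hi => mul_mem (zb_mem_V0 _) (F.mem i hi), fun i hi => ?_, hcode⟩, fun i hi => ?_⟩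
  · show (R.g 3 : G) * (zb z (decide (F.k i ∈ zO R)) * F.k i) = zb z _ * F.k i * R.g 3
    rw [← mul_assoc, zb_comm (d := d) (R.g 3).2, mul_assoc, F.comm i hi, mul_assoc]
  · have e0 : F.kx (2 ^ i) = F.k i := by simp [Lifts.kx, selB_two_pow, hi]
    have h := tX_not F hS (x := 2 ^ i) (Nat.pow_lt_pow_right (by norm_num) (show i < 4 from hi))
      (Nat.two_pow_pos i).ne'
    simp only [Lifts.kx, selB_two_pow, if_pos hi]
    simp only [tX, e0] at h
    exact h

open scoped Classical in
theorem exists_sig (hg : ∀ i < 4, F.kx (2 ^ i) ∉ zO R) :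
    ∃ m < 2048, ∀ x < 16, x ≠ 0 → sig m x = decide (F.kx x ∈ zO R) := by
  let f : Fin 11 → Bool := fun i => decide (F.kx (posX.getD i 0) ∈ zO R)
  refine ⟨Nat.ofBits f, Nat.ofBits_lt_two_pow f, fun x hx hx0 => ?_⟩
  have hf : ∀ i (hi : i < 11), (Nat.ofBits f).testBit i = decide (F.kx (posX.getD i 0) ∈ zO R) :=
    fun i hi => Nat.testBit_ofBits_lt f i hi
  by_cases hp : x ∈ posX
  · have hfree : ∀ x ∈ posX, posX.idxOf x < 11 ∧ posX.getD (posX.idxOf x) 0 = x := by decide
    obtain ⟨hj, hjx⟩ := hfree x hp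
    rw [sig, show posX.contains x = true by simpa using hp, Bool.true_and, hf _ hj, hjx]
  · have hfix : ∀ x < 16, x ≠ 0 → x ∉ posX → ∃ i < 4, x = 2 ^ i := by decide
    obtain ⟨i, hi, rfl⟩ := hfix x hx hx0 hp
    rw [sig, show posX.contains (2 ^ i) = false by simpa using hp, Bool.false_and, eq_comm,
      decide_eq_false_iff_not]
    exact hg i hi

open scoped Classical in
theorem dlt_prod {m : ℕ} (hm : ∀ x < 16, x ≠ 0 → sig m x = decide (F.kx x ∈ zO R))
    {x y : ℕ} (hx : x < 16) (hy : y < 16) (hx0 : x ≠ 0) (hy0 : y ≠ 0) (hxy : x ≠ y) :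
    tX F x * tX F y * tX F (x ^^^ y) = zb z (dlt m x y) := by
  classical
  have hxy' : x ^^^ y < 16 := Nat.xor_lt_two_pow (n := 4) hx hy
  have hxy0 : x ^^^ y ≠ 0 := fun h => hxy (Nat.xor_eq_zero_iff.1 h)
  rw [dlt, zb_xor (d := d), zb_xor (d := d), hm x hx hx0, hm y hy hy0, hm _ hxy' hxy0]
  set a := zb z (decide (F.kx x ∈ zO R))
  set b := zb z (decide (F.kx y ∈ zO R))
  set c := zb z (decide (F.kx (x ^^^ y) ∈ zO R))
  have hb : F.kx x * b = b * F.kx x := zb_comm (d := d) (kx_H F x) _
  have hc : F.kx x * F.kx y * c = c * (F.kx x * F.kx y) :=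
    zb_comm (d := d) (mul_mem (kx_H F x) (kx_H F y)) _
  show a * F.kx x * (b * F.kx y) * (c * F.kx (x ^^^ y)) = a * b * c
  calc a * F.kx x * (b * F.kx y) * (c * F.kx (x ^^^ y))
      = a * (F.kx x * b) * F.kx y * c * F.kx (x ^^^ y) := by group
    _ = a * b * (F.kx x * F.kx y * c) * F.kx (x ^^^ y) := by rw [hb]; group
    _ = a * b * c * ((F.kx x * F.kx y) * (F.kx x * F.kx y)) := by rw [hc, kx_xor F]; group
    _ = _ := by rw [R.V0_sq (mul_mem (kx_mem F x) (kx_mem F y)), mul_one]

open scoped Classical in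
theorem sig_cases (hS : Shape F) {m : ℕ} (hm2 : m < 2048)
    (hm : ∀ x < 16, x ≠ 0 → sig m x = decide (F.kx x ∈ zO R)) : m ∈ [0, 653, 1207, 1594] := by
  classical
  by_contra hno
  have h := (List.all_eq_true.1 invariant_cases) m (List.mem_range.2 hm2)
  rw [Bool.or_eq_true] at h
  replace h := h.resolve_left fun h => hno (by simpa using h)
  obtain ⟨l, hl, h⟩ := List.any_eq_true.1 h
  obtain ⟨i, hi, rfl⟩ := List.getElem_of_mem hl
  have hi3 : i < 3 := by simpa [piX] using hi
  rw [← List.getD_eq_getElem (d := []) (hn := hi)] at h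
  obtain ⟨x, hx, h⟩ := List.any_eq_true.1 h
  obtain ⟨y, hy, h⟩ := List.any_eq_true.1 h
  simp only [Bool.and_eq_true, Bool.not_eq_true', beq_eq_false_iff_ne] at h
  obtain ⟨hyb, hne⟩ := h
  have hx := List.mem_range.1 hx
  have hy := List.mem_range.1 hy
  have hy0 : y ≠ 0 := fun e => by rw [e] at hyb; exact absurd hyb (by decide)
  have hp : ∀ x < 16, x ≠ 0 → (piX.getD i []).getD x 0 < 16 ∧ (piX.getD i []).getD x 0 ≠ 0 := by
    intro x hx hx0
    have hp := (List.all_eq_true.1 ((List.all_eq_true.1 piX_ok) i (List.mem_range.2 hi3))) x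
      (List.mem_range.2 hx)
    simp only [Bool.and_eq_true, Nat.blt_eq, Bool.or_eq_true, Bool.not_eq_true'] at hp
    refine ⟨hp.1.1, fun e => ?_⟩
    rcases hp.1.2 with h' | h'
    · exact hx0 (Nat.eq_of_beq_eq_true h')
    · rw [e] at h'; exact absurd h' (by decide)
  have hlin := Nat.eq_of_beq_eq_true ((List.all_eq_true.1 ((List.all_eq_true.1
    ((List.all_eq_true.1 pi_lin) i (List.mem_range.2 hi3))) x (List.mem_range.2 hx))) y
    (List.mem_range.2 (by omega)))
  have hy16 : y < 16 := by omega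
  have hxy : x ≠ y := by omega
  have hx0 : x ≠ 0 := by omega
  obtain ⟨hpx, hpx0⟩ := hp x hx hx0
  obtain ⟨hpy, hpy0⟩ := hp y hy16 hy0
  have hxy0 : x ^^^ y ≠ 0 := fun e => hxy (Nat.xor_eq_zero_iff.1 e)
  have hpne : (piX.getD i []).getD x 0 ≠ (piX.getD i []).getD y 0 := fun e => by
    rw [e, Nat.xor_self] at hlin
    exact (hp _ (Nat.xor_lt_two_pow (n := 4) hx hy16) hxy0).2 hlin.symm
  set h := (R.word (nWords.getD i []) : G)
  have e1 := dlt_prod F hm hpx hpy hpx0 hpy0 hpne
  rw [hlin, ← conj_tX F hS hi3 hx hx0, ← conj_tX F hS hi3 hy16 hy0,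
    ← conj_tX F hS hi3 (Nat.xor_lt_two_pow (n := 4) hx hy16) hxy0] at e1
  have e2 : h * (tX F x * tX F y * tX F (x ^^^ y)) * h⁻¹ =
      zb z (dlt m ((piX.getD i []).getD x 0) ((piX.getD i []).getD y 0)) := by
    rw [← e1]; simp only [h]; group
  rw [dlt_prod F hm hx hy16 hx0 hy0 hxy, zb_comm (d := d) (R.word (nWords.getD i [])).2,
    mul_inv_cancel_right] at e2
  exact hne (zb_inj (d := d) e2).symm

/-- The elements other than the identity outside the class. -/
def outside (R : Real d) : Set G := {t | t ∈ R.V0 ∧ t ≠ 1 ∧ t ∉ zO R}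

open scoped Classical in
theorem mask_spec (hS : Shape F) {m : ℕ} (hm4 : m ∈ [0, 653, 1207, 1594])
    (hm : ∀ x < 16, x ≠ 0 → sig m x = decide (F.kx x ∈ zO R)) {a : ℕ} (ha : a < 2048) :
    (tMask m).testBit a = true ↔ F.pt a ∈ outside R := by
  classical
  have hne1 : F.pt a ≠ 1 ↔ a ≠ 0 := by
    refine ⟨fun h e => h ?_, fun h e => h (pt_eq_one F ha e)⟩
    subst e
    have := pt_xor F 0 0
    simpa using this
  have hout : F.pt a ∈ outside R ↔ a ≠ 0 ∧ F.pt a ∉ zO R :=
    ⟨fun h => ⟨hne1.1 h.2.1, h.2.2⟩, fun h => ⟨pt_mem F a, hne1.2 h.1, h.2⟩⟩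
  rw [hout]
  rcases Nat.lt_or_ge a 128 with ha' | ha'
  · have h := (List.all_eq_true.1 ((List.all_eq_true.1 tMask_inner) m hm4)) a (List.mem_range.2 ha')
    rw [beq_iff_eq] at h
    rw [h]
    have hp := (List.all_eq_true.1 pack_ok) a (List.mem_range.2 ha)
    simp only [Bool.and_eq_true, Nat.blt_eq] at hp
    have hx0 : cX a = 0 := Nat.div_eq_of_lt ha'
    have hpt : F.pt a = zb z (cE a) * lz R (sv (cS a)) := by
      rw [Lifts.pt, hx0, Lifts.kx, selB_zero, mul_one]; rfl
    have hv := sv_mem (cS_lt a)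
    have hcov := (List.all_eq_true.1 orb_cover) _ hv
    simp only [Bool.or_eq_true, List.contains_iff_mem] at hcov
    rw [List.contains_iff_mem]
    rcases eq_or_ne (sv (cS a)) 0 with hs | hs
    · have h01 : ¬ (sv (cS a) ∈ orb0) := fun h' => (orb_sVec (List.mem_cons_self ..) h').2 hs
      refine iff_of_false h01 fun ⟨ha0, hnz⟩ => ?_
      rw [hpt, hs, lz_zero, mul_one] at hnz
      cases hc : cE a
      · refine ha0 (pt_eq_one F ha ?_)
        rw [hpt, hs, lz_zero, mul_one, hc]; rfl
      · rw [hc] at hnz; exact hnz (z_mem_zO R)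
    · have hmem : ∀ o : List ℕ, sv (cS a) ∈ o → F.pt a ∈ lifts R o := fun o ho => by
        refine ⟨hpt ▸ mul_mem (zb_mem_E (d := d) _) (lz_mem R _), _, ho, ?_⟩
        rw [φ_lz R (sVec_bound hv), d.mk_eq_iff]
        show F.pt a = lz R _ ∨ F.pt a = lz R _ * z
        cases hc : cE a
        · left; rw [hpt, hc]; simp [zb]
        · right; rw [hpt, hc]; simp only [zb, cond_true]; rw [(d.L.commute_z (lz_mem R _))]
      constructor
      · intro h0
        have hl := hmem _ h0
        obtain ⟨-, h1, h2⟩ := over_mem_sHat R (List.mem_cons_self ..) hl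
        refine ⟨fun e => h1 ?_, fun hz => ?_⟩
        · rw [e]; simpa using pt_xor F 0 0
        · have hin : F.pt a ∈ lifts R orb1 := by
            rw [← hS.inner]; exact ⟨⟨hz, (over_mem_sHat R (List.mem_cons_self ..) hl).1⟩, h2⟩
          obtain ⟨hh1, w, hw, hwe⟩ := hin
          obtain ⟨hh2, w', hw', hwe'⟩ := hl
          have he : w = w' := R.φ_inj (sVec_bound (orb_sVec (o := orb1) (by simp) hw).1)
            (sVec_bound (orb_sVec (List.mem_cons_self ..) hw').1) (hwe.trans hwe'.symm)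
          have := (List.all_eq_true.1 orb_excl) w hw
          simp [he, hw'] at this
      · rintro ⟨-, hz⟩
        rcases hcov with (h' | h') | h'
        · exact absurd (Nat.eq_of_beq_eq_true h') hs
        · exact h'
        · exact absurd (hS.inner.symm.subset (hmem _ h')).1.1 hz
  · set x := a / 128
    set i := a % 128
    have hai : 128 * x + i = a := Nat.div_add_mod a 128
    have hx : x < 16 := by omega
    have hx0 : x ≠ 0 := by omega
    have h := Nat.eq_of_beq_eq_true ((List.all_eq_true.1 ((List.all_eq_true.1 tMask_outer) m hm4))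
      (x - 1) (List.mem_range.2 (by omega)))
    rw [show x - 1 + 1 = x by omega] at h
    have hb : (tMask m).testBit a = (oMask x (bif sig m x then 1 else 0)).testBit i := by
      rw [← h, Nat.testBit_mod_two_pow, Nat.testBit_shiftRight, hai]
      simp [show i < 128 by omega]
    rw [hb]
    have hd := (List.all_eq_true.1 orb_disjoint) (x - 1) (List.mem_range.2 (by omega))
    rw [show x - 1 + 1 = x by omega] at hd
    simp only [Bool.and_eq_true] at hd
    obtain ⟨⟨d01, d02⟩, d12⟩ := hd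
    have hdis : ∀ {A B : ℕ}, Nat.beq (A &&& B) 0 = true → A.testBit i = true → B.testBit i = false :=
      fun h hA => by
        have := congrArg (fun q => Nat.testBit q i) (Nat.eq_of_beq_eq_true h)
        simpa [hA] using this
    have hp := (List.all_eq_true.1 orb_part) (x - 1) (List.mem_range.2 (by omega))
    rw [show x - 1 + 1 = x by omega] at hp
    simp only [Bool.and_eq_true] at hp
    have hcov := congrArg (fun q => Nat.testBit q i) (Nat.eq_of_beq_eq_true hp.1.1.1)
    simp only [Nat.testBit_or, Nat.testBit_two_pow_sub_one, show i < 128 by omega, decide_true,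
      Bool.or_eq_true] at hcov
    have hk : ∀ k, (oMask x k).testBit i = true → (F.pt a ∈ zO R ↔ F.pt (oRoot x k) ∈ zO R) :=
      fun k hk => by rw [← hai]; exact (zO_iff_root F hx hk).symm
    have hsig := hm x hx hx0
    have ha0 : a ≠ 0 := by omega
    have hs := hS.short x hx hx0
    rw [(pt_root F hx).1] at hs
    rcases hcov with (hc | hc) | hc
    · have h0 := hk 0 hc
      rw [(pt_root F hx).1] at h0
      cases hb2 : sig m x
      · rw [hb2] at hsig
        simp only [cond_false, hc, true_iff]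
        exact ⟨ha0, fun hz => by simp [h0.1 hz] at hsig⟩
      · rw [hb2] at hsig
        simp only [cond_true, hdis d01 hc, Bool.false_eq_true, false_iff]
        exact fun hh => hh.2 (h0.2 (by simpa using hsig.symm))
    · have h1 := hk 1 hc
      cases hb2 : sig m x
      · rw [hb2] at hsig
        simp only [cond_false, Bool.false_eq_true, false_iff,
          show (oMask x 0).testBit i = false from Bool.eq_false_iff.2 fun h => by
            simp [hdis d01 h] at hc]
        refine fun hh => hh.2 (h1.2 ?_)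
        by_contra hno
        exact (by simpa using hsig : F.kx x ∉ zO R) (hs.2 hno)
      · rw [hb2] at hsig
        simp only [cond_true, hc, true_iff]
        exact ⟨ha0, fun hz => hs.1 (by simpa using hsig.symm) (h1.1 hz)⟩
    · have h2 := hk 2 hc
      have hz : F.pt a ∈ zO R := h2.2 (hS.long x hx hx0)
      refine iff_of_false ?_ fun hh => hh.2 hz
      cases sig m x
      · exact fun h' => by simp [hdis d02 h'] at hc
      · exact fun h' => by simp [hdis d12 h'] at hc

theorem pairN_eq {M : ℕ} (hM : ∀ a < 2048, M.testBit a = true ↔ F.pt a ∈ outside R) {c : ℕ}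
    (hc : c < 2048) :
    pairN M c = {t | t ∈ outside R ∧ t * F.pt c ∈ outside R}.ncard := by
  set l := (List.range 2048).filter fun a => M.testBit a && M.testBit (a ^^^ c)
  have h : {t | t ∈ outside R ∧ t * F.pt c ∈ outside R} = F.pt '' {a | a ∈ l} := by
    ext t
    constructor
    · rintro ⟨ht, ht'⟩
      obtain ⟨a, ha, rfl⟩ := pt_surj F ht.1
      rw [← pt_xor F] at ht'
      exact ⟨a, List.mem_filter.2 ⟨List.mem_range.2 ha, by
        rw [(hM a ha).2 ht, (hM _ (Nat.xor_lt_two_pow (n := 11) ha hc)).2 ht']; rfl⟩, rfl⟩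
    · rintro ⟨a, ha, rfl⟩
      obtain ⟨ha1, ha2⟩ := List.mem_filter.1 ha
      have ha := List.mem_range.1 ha1
      rw [Bool.and_eq_true] at ha2
      refine ⟨(hM a ha).1 ha2.1, ?_⟩
      rw [← pt_xor F]
      exact (hM _ (Nat.xor_lt_two_pow (n := 11) ha hc)).1 ha2.2
  rw [h, Set.InjOn.ncard_image (s := {a | a ∈ l}) (fun a ha b hb e => pt_inj F (List.mem_range.1 (List.mem_filter.1 ha).1)
    (List.mem_range.1 (List.mem_filter.1 hb).1) e)]
  rw [pairN, show {a | a ∈ l} = (l.toFinset : Set ℕ) by ext v; simp, Set.ncard_coe_finset,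
    List.toFinset_card_of_nodup (List.Nodup.filter _ List.nodup_range)]

theorem pairs_conj {n : G} (hn : n ∈ NV R) (v : G) :
    {t | t ∈ outside R ∧ t * (n * v * n⁻¹) ∈ outside R}.ncard =
      {t | t ∈ outside R ∧ t * v ∈ outside R}.ncard := by
  have hout : ∀ {k t : G}, k ∈ NV R → t ∈ outside R → k * t * k⁻¹ ∈ outside R := by
    rintro k t hk ⟨h1, h2, h3⟩
    refine ⟨(mem_normalizer_iff.1 hk _).1 h1, fun e => h2 (conj_eq_one_iff.1 e), fun e => h3 ?_⟩
    have := zO_conj R (inv_mem hk) e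
    simpa [mul_assoc] using this
  have h : {t | t ∈ outside R ∧ t * (n * v * n⁻¹) ∈ outside R} =
      (fun t => n * t * n⁻¹) '' {t | t ∈ outside R ∧ t * v ∈ outside R} := by
    ext t
    constructor
    · rintro ⟨h1, h2⟩
      have h1' := hout (inv_mem hn) h1
      have h2' := hout (inv_mem hn) h2
      refine ⟨n⁻¹ * t * n, ⟨by simpa using h1', ?_⟩, by group⟩
      rwa [show n⁻¹ * (t * (n * v * n⁻¹)) * n⁻¹⁻¹ = n⁻¹ * t * n * v by group] at h2'
    · rintro ⟨s, ⟨h1, h2⟩, rfl⟩
      refine ⟨hout hn h1, ?_⟩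
      have := hout hn h2
      rwa [show n * (s * v) * n⁻¹ = n * s * n⁻¹ * (n * v * n⁻¹) by group] at this
  rw [h]
  exact Set.ncard_image_of_injective _ fun a b e => by simpa using e

/-- In suitable coordinates the elements outside the class form the known pattern. -/
theorem exists_pattern [IsSimpleGroup G] (hG : ¬ IsMulCommutative G) (o : Outer z E P N e) :
    ∃ F : Lifts R, Shape F ∧ ∀ a < 2048, (tMask 653).testBit a = true ↔ F.pt a ∈ outside R := by
  classical
  obtain ⟨F0⟩ := exists_lifts R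
  obtain ⟨F, hg⟩ := exists_gauged F0 (exists_shape hG o F0)
  have hS := exists_shape hG o F
  obtain ⟨m, hm2, hm⟩ := exists_sig F hg
  have hm4 := sig_cases F hS hm2 hm
  have hM := fun a (ha : a < 2048) => mask_spec F hS hm4 hm ha
  refine ⟨F, hS, ?_⟩
  suffices m = 653 by rwa [this] at hM
  by_contra hne
  have hm3 : m ∈ [0, 1207, 1594] := by
    simp only [List.mem_cons, List.not_mem_nil, or_false] at hm4 ⊢
    omega
  have h := (List.all_eq_true.1 witness_ok) m hm3
  simp only [Bool.and_eq_true, Bool.not_eq_true'] at h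
  obtain ⟨hb, hneq⟩ := h
  have hz1 : F.pt 1 = z := by
    rw [show (1 : ℕ) = pack true 0 0 from rfl, pt_pack F _ (by norm_num) (by norm_num),
      show sv 0 = 0 by decide +kernel, lz_zero, Lifts.kx, selB_zero]
    simp
  have hv : F.pt 129 ∈ zO R := by
    by_contra hno
    have := (hM 129 (by norm_num)).2 ⟨pt_mem F _, fun e1 => by
      simpa using pt_eq_one F (by norm_num : (129 : ℕ) < 2048) e1, hno⟩
    rw [hb] at this
    exact absurd this (by decide)
  obtain ⟨g, hgz⟩ := hv.2
  obtain ⟨n, hn, hnz⟩ := burnside R o (hgz.symm ▸ hv.1)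
  rw [hgz] at hnz
  have key : pairN (tMask m) 129 = pairN (tMask m) 1 := by
    rw [pairN_eq F hM (by norm_num), pairN_eq F hM (by norm_num), hz1, ← hnz, pairs_conj hn]
  rw [key, Nat.beq_refl] at hneq
  exact absurd hneq (by decide)

end H19.J4V
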