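import Cfsg.Agent.H19.J4V.Mathieu

/-!
Every automorphism of the elementary subgroup preserving the elements outside the class of `z` is induced
by its normalizer.
-/

set_option autoImplicit false
set_option maxRecDepth 20000
set_option maxHeartbeats 400000
set_option linter.unusedSectionVars false
set_option linter.style.haveILetI false

namespace H19.J4V

open Subgroup Cfsg.Agent.H69.J4 H88.J4Fusion H73.FiM24

variable {G : Type*} [Group G] [Finite G]
variable {z : G} {E P N : Subgroup G} {d : Data z E P} {R : Real d}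
variable {e : ↥(centralizer ({z} : Set G)) →* MulAut ↥Cfsg.Spor.M22}

/-- The element conjugates the coordinates by the map. -/
def Acts (F : Lifts R) (h : G) (f : ℕ → ℕ) : Prop :=
  ∀ a < 2048, f a < 2048 ∧ h * F.pt a * h⁻¹ = F.pt (f a)

theorem Acts.mul {F : Lifts R} {g h : G} {f k : ℕ → ℕ} (hg : Acts F g f) (hh : Acts F h k) :
    Acts F (g * h) fun a => f (k a) := fun a ha => by
  obtain ⟨h1, h2⟩ := hh a ha
  obtain ⟨h3, h4⟩ := hg _ h1
  refine ⟨h3, ?_⟩
  rw [← h4, ← h2]; group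

theorem Acts.congr {F : Lifts R} {h : G} {f k : ℕ → ℕ} (hf : Acts F h f)
    (e : ∀ a < 2048, f a = k a) : Acts F h k := fun a ha => by
  rw [← e a ha]; exact hf a ha

theorem Acts.unique {F : Lifts R} {h : G} {f k : ℕ → ℕ} (hf : Acts F h f) (hk : Acts F h k)
    {a : ℕ} (ha : a < 2048) : f a = k a :=
  pt_inj F (hf a ha).1 (hk a ha).1 ((hf a ha).2.symm.trans (hk a ha).2)

theorem Acts.mem_NV {F : Lifts R} {h : G} {f : ℕ → ℕ} (hf : Acts F h f) : h ∈ NV R := by
  refine H88.J4Fusion.mem_NV R fun x hx => ?_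
  obtain ⟨a, ha, rfl⟩ := pt_surj F hx
  rw [(hf a ha).2]
  exact pt_mem F _

theorem Acts.mem_V0 (o : Outer z E P N e) {F : Lifts R} {h : G} {f : ℕ → ℕ} (hf : Acts F h f)
    (e : ∀ a < 2048, f a = a) : h ∈ R.V0 := by
  refine (centralizer_V0 R o).le (mem_centralizer_iff.2 fun x hx => ?_)
  obtain ⟨a, ha, rfl⟩ := pt_surj F hx
  exact (mul_inv_eq_iff_eq_mul.1 ((hf a ha).2.trans (by rw [e a ha]))).symm

theorem xor_top {n x : ℕ} (hx : x < 2 ^ (n + 1)) (h : 2 ^ n ≤ x) : x ^^^ 2 ^ n < 2 ^ n := by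
  rw [show x ^^^ 2 ^ n = x % 2 ^ n by
    refine Nat.eq_of_testBit_eq fun i => ?_
    rw [Nat.testBit_xor, Nat.testBit_two_pow, Nat.testBit_mod_two_pow]
    rcases lt_trichotomy i n with hi | rfl | hi
    · simp [hi, hi.ne']
    · simp [Nat.testBit_eq_decide_div_mod_eq, show x / 2 ^ i = 1 from
        Nat.div_eq_of_lt_le (by omega) (by rw [pow_succ] at hx; omega)]
    · simp [show ¬ i < n by omega, hi.ne, Nat.testBit_lt_two_pow
        (lt_of_lt_of_le hx (Nat.pow_le_pow_right (by norm_num) hi))]]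
  exact Nat.mod_lt _ (Nat.two_pow_pos n)

/-- A property closed under the addition holds throughout once it holds on the unit vectors. -/
theorem basis_ind {Q : ℕ → Prop} {n : ℕ} (h0 : Q 0)
    (hx : ∀ a < 2 ^ n, ∀ b < 2 ^ n, Q a → Q b → Q (a ^^^ b)) (hb : ∀ i < n, Q (2 ^ i)) :
    ∀ a < 2 ^ n, Q a := by
  suffices h : ∀ m ≤ n, ∀ a < 2 ^ m, Q a from h n le_rfl
  intro m
  induction m with
  | zero =>
    intro _ a ha
    rwa [show a = 0 by simpa using ha]
  | succ m ih =>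
    intro hm a ha
    rcases Nat.lt_or_ge a (2 ^ m) with h | h
    · exact ih (by omega) a h
    · have hlt := xor_top ha h
      have hp : 2 ^ m ≤ 2 ^ n := Nat.pow_le_pow_right (by norm_num) (by omega)
      have := hx _ (lt_of_lt_of_le hlt hp) _ (Nat.pow_lt_pow_right (by norm_num) (by omega : m < n))
        (ih (by omega) _ hlt) (hb m (by omega))
      rwa [Nat.xor_assoc, Nat.xor_self, Nat.xor_zero] at this

/-- Additivity on the coordinates. -/
def Additive11 (f : ℕ → ℕ) : Prop := ∀ a < 2048, ∀ b < 2048, f (a ^^^ b) = f a ^^^ f b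

theorem Additive11.ext {f g : ℕ → ℕ} (hf : Additive11 f) (hg : Additive11 g)
    (e : ∀ i < 11, f (2 ^ i) = g (2 ^ i)) : ∀ a < 2048, f a = g a := by
  refine basis_ind (n := 11) ?_ (fun a ha b hb h1 h2 => by rw [hf a ha b hb, hg a ha b hb, h1, h2]) e
  have h1 := hf 0 (by norm_num) 0 (by norm_num)
  have h2 := hg 0 (by norm_num) 0 (by norm_num)
  simp only [Nat.xor_self] at h1 h2
  rw [h1, h2]

theorem Acts.additive {F : Lifts R} {h : G} {f : ℕ → ℕ} (hf : Acts F h f) : Additive11 f := by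
  intro a ha b hb
  obtain ⟨h1, e1⟩ := hf a ha
  obtain ⟨h2, e2⟩ := hf b hb
  obtain ⟨h3, e3⟩ := hf _ (Nat.xor_lt_two_pow (n := 11) ha hb)
  refine pt_inj F h3 (Nat.xor_lt_two_pow (n := 11) h1 h2) ?_
  rw [← e3, pt_xor F, pt_xor F, ← e1, ← e2]
  group

theorem acts_V0 (F : Lifts R) {t : G} (ht : t ∈ R.V0) : Acts F t fun a => a := fun a ha =>
  ⟨ha, by rw [V0_comm R ht (pt_mem F a), mul_inv_cancel_right]⟩

theorem acts_one (F : Lifts R) : Acts F (1 : G) fun a => a := acts_V0 F (one_mem _)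

theorem acts_g3 (F : Lifts R) : Acts F (R.g 3 : G) dW := fun _ ha => ⟨(dW_facts F ha).2.1, (dW_facts F ha).2.2⟩

theorem acts_lz (F : Lifts R) {v : ℕ} (hv : v < 4096) : Acts F (lz R v) (dE v) := fun a ha =>
  ⟨(div_dE ha hv F).2, conj_E F (a := ⟨lz R v, lz_mem R v⟩) hv (φ_lz R hv) ha⟩

theorem acts_conj {F : Lifts R} {n l : G} {f k S : ℕ → ℕ} (hn : Acts F n f) (hl : Acts F l k)
    (h : ∀ a < 2048, f (k a) = S (f a)) : Acts F (n * l * n⁻¹) S := by
  intro b hb
  obtain ⟨a, ha, hat⟩ := pt_surj F (show n⁻¹ * F.pt b * n ∈ R.V0 by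
    have := (mem_normalizer_iff.1 (inv_mem hn.mem_NV) _).1 (pt_mem F b)
    rwa [inv_inv] at this)
  have hfa : f a = b := pt_inj F (hn a ha).1 hb (by rw [← (hn a ha).2, hat]; group)
  obtain ⟨h1, h2⟩ := hn.mul hl a ha
  refine ⟨by rw [← hfa, ← h a ha]; exact h1, ?_⟩
  rw [← hfa, ← h a ha, ← h2, ← (hn a ha).2]
  group

/-- The automorphisms preserving the elements outside the class. -/
def outAut (R : Real d) : Subgroup (MulAut R.V0) where
  carrier := {f | ∀ t : R.V0, ((f t : R.V0) : G) ∈ outside R ↔ (t : G) ∈ outside R}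
  one_mem' := fun _ => Iff.rfl
  mul_mem' := fun {f g} hf hg t => (hf (g t)).trans (hg t)
  inv_mem' := fun {f} hf t => by
    have := hf (f⁻¹ t)
    rw [MulAut.apply_inv_self] at this
    exact this.symm

theorem range_eq_outAut [IsSimpleGroup G] (hG : ¬ IsMulCommutative G) (o : Outer z E P N e)
    (F : Lifts R) (hM : ∀ a < 2048, (tMask 653).testBit a = true ↔ F.pt a ∈ outside R) :
    ∀ γ ∈ outAut R, ∃ n : NV R, ∀ t : R.V0, ((γ t : R.V0) : G) = n * t * (n : G)⁻¹ := by
  classical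
  let φ : R.V0 → (Fin 11 → ZMod 2) := fun t => vbits (co F t)
  have hφ : ∀ a b, φ (a * b) = φ a + φ b := fun a b => by simp only [φ, co_mul, vbits_xor]
  let ψ := Equiv.ofBijective φ (vbits_co_bij F)
  have hψ : ∀ w, φ (ψ.symm w) = w := fun w => ψ.apply_symm_apply w
  have hψ' : ∀ t, ψ.symm (φ t) = t := fun t => ψ.symm_apply_apply t
  have hlab : ∀ t : R.V0, (t : G) ∈ outside R ↔ ∃ p q, p ≠ q ∧ φ t = labels.t p q := fun t => by
    rw [← labels_V0 F hM t, conj_iff_zO t.2]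
    exact ⟨fun h => h.2, fun h => ⟨t.2, h⟩⟩
  let lin : outAut R → (Fin 11 → ZMod 2) →+ (Fin 11 → ZMod 2) := fun γ =>
    AddMonoidHom.mk' (fun w => φ ((γ : MulAut R.V0) (ψ.symm w))) fun u v => by
      rw [show ψ.symm (u + v) = ψ.symm u * ψ.symm v from
        (vbits_co_bij F).1 (show φ _ = φ _ by rw [hψ, hφ, hψ, hψ]), map_mul, hφ]
  have hlin : ∀ γ w, lin γ w = φ ((γ : MulAut R.V0) (ψ.symm w)) := fun _ _ => rfl
  obtain ⟨act, hact, hker⟩ := H38.FiM24.exists_act labels lin (fun w => by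
      rw [hlin]; exact hψ w)
    (fun g h w => by rw [hlin, hlin, hlin, hψ']; rfl)
    (fun γ p q hpq => by
      obtain ⟨r, s, hrs, he⟩ := (hlab _).1 ((γ.2 (ψ.symm (labels.t p q))).2
        ((hlab _).2 ⟨p, q, hpq, hψ _⟩))
      exact ⟨r, s, hrs, he⟩)
  obtain ⟨π, -, -, hπ⟩ := labels.exists_hom act lin hact
  have hπi : Function.Injective π := by
    rw [← MonoidHom.ker_eq_bot_iff, hπ, eq_bot_iff_forall]
    intro γ hγ
    refine Subtype.ext (MulEquiv.ext fun t => (vbits_co_bij F).1 ?_)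
    have := (hker γ).1 hγ (φ t)
    rwa [hlin, hψ'] at this
  let c : ↥(NV R) →* MulAut ↥R.V0 := R.V0.normalizerMonoidHom
  have hc : ∀ (n : NV R) (t : R.V0), ((c n t : R.V0) : G) = n * t * (n : G)⁻¹ := fun _ _ => rfl
  have hout : ∀ {k t : G}, k ∈ NV R → t ∈ outside R → k * t * k⁻¹ ∈ outside R := by
    rintro k t hk ⟨h1, h2, h3⟩
    refine ⟨(mem_normalizer_iff.1 hk _).1 h1, fun e => h2 (conj_eq_one_iff.1 e), fun e => h3 ?_⟩
    have := zO_conj R (inv_mem hk) e
    simpa [mul_assoc] using this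
  have hle : c.range ≤ outAut R := by
    rintro _ ⟨n, rfl⟩ t
    rw [hc]
    refine ⟨fun h => ?_, hout n.2⟩
    have := hout (inv_mem n.2) h
    simpa [mul_assoc] using this
  have hker' : Nat.card c.ker = 2 ^ 11 := by
    show Nat.card (R.V0.normalizerMonoidHom.ker) = _
    rw [normalizerMonoidHom_ker, Nat.card_congr (subgroupOfEquivOfLe (centralizer_le_normalizer _)).toEquiv,
      centralizer_V0 R o, R.card_V0]
  have hr : Nat.card c.range = Nat.card ↥Cfsg.M24 := by
    have h := c.ker.card_mul_index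
    rw [index_ker, hker', card_NV0 (R := R) hG o] at h
    exact Nat.eq_of_mul_eq_mul_left (by norm_num) h
  have heq : c.range = outAut R := Subgroup.eq_of_le_of_card_ge hle (by
    rw [hr]; exact Nat.card_le_card_of_injective π hπi)
  intro γ hγ
  obtain ⟨n, rfl⟩ : γ ∈ c.range := heq ▸ hγ
  exact ⟨n, hc n⟩

/-- An automorphism in coordinates preserving the pattern is induced by the normalizer. -/
theorem exists_acts [IsSimpleGroup G] (hG : ¬ IsMulCommutative G) (o : Outer z E P N e)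
    (F : Lifts R) (hM : ∀ a < 2048, (tMask 653).testBit a = true ↔ F.pt a ∈ outside R)
    {A : List ℕ} (hA : ∀ a ∈ A, a < 2 ^ 11)
    (hmask : ∀ a < 2048, (tMask 653).testBit (ap A a) = (tMask 653).testBit a)
    (hinj : ∀ a < 2048, ap A a = 0 → a = 0) : ∃ n : G, Acts F n (ap A) := by
  classical
  let f : R.V0 →* R.V0 := MonoidHom.mk' (fun t => ⟨F.pt (ap A (co F t)), pt_mem F _⟩) fun s t =>
    Subtype.ext (by simp only [co_mul, ap_xor, Subgroup.coe_mul]; exact pt_xor F _ _)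
  have hf : Function.Bijective f := Finite.injective_iff_bijective.1 fun s t h => by
    have h1 := pt_inj F (ap_lt hA _) (ap_lt hA _) (congrArg (fun q : R.V0 => (q : G)) h)
    refine Subtype.ext ?_
    rw [← pt_co F s, ← pt_co F t, Nat.xor_eq_zero_iff.1 (hinj _
      (Nat.xor_lt_two_pow (n := 11) (co_lt F s) (co_lt F t)) (by rw [ap_xor, h1, Nat.xor_self]))]
  obtain ⟨n, hn⟩ := range_eq_outAut hG o F hM (MulEquiv.ofBijective f hf) fun t => by
    show F.pt (ap A (co F t)) ∈ outside R ↔ _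
    rw [← hM _ (ap_lt hA _), hmask _ (co_lt F t), hM _ (co_lt F t), pt_co]
  refine ⟨n, fun a ha => ⟨ap_lt hA _, ?_⟩⟩
  have h := hn ⟨F.pt a, pt_mem F a⟩
  change F.pt (ap A (co F ⟨F.pt a, pt_mem F a⟩)) = _ at h
  rw [co_pt F ha] at h
  exact h.symm

end H19.J4V
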