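import Cfsg.Agent.H19.J4V.Count

/-!
The normalizer of the elementary subgroup is not transitive on its involutions, so the conjugates of
`z` number `1771`.
-/

set_option autoImplicit false
set_option maxRecDepth 20000
set_option maxHeartbeats 400000
set_option linter.unusedSectionVars false
set_option linter.style.haveILetI false

namespace H19.J4V

open Subgroup Cfsg.Agent.H69.J4 H88.J4Fusion

variable {G : Type*} [Group G] [Finite G]
variable {z : G} {E P N : Subgroup G} {d : Data z E P} {R : Real d}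
variable {e : ↥(centralizer ({z} : Set G)) →* MulAut ↥Cfsg.Spor.M22}

theorem j45_num : ∀ j ∈ j45, (2047 * (2 ^ 10 * j)) % 7921 ≠ 0 ∧ (2047 * (2 ^ 10 * j)) % 89 = 0 := by
  decide +kernel

theorem pow_two_89 : ∀ k < 12, 2 ^ k % 89 = 1 → k = 0 ∨ k = 11 := by decide

theorem not_transitive (o : Outer z E P N e) : Nat.card (zO R) ≠ 2047 := by
  classical
  intro hall
  haveI : Fact (Nat.Prime 89) := ⟨by norm_num⟩
  haveI : Fact (Nat.Prime 2) := ⟨Nat.prime_two⟩
  obtain ⟨j, hj, h45, hj'⟩ := card_stab (R := R) o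
  have hjm := j45_ok j hj h45
  let ψ : ↥(NV R) →* MulAut ↥R.V0 := R.V0.normalizerMonoidHom
  have hker : Nat.card ψ.ker = 2 ^ 11 := by
    show Nat.card (R.V0.normalizerMonoidHom.ker) = _
    rw [normalizerMonoidHom_ker, Nat.card_congr (subgroupOfEquivOfLe (centralizer_le_normalizer _)).toEquiv,
      centralizer_V0 R o, R.card_V0]
  set X := ψ.range with hX
  have hXc : Nat.card X = 2047 * (2 ^ 10 * j) := by
    have h := ψ.ker.card_mul_index
    rw [index_ker, hker, NV_stab o, hall, hj', show 2047 * (2 ^ 21 * j) = 2 ^ 11 * (2047 * (2 ^ 10 * j)) by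
      ring] at h
    exact Nat.eq_of_mul_eq_mul_left (by norm_num) h
  obtain ⟨hsq, hdv⟩ := j45_num j hjm
  obtain ⟨S⟩ := (inferInstance : Nonempty (Sylow 89 X))
  have hS : Nat.card S = 89 := by
    obtain ⟨k, hk⟩ := S.isPGroup'.exists_card_eq
    have hd : 89 ^ k ∣ Nat.card X := hk ▸ card_subgroup_dvd_card _
    rcases k with _ | _ | k
    · exfalso
      have h := (S : Subgroup X).card_mul_index
      rw [hk, pow_zero, one_mul] at h
      exact S.not_dvd_index (h ▸ hXc ▸ Nat.dvd_of_mod_eq_zero hdv)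
    · simpa using hk
    · exact absurd (Nat.mod_eq_zero_of_dvd
        ((pow_dvd_pow 89 (show 2 ≤ k + 2 by omega)).trans (hXc ▸ hd))) (by simpa using hsq)
  -- fixed points are all or nothing
  have hfixcard : ∀ (F : Subgroup R.V0), Nat.card F ≡ 1 [MOD 89] → F = ⊥ ∨ F = ⊤ := by
    intro F hF
    obtain ⟨k, hk, hke⟩ := (Nat.dvd_prime_pow Nat.prime_two).1
      (R.card_V0 ▸ card_subgroup_dvd_card F : Nat.card F ∣ 2 ^ 11)
    rw [hke] at hF
    rcases pow_two_89 k (Nat.lt_succ_of_le hk) hF with rfl | rfl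
    · exact Or.inl (eq_bot_of_card_eq _ (by simpa using hke))
    · exact Or.inr (eq_top_of_card_eq _ (by rw [hke, R.card_V0]))
  let fixd : X → Subgroup R.V0 := fun c => (c : MulAut R.V0).toMonoidHom.eqLocus (MonoidHom.id _)
  have hmemfix : ∀ (c : X) (u : R.V0), u ∈ fixd c ↔ (c : MulAut R.V0) u = u := fun _ _ => Iff.rfl
  have hp89 : IsPGroup 89 S := IsPGroup.of_card (n := 1) (by rw [hS, pow_one])
  obtain ⟨x, hxS, hx1⟩ : ∃ x : X, x ∈ S ∧ x ≠ 1 := by
    haveI : Nontrivial (S : Subgroup X) := Finite.one_lt_card_iff_nontrivial.1 (by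
      rw [show Nat.card (S : Subgroup X) = 89 from hS]; norm_num)
    obtain ⟨⟨x, hx⟩, hne⟩ := exists_ne (1 : (S : Subgroup X))
    exact ⟨x, hx, fun h => hne (Subtype.ext h)⟩
  have hSx : (S : Subgroup X) = zpowers x := by
    refine (Subgroup.eq_of_le_of_card_ge (zpowers_le.2 hxS) ?_).symm
    have hd : orderOf x ∣ 89 := by rw [← hS]; exact orderOf_dvd_natCard _ hxS
    rw [Nat.card_zpowers, ((Nat.dvd_prime (by norm_num)).1 hd).resolve_left
      fun h => hx1 (orderOf_eq_one_iff.1 h), show Nat.card (S : Subgroup X) = 89 from hS]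
  have hxfree : fixd x = ⊥ := by
    refine (hfixcard _ ?_).resolve_right fun h => hx1 (Subtype.ext (MulEquiv.ext fun u => ?_))
    · letI : MulAction S R.V0 := MulAction.compHom _ ((X.subtype.comp (S : Subgroup X).subtype))
      have hm := hp89.card_modEq_card_fixedPoints R.V0
      have he : Nat.card (MulAction.fixedPoints S R.V0) = Nat.card (fixd x) := by
        refine Nat.card_congr (Equiv.subtypeEquivRight fun u => ?_)
        rw [MulAction.mem_fixedPoints, hmemfix]
        refine ⟨fun h => h ⟨x, hxS⟩, fun h s => ?_⟩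
        have hs : (s : X) ∈ zpowers x := by rw [← hSx]; exact s.2
        obtain ⟨k, hk⟩ := mem_zpowers_iff.1 hs
        have hst : x ∈ MulAction.stabilizer X u := h
        have : (s : X) ∈ MulAction.stabilizer X u := by rw [← hk]; exact zpow_mem hst k
        exact this
      rw [← he]
      refine hm.symm.trans ?_
      rw [R.card_V0]; rfl
    · exact (hmemfix x u).1 (h ▸ mem_top u)
  set C := centralizer ((S : Subgroup X) : Set X) with hC
  have hfree : ∀ c ∈ C, ∀ u : R.V0, u ≠ 1 → (c : MulAut R.V0) u = u → c = 1 := by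
    intro c hc u hu hcu
    have hF : fixd c ≠ ⊥ := fun h => hu (mem_bot.1 (h ▸ (hmemfix c u).2 hcu))
    refine Subtype.ext (MulEquiv.ext fun v => (hmemfix c v).1 ?_)
    rw [(hfixcard _ ?_).resolve_left hF]
    · exact mem_top v
    letI : MulAction S (fixd c) :=
      { smul := fun s w => ⟨((s : X) : MulAut R.V0) w, by
          rw [hmemfix]
          have h := congrArg (fun q : X => (q : MulAut R.V0) w) (mem_centralizer_iff.1 hc s s.2).symm
          simp only [Subgroup.coe_mul, MulAut.mul_apply] at h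
          rw [h, (hmemfix c w).1 w.2]⟩
        one_smul := fun w => Subtype.ext rfl
        mul_smul := fun a b w => Subtype.ext rfl }
    have hm := hp89.card_modEq_card_fixedPoints (fixd c)
    haveI : Subsingleton (MulAction.fixedPoints S (fixd c)) := ⟨fun a b => by
      have key : ∀ w : MulAction.fixedPoints S (fixd c), ((w : fixd c) : R.V0) = 1 := fun w => by
        have hw : ((w : fixd c) : R.V0) ∈ fixd x :=
          (hmemfix x _).2 (congrArg Subtype.val (w.2 ⟨x, hxS⟩))
        rwa [hxfree, mem_bot] at hw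
      exact Subtype.ext (Subtype.ext ((key a).trans (key b).symm))⟩
    haveI : Nonempty (MulAction.fixedPoints S (fixd c)) :=
      ⟨⟨1, fun s => Subtype.ext (map_one ((s : X) : MulAut R.V0))⟩⟩
    rwa [Nat.card_unique (α := MulAction.fixedPoints S (fixd c))] at hm
  have hC2047 : Nat.card C ∣ 2047 := by
    letI : MulAction C {u : R.V0 // u ≠ 1} :=
      { smul := fun c u => ⟨((c : X) : MulAut R.V0) u, fun h => u.2 (by simpa using h)⟩
        one_smul := fun u => Subtype.ext rfl
        mul_smul := fun a b u => Subtype.ext rfl }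
    haveI := Fintype.ofFinite {u : R.V0 // u ≠ 1}
    have hc : Nat.card {u : R.V0 // u ≠ 1} = 2047 := by
      haveI := Fintype.ofFinite R.V0
      rw [Nat.card_eq_fintype_card, Fintype.card_subtype_compl, Fintype.card_subtype_eq,
        ← Nat.card_eq_fintype_card, R.card_V0]
      norm_num
    rw [← hc, Nat.card_congr (MulAction.selfEquivSigmaOrbits C {u : R.V0 // u ≠ 1}), Nat.card_sigma]
    refine Finset.dvd_sum fun q _ => ?_
    rw [Nat.card_coe_set_eq, ← MulAction.index_stabilizer, show MulAction.stabilizer C q.out = ⊥ by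
      refine (eq_bot_iff_forall _).2 fun c hc => Subtype.ext ?_
      exact hfree c c.2 _ q.out.2 (congrArg Subtype.val hc), index_bot]
  have hSC : (S : Subgroup X) ≤ C := by
    rw [hC, hSx]
    intro a ha
    refine mem_centralizer_iff.2 fun b hb => ?_
    obtain ⟨m, rfl⟩ := mem_zpowers_iff.1 ha
    obtain ⟨n, rfl⟩ := mem_zpowers_iff.1 hb
    exact Commute.zpow_zpow_self x n m
  have hc : Nat.card C ∈ [89, 2047] := by
    obtain ⟨k, hk⟩ := hS ▸ card_dvd_of_le hSC
    rw [hk] at hC2047
    have h23 : k ∣ 23 := Nat.dvd_of_mul_dvd_mul_left (by norm_num : 0 < 89) (by simpa using hC2047)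
    rcases (Nat.dvd_prime (by norm_num)).1 h23 with rfl | rfl <;> simp [hk]
  set Nn := normalizer ((S : Subgroup X) : Set X)
  let φ : ↥Nn →* MulAut ↥(S : Subgroup X) := (S : Subgroup X).normalizerMonoidHom
  have hkφ : Nat.card φ.ker = Nat.card C := by
    show Nat.card ((S : Subgroup X).normalizerMonoidHom.ker) = _
    rw [normalizerMonoidHom_ker, Nat.card_congr (subgroupOfEquivOfLe (centralizer_le_normalizer _)).toEquiv]
  haveI : IsCyclic S := isCyclic_of_prime_card hS
  have ha : Nat.card φ.range ∈ [1, 2, 4, 8, 11, 22, 44, 88] := by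
    have h : Nat.card φ.range ∣ 88 := by
      refine (card_subgroup_dvd_card φ.range).trans (dvd_of_eq ?_)
      rw [IsCyclic.card_mulAut, show Nat.card (S : Subgroup X) = 89 from hS,
        Nat.totient_prime (by norm_num)]
    have key : ∀ a < 89, a ∣ 88 → a ∈ [1, 2, 4, 8, 11, 22, 44, 88] := by decide +kernel
    exact key _ (Nat.lt_succ_of_le (Nat.le_of_dvd (by norm_num) h)) h
  have hN : Nat.card Nn = Nat.card C * Nat.card φ.range := by
    rw [← hkφ, ← index_ker, φ.ker.card_mul_index]
  have hidx := Nn.card_mul_index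
  rw [hN, hXc] at hidx
  refine sylow_89 j hjm _ hc _ ha ⟨_, hidx.symm⟩ ?_
  rw [← hidx, Nat.mul_div_cancel_left _ (by
    have := Nat.card_pos (α := Nn); rwa [hN] at this)]
  have h := card_sylow_modEq_one 89 X
  rwa [S.card_eq_index_normalizer] at h

/-- The conjugates of `z` in the elementary subgroup. -/
structure Shape (F : Lifts R) : Prop where
  inner : (zO R ∩ R.sHat) \ {z} = lifts R orb1
  long : ∀ x < 16, x ≠ 0 → F.pt (oRoot x 2) ∈ zO R
  short : ∀ x < 16, x ≠ 0 → (F.pt (oRoot x 0) ∈ zO R ↔ F.pt (oRoot x 1) ∉ zO R)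
  card : Nat.card (zO R) = 1771

theorem exists_shape [IsSimpleGroup G] (hG : ¬ IsMulCommutative G) (o : Outer z E P N e)
    (F : Lifts R) : Shape F := by
  classical
  set m := Nat.card (part R (d.ρ ⟨F.kx 1, kx_H F 1⟩)) with hm
  set A := (zO R ∩ R.sHat) \ {z} with hA
  have hsum : Nat.card (zO R) = 1 + A.ncard + 15 * m := card_zO_eq F
  obtain ⟨hdvd, -⟩ := card_zO R o
  have hb := card_part F (x := 1) (by norm_num) (by norm_num)
  rw [← hm] at hb
  rw [hsum, hb] at hdvd
  have key := sizes_mult _ (inner_card R) _ _ _ hdvd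
  rw [← hb] at key
  rcases key with ⟨ha, hm'⟩ | ⟨ha, hm'⟩ | ⟨ha, hm'⟩ | ⟨ha, hm'⟩
  · refine ⟨inner_ninety ha, fun x hx hx0 => ?_, fun x hx hx0 => ?_, by rw [hsum, ha, hm']⟩ <;>
    · have h := card_part F hx hx0
      rw [card_part_eq F hx hx0, ← hm, hm'] at h
      by_cases h0 : F.pt (oRoot x 0) ∈ zO R <;> by_cases h1 : F.pt (oRoot x 1) ∈ zO R <;>
        by_cases h2 : F.pt (oRoot x 2) ∈ zO R <;> simp [h0, h1, h2] at h ⊢
  · exfalso
    obtain ⟨g, hg, hgz⟩ := exists_conj_V0 R hG o
    have h2 : ({g * z * g⁻¹, z} : Set G) ⊆ zO R := by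
      rintro x (rfl | rfl)
      · exact ⟨hg, g, rfl⟩
      · exact z_mem_zO R
    have h3 := Set.ncard_le_ncard h2 (Set.toFinite _)
    rw [Set.ncard_pair hgz, ← Nat.card_coe_set_eq, hsum, ha, hm'] at h3
    omega
  · exfalso
    have hout : zO R \ R.sHat = ∅ := (Set.ncard_eq_zero (Set.toFinite _)).1 (by
      rw [outer_card R (x0_code F), ← hm, hm'])
    refine not_all R o (fun s hs hs1 => ?_) fun t ht => by
      by_contra h
      exact (Set.eq_empty_iff_forall_notMem.1 hout) t ⟨ht, h⟩
    have hsub : A ⊆ (R.sHat : Set G) \ {1, z} := fun x hx =>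
      ⟨hx.1.2, by rintro (e | e); exacts [(zO_sq R hx.1.1).2 e, hx.2 e]⟩
    have heq := Set.eq_of_subset_of_ncard_le hsub (by
      rw [ha, Set.ncard_sdiff (by rintro x (rfl | rfl); exacts [one_mem _, R.z_mem_sHat]) (Set.toFinite _),
        Set.ncard_pair d.L.z_ne_one.symm, ← Nat.card_coe_set_eq]
      show Nat.card R.sHat - 2 ≤ 126
      rw [R.card_sHat]) (Set.toFinite _)
    rcases eq_or_ne s z with rfl | hsz
    · exact z_mem_zO R
    · have : s ∈ A := heq.symm ▸ ⟨hs, by rintro (e | e); exacts [hs1 e, hsz e]⟩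
      exact this.1.1
  · exact absurd (by rw [hsum, ha, hm']) (not_transitive (R := R) o)

/-- The order of the normalizer of the elementary subgroup. -/
theorem card_NV {F : Lifts R} (hS : Shape F) (o : Outer z E P N e) :
    ∃ j : ℕ, j ∣ 10395 ∧ 45 ∣ j ∧ Nat.card (NV R) = 1771 * (2 ^ 21 * j) := by
  obtain ⟨j, hj, h45, hj'⟩ := card_stab (R := R) o
  exact ⟨j, hj, h45, by rw [NV_stab o, hS.card, hj']⟩

end H19.J4V
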